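import Groth.Agent.L08.UnitsLines
import Mathlib.RingTheory.TensorProduct.Basic
import Mathlib.RingTheory.TensorProduct.Finite
import Mathlib.RingTheory.Jacobson.Ring
import Mathlib.RingTheory.Nullstellensatz

/-!
# Units on a product of affine varieties split
-/

set_option autoImplicit false
set_option linter.style.haveILetI false

universe u

open TensorProduct

namespace Groth.L08.Cube.NP

variable {k : Type u} [Field k] [IsAlgClosed k]

/-- An element of a reduced algebra of finite type vanishes if it vanishes at all rational points. -/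
theorem eq_zero_of_forall_point {R : Type u} [CommRing R] [IsReduced R] [Algebra k R] [Algebra.FiniteType k R]
    {r : R} (h : ∀ v : R →ₐ[k] k, v r = 0) : r = 0 := by
  haveI : IsJacobsonRing R := isJacobsonRing_of_finiteType (A := k)
  have hj : (⊥ : Ideal R).jacobson = ⊥ :=
    IsJacobsonRing.out ‹_› (Ideal.radical_eq_iff.1 Ideal.radical_bot_of_isReduced)
  rw [← Ideal.mem_bot, ← hj]
  refine Ideal.mem_sInf.2 ?_
  rintro m ⟨-, hm⟩
  haveI := hm
  letI : Field (R ⧸ m) := Ideal.Quotient.field m
  haveI : Module.Finite k (R ⧸ m) := finite_of_finite_type_of_isJacobsonRing k (R ⧸ m)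
  have hb := IsAlgClosed.algebraMap_bijective_of_isIntegral (k := k) (K := R ⧸ m)
  let e : k ≃ₐ[k] R ⧸ m := AlgEquiv.ofBijective (Algebra.ofId k _) hb
  have h1 := h (e.symm.toAlgHom.comp (Ideal.Quotient.mkₐ k m))
  have h2 : Ideal.Quotient.mk m r = 0 := by
    have := congrArg e h1
    rw [map_zero] at this
    rw [← this]
    exact (e.apply_symm_apply _).symm
  exact Ideal.Quotient.eq_zero_iff_mem.1 h2

/-- The value of a function on a product at a pair of points. -/
noncomputable abbrev pairVal {R S : Type u} [CommRing R] [CommRing S] [Algebra k R] [Algebra k S]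
    (v : R →ₐ[k] k) (w : S →ₐ[k] k) : R ⊗[k] S →ₐ[k] k :=
  Algebra.TensorProduct.lift v w fun _ _ => Commute.all _ _

/-- **Units on a product split.** -/
theorem unit_split {R S : Type u} [CommRing R] [CommRing S] [IsDomain R] [IsDomain S] [Algebra k R]
    [Algebra k S] [Algebra.FiniteType k R] [Algebra.FiniteType k S] (g : R ⊗[k] S) (hg : IsUnit g)
    (v v' : R →ₐ[k] k) (w w' : S →ₐ[k] k) :
    pairVal v w g * pairVal v' w' g = pairVal v w' g * pairVal v' w g := by
  classical
  obtain ⟨T, hT⟩ := TensorProduct.exists_finset g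
  let E : Submodule k S := Submodule.span k ((T.image Prod.snd : Finset S) : Set S)
  haveI : FiniteDimensional k E := FiniteDimensional.span_finset k _
  let sliceR : (R →ₐ[k] k) → (R ⊗[k] S →ₐ[k] S) := fun x =>
    Algebra.TensorProduct.lift ((Algebra.ofId k S).comp x) (AlgHom.id k S) fun _ _ => Commute.all _ _
  let sliceS : (S →ₐ[k] k) → (R ⊗[k] S →ₐ[k] R) := fun y =>
    Algebra.TensorProduct.lift (AlgHom.id k R) ((Algebra.ofId k R).comp y) fun _ _ => Commute.all _ _
  have hR : ∀ x y, y (sliceR x g) = pairVal x y g := fun x y => by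
    have : y.comp (sliceR x) = pairVal x y := Algebra.TensorProduct.ext' fun a b => by simp [sliceR, pairVal]
    exact DFunLike.congr_fun this g
  have hS : ∀ x y, x (sliceS y g) = pairVal x y g := fun x y => by
    have : x.comp (sliceS y) = pairVal x y := Algebra.TensorProduct.ext' fun a b => by simp [sliceS, pairVal]
    exact DFunLike.congr_fun this g
  have hE : ∀ x, sliceR x g ∈ E := fun x => by
    rw [hT, map_sum]
    refine Submodule.sum_mem _ fun i hi => ?_
    simp only [sliceR, Algebra.TensorProduct.lift_tmul, AlgHom.comp_apply, Algebra.ofId_apply, AlgHom.coe_id, id_eq,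
      ← Algebra.smul_def]
    exact Submodule.smul_mem _ _ (Submodule.subset_span (Finset.mem_image_of_mem Prod.snd hi))
  obtain ⟨s, hs⟩ := Groth.L08.UnitsLines.exists_finset_lines S E
  let vals : Finset k := s.image fun z => w z / w' z
  have hw0 : ∀ (x : R →ₐ[k] k) (y : S →ₐ[k] k), pairVal x y g ≠ 0 := fun x y => (hg.map (pairVal x y)).ne_zero
  have hval : ∀ x : R →ₐ[k] k, pairVal x w g / pairVal x w' g ∈ vals := by
    intro x
    obtain ⟨z, hz, c, hc⟩ := hs _ (hE x) (hg.map (sliceR x))
    refine Finset.mem_image.2 ⟨z, hz, ?_⟩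
    have h0 := hw0 x w'
    rw [← hR, hc, map_smul, smul_eq_mul, mul_ne_zero_iff] at h0
    rw [← hR x w, ← hR x w', hc, map_smul, map_smul, smul_eq_mul, smul_eq_mul, mul_div_mul_left _ _ h0.1]
  -- the quotient is a regular function with finitely many values
  obtain ⟨u', hu'⟩ := hg.map (sliceS w')
  let q : R := sliceS w g * ↑u'⁻¹
  have hq : ∀ x : R →ₐ[k] k, x q = pairVal x w g / pairVal x w' g := fun x => by
    rw [eq_div_iff (hw0 x w'), ← hS, ← hS, ← hu', ← map_mul, mul_assoc, Units.inv_mul, mul_one]
  have hprod : ∏ c ∈ vals, (q - algebraMap k R c) = 0 := eq_zero_of_forall_point (k := k) fun x => by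
    rw [map_prod]
    refine Finset.prod_eq_zero (hval x) ?_
    rw [map_sub, AlgHom.commutes, Algebra.algebraMap_self, RingHom.id_apply, hq, sub_self]
  obtain ⟨c, -, hc⟩ := Finset.prod_eq_zero_iff.1 hprod
  have hconst : ∀ x : R →ₐ[k] k, pairVal x w g / pairVal x w' g = c := fun x => by
    rw [← hq, sub_eq_zero.1 hc, AlgHom.commutes, Algebra.algebraMap_self, RingHom.id_apply]
  have := (hconst v).trans (hconst v').symm
  rw [div_eq_div_iff (hw0 v w') (hw0 v' w')] at this
  rw [this, mul_comm]

end Groth.L08.Cube.NP
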