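import Groth.Agent.L08.Cube.NP.Universal
import Groth.Agent.L08.Cube.NoCurve
import Groth.Prelude.Def_Pic13

/-!
# Invertible modules algebraically equivalent to zero on a product of smooth varieties
-/

set_option autoImplicit false
set_option linter.style.haveILetI false
set_option linter.unusedSectionVars false
set_option maxSynthPendingDepth 3
set_option backward.isDefEq.respectTransparency false

universe u

open CategoryTheory CategoryTheory.Limits MonoidalCategory CartesianMonoidalCategory AlgebraicGeometry TopologicalSpace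

noncomputable section

namespace Groth.L08.Cube.NP

open Groth.Agent.AbDualLib

attribute [local instance] clMonoid

variable {k : Type u} [Field k] [IsAlgClosed k]

local notation "𝟙k" => (𝟙_ (Over (Spec (CommRingCat.of k))))

/-- A function on rational points of a connected scheme which is constant along smooth curves is
constant. -/
theorem eq_of_curveLink {α : Type*} (T : Over (Spec (CommRingCat.of k))) [LocallyOfFiniteType T.hom]
    [QuasiCompact T.hom] [ConnectedSpace T.left] (F : (𝟙k ⟶ T) → α)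
    (h : ∀ a a', CurveLink T a a' → F a = F a') (a a' : 𝟙k ⟶ T) : F a = F a' := by
  haveI : IsLocallyNoetherian T.left := LocallyOfFiniteType.isLocallyNoetherian T.hom
  haveI : CompactSpace T.left := QuasiCompact.compactSpace_of_compactSpace T.hom
  haveI : IsNoetherian T.left := {}
  haveI : JacobsonSpace T.left := LocallyOfFiniteType.jacobsonSpace T.hom
  have hfin : (irreducibleComponents T.left).Finite := NoetherianSpace.finite_irreducibleComponents
  -- constancy on each component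
  have hC : ∀ C ∈ irreducibleComponents T.left, ∀ x y : 𝟙k ⟶ T, kpt x ∈ C → kpt y ∈ C → F x = F y := by
    intro C hC x y hx hy
    let Z : Closeds T.left := ⟨C, isClosed_of_mem_irreducibleComponents C hC⟩
    let I := Scheme.IdealSheafData.vanishingIdeal Z
    haveI := isIntegral_vanishingIdeal Z hC.1
    have hr : Set.range I.subschemeι = C := by
      rw [I.range_subschemeι, Scheme.IdealSheafData.coe_support_vanishingIdeal]
      rfl
    let Y : Over (Spec (CommRingCat.of k)) := Over.mk (I.subschemeι ≫ T.hom)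
    haveI : LocallyOfFiniteType Y.hom := inferInstanceAs (LocallyOfFiniteType (I.subschemeι ≫ T.hom))
    haveI : AlgebraicGeometry.IsIntegral Y.left := inferInstanceAs (AlgebraicGeometry.IsIntegral I.subscheme)
    let j : Y ⟶ T := Over.homMk I.subschemeι rfl
    have hlift : ∀ z : 𝟙k ⟶ T, kpt z ∈ C → ∃ z' : 𝟙k ⟶ Y, z' ≫ j = z := by
      intro z hz
      obtain ⟨p, hp⟩ : kpt z ∈ Set.range I.subschemeι := hr.symm ▸ hz
      have hpc : IsClosed ({p} : Set Y.left) := by
        have : ({p} : Set I.subscheme) = I.subschemeι ⁻¹' {kpt z} := by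
          ext q
          exact ⟨fun e => by rw [Set.mem_singleton_iff.1 e]; exact hp,
            fun e => I.subschemeι.isEmbedding.injective ((show I.subschemeι q = kpt z from e).trans hp.symm)⟩
        show IsClosed ({p} : Set I.subscheme)
        rw [this]
        exact (isClosed_kpt z).preimage I.subschemeι.continuous
      obtain ⟨z', hz'⟩ := exists_kpt (A := Y) p hpc
      refine ⟨z', kpt_injective ?_⟩
      show (z' ≫ j).left (IsLocalRing.closedPoint k) = kpt z
      rw [Over.comp_left, Scheme.Hom.comp_apply, show z'.left (IsLocalRing.closedPoint k) = p from hz']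
      exact hp
    obtain ⟨x', rfl⟩ := hlift x hx
    obtain ⟨y', rfl⟩ := hlift y hy
    have hl : ∀ u v, CurveLink Y u v → CurveLink T (u ≫ j) (v ≫ j) := by
      rintro u v ⟨X, h₁, h₂, h₃, V, g, c, c', rfl, rfl⟩
      exact ⟨X, h₁, h₂, h₃, V, g ≫ j, c, c', (Category.assoc _ _ _).symm, (Category.assoc _ _ _).symm⟩
    have key : ∀ u v, Relation.EqvGen (CurveLink Y) u v → F (u ≫ j) = F (v ≫ j) := by
      intro u v huv
      induction huv with
      | rel u v huv => exact h _ _ (hl u v huv)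
      | refl u => rfl
      | symm u v _ ih => exact ih.symm
      | trans u v w _ _ ih ih' => exact ih.trans ih'
    exact key _ _ (eqvGen_curveLink Y x' y')
  -- the points with value `F a` and the others lie on disjoint closed sets
  have hclosed : ∀ s : Set (Set T.left), s ⊆ irreducibleComponents T.left → IsClosed (⋃₀ s) := fun s hs => by
    rw [Set.sUnion_eq_biUnion]
    exact (hfin.subset hs).isClosed_biUnion fun C hC => isClosed_of_mem_irreducibleComponents C (hs hC)
  let s₁ := {C ∈ irreducibleComponents T.left | ∀ x : 𝟙k ⟶ T, kpt x ∈ C → F x = F a}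
  let s₂ := {C ∈ irreducibleComponents T.left | C ∉ s₁}
  have hcov : ⋃₀ s₁ ∪ ⋃₀ s₂ = Set.univ := Set.eq_univ_of_forall fun x => by
    obtain ⟨C, hC, hxC⟩ : ∃ C ∈ irreducibleComponents T.left, x ∈ C :=
      ⟨irreducibleComponent x, irreducibleComponent_mem_irreducibleComponents x, mem_irreducibleComponent⟩
    by_cases hs : C ∈ s₁
    · exact Or.inl ⟨C, hs, hxC⟩
    · exact Or.inr ⟨C, ⟨hC, hs⟩, hxC⟩
  have hdisj : Disjoint (⋃₀ s₁) (⋃₀ s₂) := by
    rw [Set.disjoint_iff_inter_eq_empty]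
    by_contra hne
    obtain ⟨z, ⟨hz₁, hz₂⟩, hzc⟩ := nonempty_inter_closedPoints (Set.nonempty_iff_ne_empty.2 hne)
      (((hclosed s₁ fun C hC => hC.1).inter (hclosed s₂ fun C hC => hC.1)).isLocallyClosed)
    obtain ⟨p, rfl⟩ := exists_kpt z hzc
    obtain ⟨C₁, hC₁, hp₁⟩ := hz₁
    obtain ⟨C₂, hC₂, hp₂⟩ := hz₂
    exact hC₂.2 ⟨hC₂.1, fun x hx => (hC C₂ hC₂.1 x p hx hp₂).trans (hC₁.2 p hp₁)⟩
  have hcl : IsClopen (⋃₀ s₁) := by
    refine ⟨hclosed s₁ fun C hC => hC.1, ?_⟩
    rw [← isClosed_compl_iff, show (⋃₀ s₁)ᶜ = ⋃₀ s₂ from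
      (IsCompl.compl_eq ⟨hdisj, codisjoint_iff.2 hcov⟩)]
    exact hclosed s₂ fun C hC => hC.1
  have hne : (⋃₀ s₁).Nonempty := by
    refine ⟨kpt a, irreducibleComponent (kpt a), ⟨irreducibleComponent_mem_irreducibleComponents _, ?_⟩,
      mem_irreducibleComponent⟩
    exact fun x hx => hC _ (irreducibleComponent_mem_irreducibleComponents _) x a hx mem_irreducibleComponent
  have hmem : kpt a' ∈ ⋃₀ s₁ := by rw [hcl.eq_univ hne]; trivial
  obtain ⟨C, hC', hx⟩ := hmem
  exact (hC'.2 a' hx).symm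

/-- Two invertible classes on a triple product which agree on three slices agree. -/
theorem eq_of_slices (A B C : Over (Spec (CommRingCat.of k)))
    [Smooth A.hom] [GeometricallyIntegral A.hom] [IsSeparated A.hom] [QuasiCompact A.hom]
    [Smooth B.hom] [GeometricallyIntegral B.hom] [IsSeparated B.hom] [QuasiCompact B.hom]
    [Smooth C.hom] [GeometricallyIntegral C.hom] [IsSeparated C.hom] [QuasiCompact C.hom]
    {c d : PicF.Cl (A ⊗ B ⊗ C).left} (hc : PicF.IsInvertibleCl c) (hd : PicF.IsInvertibleCl d)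
    (a₀ : 𝟙k ⟶ A) (b₀ : 𝟙k ⟶ B) (c₀ : 𝟙k ⟶ C)
    (h₁ : PicF.pullCl (lift (toUnit (B ⊗ C) ≫ a₀) (lift (fst B C) (snd B C))).left c =
      PicF.pullCl (lift (toUnit (B ⊗ C) ≫ a₀) (lift (fst B C) (snd B C))).left d)
    (h₂ : PicF.pullCl (lift (fst A C) (lift (toUnit _ ≫ b₀) (snd A C))).left c =
      PicF.pullCl (lift (fst A C) (lift (toUnit _ ≫ b₀) (snd A C))).left d)
    (h₃ : PicF.pullCl (lift (fst A B) (lift (snd A B) (toUnit _ ≫ c₀))).left c =
      PicF.pullCl (lift (fst A B) (lift (snd A B) (toUnit _ ≫ c₀))).left d) : c = d := by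
  obtain ⟨b, hb, hdb⟩ := exists_inverseCl hd
  obtain ⟨N, hN, hNi⟩ := isInvertibleCl_mulCl hc hb
  have key : ∀ {T : Over (Spec (CommRingCat.of k))} (f : T ⟶ A ⊗ B ⊗ C),
      PicF.pullCl f.left c = PicF.pullCl f.left d → PicF.pullCl f.left (PicF.cl N) = 1 := fun f e => by
    rw [hN, ← clMul_def, pullCl_mul, e, ← pullCl_mul, hdb, pullCl_one]
  have h := trivial_triple A B C N hNi a₀ b₀ c₀ (key _ h₁) (key _ h₂) (key _ h₃)
  rw [hN, ← clMul_def] at h
  calc c = c * (b * d) := by rw [mul_comm b, hdb, mul_one]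
    _ = d := by rw [← mul_assoc, h, one_mul]

/-- A class on a product decomposes along the axes. -/
def Splits {V W : Over (Spec (CommRingCat.of k))} (v₀ : 𝟙k ⟶ V) (w₀ : 𝟙k ⟶ W) (c : PicF.Cl (V ⊗ W).left) : Prop :=
  c = PicF.pullCl (fst V W).left (PicF.pullCl (lift (𝟙 V) (toUnit V ≫ w₀)).left c) *
    PicF.pullCl (snd V W).left (PicF.pullCl (lift (toUnit W ≫ v₀) (𝟙 W)).left c)

/-- Classes algebraically equivalent to zero on a product split. -/
theorem splits_of_isAlgEquivZero (V W : Over (Spec (CommRingCat.of k)))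
    [Smooth V.hom] [GeometricallyIntegral V.hom] [IsSeparated V.hom] [QuasiCompact V.hom]
    [Smooth W.hom] [GeometricallyIntegral W.hom] [IsSeparated W.hom] [QuasiCompact W.hom]
    (L : (V ⊗ W).left.Modules) (hL : Pic13.IsAlgEquivZero k (V ⊗ W).left L) (v₀ : 𝟙k ⟶ V) (w₀ : 𝟙k ⟶ W) :
    Splits v₀ w₀ (PicF.cl L) := by
  obtain ⟨T₀, q, hT, hq, hqc, M, hM, t, t₀, ht, ht₀, hφ, hφ₀⟩ := hL
  let T : Over (Spec (CommRingCat.of k)) := Over.mk q
  haveI : ConnectedSpace T.left := hT
  haveI : LocallyOfFiniteType T.hom := hq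
  haveI : QuasiCompact T.hom := hqc
  let pr : (V ⊗ W) ⊗ T ⟶ V ⊗ W := fst (V ⊗ W) T
  let M' : ((V ⊗ W) ⊗ T).left.Modules := M
  let P : (𝟙k ⟶ T) → Prop := fun x =>
    Splits v₀ w₀ (PicF.pullCl (lift (𝟙 (V ⊗ W)) (toUnit (V ⊗ W) ≫ x)).left (PicF.cl M'))
  have hslice : ∀ (s : Spec (CommRingCat.of k) ⟶ T₀) (hs : s ≫ q = 𝟙 _),
      (lift (𝟙 (V ⊗ W)) (toUnit (V ⊗ W) ≫ (Over.homMk s hs : 𝟙k ⟶ T))).left =
        Pic13.sliceAt k (V ⊗ W).left q s hs := by
    intro s hs
    apply pullback.hom_ext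
    · refine (congr(($(lift_fst (𝟙 (V ⊗ W)) (toUnit (V ⊗ W) ≫ (Over.homMk s hs : 𝟙k ⟶ T)))).left)).trans ?_
      exact (pullback.lift_fst _ _ _).symm
    · refine (congr(($(lift_snd (𝟙 (V ⊗ W)) (toUnit (V ⊗ W) ≫ (Over.homMk s hs : 𝟙k ⟶ T)))).left)).trans ?_
      exact (pullback.lift_snd _ _ _).symm
  have h₀ : P (Over.homMk t₀ ht₀) := by
    show Splits v₀ w₀ _
    rw [hslice, show PicF.pullCl (Pic13.sliceAt k (V ⊗ W).left q t₀ ht₀) (PicF.cl M') = 1 from
      (PicGrp.cl_eq_cl_iff _ _).2 hφ₀]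
    simp only [Splits, pullCl_one, mul_one]
  have hcurve : ∀ x y, CurveLink T x y → (P x ↔ P y) := by
    suffices ∀ (X : Over (Spec (CommRingCat.of k))) [IsProper X.hom] [Smooth X.hom] [GeometricallyIntegral X.hom]
        (U : X.left.Opens) (g : Over.mk (U.ι ≫ X.hom) ⟶ T) (c c' : 𝟙k ⟶ Over.mk (U.ι ≫ X.hom)),
        P (c ≫ g) → P (c' ≫ g) by
      rintro x y ⟨X, h₁, h₂, h₃, U, g, c, c', rfl, rfl⟩
      exact ⟨this X U g c c', this X U g c' c⟩
    intro X _ _ _ U g c c'
    suffices gen : ∀ (C : Over (Spec (CommRingCat.of k))) [Smooth C.hom] [IsSeparated C.hom] [QuasiCompact C.hom]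
        [GeometricallyIntegral C.hom] (g : C ⟶ T) (c c' : 𝟙k ⟶ C), P (c ≫ g) → P (c' ≫ g) by
      haveI : Smooth (Over.mk (U.ι ≫ X.hom)).hom := inferInstanceAs (Smooth (U.ι ≫ X.hom))
      haveI : IsSeparated (Over.mk (U.ι ≫ X.hom)).hom := inferInstanceAs (IsSeparated (U.ι ≫ X.hom))
      haveI : IsLocallyNoetherian X.left := LocallyOfFiniteType.isLocallyNoetherian X.hom
      haveI : QuasiCompact (Over.mk (U.ι ≫ X.hom)).hom := inferInstanceAs (QuasiCompact (U.ι ≫ X.hom))
      haveI : GeometricallyIntegral (Over.mk (U.ι ≫ X.hom)).hom := by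
        haveI : AlgebraicGeometry.IsIntegral X.left := GeometricallyIntegral.isIntegral_of_subsingleton X.hom
        haveI : Nonempty U.toScheme := ⟨kpt (A := Over.mk (U.ι ≫ X.hom)) c⟩
        haveI : AlgebraicGeometry.IsIntegral U.toScheme := isIntegral_of_isOpenImmersion U.ι
        haveI : AlgebraicGeometry.IsIntegral (Over.mk (U.ι ≫ X.hom)).left := inferInstanceAs (AlgebraicGeometry.IsIntegral U.toScheme)
        exact geometricallyIntegral_of_isAlgClosed _
      exact gen _ g c c'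
    intro C _ _ _ _ g c c' hc
    let f : V ⊗ W ⊗ C ⟶ (V ⊗ W) ⊗ T :=
      lift (lift (fst V (W ⊗ C)) (snd V (W ⊗ C) ≫ fst W C)) (snd V (W ⊗ C) ≫ snd W C ≫ g)
    let N := (Scheme.Modules.pullback f.left).obj M'
    have hN : PicF.IsInvertible N := PicLoc.isInvertible_pullback _ hM
    let p : V ⊗ W ⊗ C ⟶ V := fst V (W ⊗ C)
    let w : V ⊗ W ⊗ C ⟶ W := snd V (W ⊗ C) ≫ fst W C
    let r : V ⊗ W ⊗ C ⟶ C := snd V (W ⊗ C) ≫ snd W C
    let ov := toUnit (V ⊗ W ⊗ C) ≫ v₀
    let ow := toUnit (V ⊗ W ⊗ C) ≫ w₀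
    have heq : sliceCl N p w r * sliceCl N ov ow r = sliceCl N ov w r * sliceCl N p ow r := by
      have hsplit := hc
      simp only [P, Splits] at hsplit
      refine eq_of_slices V W C (isInvertibleCl_mulCl (isInvertibleCl_sliceCl N hN _ _ _) (isInvertibleCl_sliceCl N hN _ _ _))
        (isInvertibleCl_mulCl (isInvertibleCl_sliceCl N hN _ _ _) (isInvertibleCl_sliceCl N hN _ _ _)) v₀ w₀ c ?_ ?_ ?_
      · simp only [pullCl_mul, pullCl_sliceCl, p, w, r, ov, ow, lift_fst, lift_snd, lift_snd_assoc, ← Category.assoc,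
          toUnit_unique (lift (toUnit (W ⊗ C) ≫ v₀) (lift (fst W C) (snd W C)) ≫ toUnit (V ⊗ W ⊗ C)) (toUnit (W ⊗ C))]
      · simp only [pullCl_mul, pullCl_sliceCl, p, w, r, ov, ow, lift_fst, lift_snd, lift_snd_assoc, ← Category.assoc,
          toUnit_unique (lift (fst V C) (lift (toUnit (V ⊗ C) ≫ w₀) (snd V C)) ≫ toUnit (V ⊗ W ⊗ C)) (toUnit (V ⊗ C))]
        ac_rfl
      · simp only [pullCl_mul, pullCl_sliceCl, p, w, r, ov, ow, lift_fst, lift_snd, lift_snd_assoc, ← Category.assoc,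
          toUnit_unique (lift (fst V W) (lift (snd V W) (toUnit (V ⊗ W) ≫ c)) ≫ toUnit (V ⊗ W ⊗ C)) (toUnit (V ⊗ W))]
        rw [sliceCl_const N hN, mul_one, mul_comm]
        refine Eq.trans ?_ (Eq.trans hsplit ?_)
        · show PicF.pullCl _ (PicF.pullCl f.left (PicF.cl M')) = _
          rw [← PicLoc.pullCl_comp, ← Over.comp_left]
          congr 2
          apply CartesianMonoidalCategory.hom_ext <;> simp [f]
        · refine congrArg₂ (· * ·) ?_ ?_ <;>
          · rw [← PicLoc.pullCl_comp, ← PicLoc.pullCl_comp, ← Over.comp_left, ← Over.comp_left]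
            show _ = PicF.pullCl _ (PicF.pullCl f.left (PicF.cl M'))
            rw [← PicLoc.pullCl_comp, ← Over.comp_left]
            congr 2
            apply CartesianMonoidalCategory.hom_ext
            · apply CartesianMonoidalCategory.hom_ext <;> simp [f] <;>
                (try rw [← Category.assoc, toUnit_unique (_ ≫ toUnit _) (toUnit (V ⊗ W))])
            · simp [f]
              (try rw [← Category.assoc, toUnit_unique (_ ≫ toUnit _) (toUnit (V ⊗ W))])
    have h2 := congrArg (PicF.pullCl (lift (fst V W) (lift (snd V W) (toUnit (V ⊗ W) ≫ c'))).left) heq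
    simp only [pullCl_mul, pullCl_sliceCl, p, w, r, ov, ow, lift_fst, lift_snd, lift_snd_assoc, ← Category.assoc,
      toUnit_unique (lift (fst V W) (lift (snd V W) (toUnit (V ⊗ W) ≫ c')) ≫ toUnit (V ⊗ W ⊗ C)) (toUnit (V ⊗ W))] at h2
    rw [sliceCl_const N hN, mul_one, mul_comm] at h2
    simp only [P, Splits]
    refine Eq.trans ?_ (Eq.trans h2 ?_)
    · show _ = PicF.pullCl _ (PicF.pullCl f.left (PicF.cl M'))
      rw [← PicLoc.pullCl_comp, ← Over.comp_left]
      congr 2
      apply CartesianMonoidalCategory.hom_ext <;> simp [f]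
    · refine congrArg₂ (· * ·) ?_ ?_ <;>
      · rw [← PicLoc.pullCl_comp, ← PicLoc.pullCl_comp, ← Over.comp_left, ← Over.comp_left]
        show PicF.pullCl _ (PicF.pullCl f.left (PicF.cl M')) = _
        rw [← PicLoc.pullCl_comp, ← Over.comp_left]
        congr 2
        apply CartesianMonoidalCategory.hom_ext
        · apply CartesianMonoidalCategory.hom_ext <;> simp [f] <;>
            (try rw [← Category.assoc, toUnit_unique (_ ≫ toUnit _) (toUnit (V ⊗ W))])
        · simp [f]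
          (try rw [← Category.assoc, toUnit_unique (_ ≫ toUnit _) (toUnit (V ⊗ W))])
  have h : P (Over.homMk t ht) :=
    (eq_of_curveLink T (fun x => P x) (fun a a' h => propext (hcurve a a' h)) (Over.homMk t₀ ht₀) (Over.homMk t ht)).mp h₀
  show Splits v₀ w₀ (PicF.cl L)
  have e : PicF.cl L = PicF.pullCl (lift (𝟙 (V ⊗ W)) (toUnit (V ⊗ W) ≫ (Over.homMk t ht : 𝟙k ⟶ T))).left (PicF.cl M') := by
    rw [hslice]
    exact ((PicGrp.cl_eq_cl_iff _ _).2 hφ).symm
  rw [e]
  exact h

/-- Algebraic equivalence to zero is preserved by pullback. -/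
theorem isAlgEquivZero_pullback {X Y : Over (Spec (CommRingCat.of k))} (g : Y ⟶ X) (L : X.left.Modules)
    (h : Pic13.IsAlgEquivZero k X.left L) :
    Pic13.IsAlgEquivZero k Y.left ((Scheme.Modules.pullback g.left).obj L) := by
  obtain ⟨T, q, hT, hq, hqc, M, hM, t, t₀, ht, ht₀, ⟨φ⟩, ⟨φ₀⟩⟩ := h
  let G : Pic13.prodK k Y.left q ⟶ Pic13.prodK k X.left q :=
    pullback.map _ _ _ _ g.left (𝟙 T) (𝟙 _) (by rw [Category.comp_id]; exact (Over.w g).symm) (by simp)
  have key : ∀ (s : Spec (CommRingCat.of k) ⟶ T) (hs : s ≫ q = 𝟙 _),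
      Pic13.sliceAt k Y.left q s hs ≫ G = g.left ≫ Pic13.sliceAt k X.left q s hs := by
    intro s hs
    apply pullback.hom_ext
    · simp [G, Pic13.sliceAt]
      exact Category.id_comp _
    · simp [G, Pic13.sliceAt]
  refine ⟨T, q, hT, hq, hqc, (Scheme.Modules.pullback G).obj M, PicLoc.isInvertible_pullback _ hM, t, t₀, ht, ht₀,
    (PicGrp.cl_eq_cl_iff _ _).1 ?_, (PicGrp.cl_eq_cl_iff _ _).1 ?_⟩
  · show PicF.pullCl _ (PicF.pullCl G (PicF.cl M)) = PicF.pullCl g.left (PicF.cl L)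
    rw [← PicLoc.pullCl_comp, key, PicLoc.pullCl_comp]
    exact congrArg _ ((PicGrp.cl_eq_cl_iff _ _).2 ⟨φ⟩)
  · show PicF.pullCl _ (PicF.pullCl G (PicF.cl M)) = oneCl _
    rw [← PicLoc.pullCl_comp, key, PicLoc.pullCl_comp]
    exact (congrArg _ ((PicGrp.cl_eq_cl_iff _ _).2 ⟨φ₀⟩)).trans (pullCl_oneCl _)

end Groth.L08.Cube.NP
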