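import Groth.Agent.L08.Cube.NP.Triple
import Mathlib.AlgebraicGeometry.FunctionField
import Mathlib.FieldTheory.IsAlgClosed.AlgebraicClosure
import Mathlib.CategoryTheory.Comma.Over.Pullback

/-!
# Triviality on a geometric generic fibre
-/

set_option autoImplicit false
set_option linter.style.haveILetI false
set_option linter.unusedSectionVars false
set_option maxSynthPendingDepth 3
set_option backward.isDefEq.respectTransparency false

universe u

open CategoryTheory CategoryTheory.Limits MonoidalCategory CartesianMonoidalCategory AlgebraicGeometry TopologicalSpace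

noncomputable section

namespace Groth.L08.Cube.NP

open Groth.Agent.AbDualLib

attribute [local instance] clMonoid

variable {k : Type u} [Field k]

local notation "𝟙k" => (𝟙_ (Over (Spec (CommRingCat.of k))))

section BC

variable {K : Type u} [Field K] (p : Spec (CommRingCat.of K) ⟶ Spec (CommRingCat.of k))

local notation "𝟙K" => (𝟙_ (Over (Spec (CommRingCat.of K))))

/-- The morphism over `k` corresponding to a morphism to a base change. -/
abbrev dnHom {Z : Over (Spec (CommRingCat.of K))} {X : Over (Spec (CommRingCat.of k))}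
    (f : Z ⟶ (Over.pullback p).obj X) : (Over.map p).obj Z ⟶ X :=
  ((Over.mapPullbackAdj p).homEquiv Z X).symm f

/-- The morphism to a base change corresponding to a morphism over `k`. -/
abbrev upHom {Z : Over (Spec (CommRingCat.of K))} {X : Over (Spec (CommRingCat.of k))}
    (f : (Over.map p).obj Z ⟶ X) : Z ⟶ (Over.pullback p).obj X :=
  (Over.mapPullbackAdj p).homEquiv Z X f

theorem dnHom_comp {Z Z' : Over (Spec (CommRingCat.of K))} {X : Over (Spec (CommRingCat.of k))}
    (s : Z' ⟶ Z) (f : Z ⟶ (Over.pullback p).obj X) : dnHom p (s ≫ f) = (Over.map p).map s ≫ dnHom p f :=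
  (Over.mapPullbackAdj p).homEquiv_naturality_left_symm s f

theorem dnHom_up {Z : Over (Spec (CommRingCat.of K))} {X : Over (Spec (CommRingCat.of k))}
    (f : (Over.map p).obj Z ⟶ X) : dnHom p (upHom p f) = f :=
  Equiv.symm_apply_apply _ f

theorem dnHom_const {T : Over (Spec (CommRingCat.of K))} {X : Over (Spec (CommRingCat.of k))}
    (x : 𝟙k ⟶ X) :
    dnHom p (toUnit T ≫ upHom p (toUnit ((Over.map p).obj 𝟙K) ≫ x)) = toUnit ((Over.map p).obj T) ≫ x := by
  rw [dnHom_comp, dnHom_up, ← Category.assoc,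
    toUnit_unique ((Over.map p).map (toUnit T) ≫ toUnit _) (toUnit ((Over.map p).obj T))]

theorem isSmooth_baseChange (X : Over (Spec (CommRingCat.of k))) [Smooth X.hom] :
    Smooth ((Over.pullback p).obj X).hom :=
  inferInstanceAs (Smooth (pullback.snd X.hom p))

theorem geometricallyIntegral_baseChange (X : Over (Spec (CommRingCat.of k))) [GeometricallyIntegral X.hom] :
    GeometricallyIntegral ((Over.pullback p).obj X).hom :=
  inferInstanceAs (GeometricallyIntegral (pullback.snd X.hom p))

theorem isSeparated_baseChange (X : Over (Spec (CommRingCat.of k))) [IsSeparated X.hom] :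
    IsSeparated ((Over.pullback p).obj X).hom :=
  inferInstanceAs (IsSeparated (pullback.snd X.hom p))

theorem quasiCompact_baseChange (X : Over (Spec (CommRingCat.of k))) [QuasiCompact X.hom] :
    QuasiCompact ((Over.pullback p).obj X).hom :=
  inferInstanceAs (QuasiCompact (pullback.snd X.hom p))

/-- An invertible module on a triple product trivial on three slices is trivial on the slice over
every point with values in an algebraically closed field. -/
theorem trivial_at_field_point [IsAlgClosed K] (A B C : Over (Spec (CommRingCat.of k)))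
    [Smooth A.hom] [GeometricallyIntegral A.hom]
    [Smooth B.hom] [GeometricallyIntegral B.hom] [IsSeparated B.hom] [QuasiCompact B.hom]
    [Smooth C.hom] [GeometricallyIntegral C.hom] [IsSeparated C.hom] [QuasiCompact C.hom]
    (N : (A ⊗ B ⊗ C).left.Modules) (hN : PicF.IsInvertible N) (a₀ : 𝟙k ⟶ A) (b₀ : 𝟙k ⟶ B) (c₀ : 𝟙k ⟶ C)
    (h₁ : sliceCl N (toUnit (B ⊗ C) ≫ a₀) (fst B C) (snd B C) = 1)
    (h₂ : sliceCl N (fst A C) (toUnit _ ≫ b₀) (snd A C) = 1)
    (h₃ : sliceCl N (fst A B) (snd A B) (toUnit _ ≫ c₀) = 1) (η : Over.mk p ⟶ A) :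
    PicF.pullCl (η ▷ (B ⊗ C)).left (PicF.cl N) = 1 := by
  let AK := (Over.pullback p).obj A
  let BK := (Over.pullback p).obj B
  let CK := (Over.pullback p).obj C
  let R := AK ⊗ BK ⊗ CK
  let Φ : (Over.map p).obj R ⟶ A ⊗ B ⊗ C := lift (dnHom p (fst AK (BK ⊗ CK)))
    (lift (dnHom p (snd AK (BK ⊗ CK) ≫ fst BK CK)) (dnHom p (snd AK (BK ⊗ CK) ≫ snd BK CK)))
  let NK : R.left.Modules := (Scheme.Modules.pullback Φ.left).obj N
  have hsl : ∀ {T : Over (Spec (CommRingCat.of K))} (φ : T ⟶ AK) (ψ : T ⟶ BK) (χ : T ⟶ CK),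
      sliceCl NK φ ψ χ = sliceCl N (dnHom p φ) (dnHom p ψ) (dnHom p χ) := by
    intro T φ ψ χ
    show PicF.pullCl _ (PicF.pullCl Φ.left (PicF.cl N)) = _
    rw [← PicLoc.pullCl_comp]
    show PicF.pullCl ((Over.map p).map (lift φ (lift ψ χ)) ≫ Φ).left _ = _
    simp only [Φ, comp_lift, ← dnHom_comp, lift_snd_assoc]
    erw [lift_fst, lift_fst, lift_snd]
  haveI := isSmooth_baseChange p A
  haveI := geometricallyIntegral_baseChange p A
  haveI := isSmooth_baseChange p B
  haveI := geometricallyIntegral_baseChange p B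
  haveI := isSeparated_baseChange p B
  haveI := quasiCompact_baseChange p B
  haveI := isSmooth_baseChange p C
  haveI := geometricallyIntegral_baseChange p C
  haveI := isSeparated_baseChange p C
  haveI := quasiCompact_baseChange p C
  haveI : AlgebraicGeometry.IsIntegral AK.left := GeometricallyIntegral.isIntegral_of_subsingleton AK.hom
  let a₀K : 𝟙K ⟶ AK := upHom p (toUnit _ ≫ a₀)
  let b₀K : 𝟙K ⟶ BK := upHom p (toUnit _ ≫ b₀)
  let c₀K : 𝟙K ⟶ CK := upHom p (toUnit _ ≫ c₀)
  let ηK : 𝟙K ⟶ AK := upHom p (Over.homMk η.left (by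
    show η.left ≫ A.hom = 𝟙 _ ≫ p
    rw [Category.id_comp]
    exact Over.w η))
  have h := trivial_slice AK BK CK NK (PicLoc.isInvertible_pullback _ hN) a₀K b₀K c₀K
    (by
      rw [hsl, dnHom_const]
      have := congrArg (PicF.pullCl (lift (dnHom p (fst BK CK)) (dnHom p (snd BK CK))).left) h₁
      rw [pullCl_sliceCl, pullCl_one] at this
      simpa [← Category.assoc, toUnit_unique
        (lift (dnHom p (fst BK CK)) (dnHom p (snd BK CK)) ≫ toUnit (B ⊗ C)) (toUnit _)] using this)
    (by
      rw [hsl, dnHom_const]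
      have := congrArg (PicF.pullCl (lift (dnHom p (fst AK CK)) (dnHom p (snd AK CK))).left) h₂
      rw [pullCl_sliceCl, pullCl_one] at this
      simpa [← Category.assoc, toUnit_unique
        (lift (dnHom p (fst AK CK)) (dnHom p (snd AK CK)) ≫ toUnit (A ⊗ C)) (toUnit _)] using this)
    (by
      rw [hsl, dnHom_const]
      have := congrArg (PicF.pullCl (lift (dnHom p (fst AK BK)) (dnHom p (snd AK BK))).left) h₃
      rw [pullCl_sliceCl, pullCl_one] at this
      simpa [← Category.assoc, toUnit_unique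
        (lift (dnHom p (fst AK BK)) (dnHom p (snd AK BK)) ≫ toUnit (A ⊗ B)) (toUnit _)] using this) ηK
  let E := Over.mk p
  let Z : Over (Spec (CommRingCat.of K)) := Over.mk (fst E (B ⊗ C)).left
  let ι : (Over.map p).obj Z ⟶ E ⊗ B ⊗ C := Over.homMk (𝟙 (E ⊗ B ⊗ C).left) (by
    exact (Category.id_comp _).trans (Over.w (fst E (B ⊗ C))).symm)
  let s : Z ⟶ BK ⊗ CK := lift (upHom p (ι ≫ snd E (B ⊗ C) ≫ fst B C)) (upHom p (ι ≫ snd E (B ⊗ C) ≫ snd B C))
  have h' := congrArg (PicF.pullCl s.left) h
  rw [pullCl_sliceCl, pullCl_one, hsl, ← Category.assoc, toUnit_unique (s ≫ toUnit (BK ⊗ CK)) (toUnit Z)] at h'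
  simp only [s, lift_fst, lift_snd, dnHom_comp, ηK, dnHom_up] at h'
  refine Eq.trans (congrArg (fun m => PicF.pullCl m (PicF.cl N)) ?_) h'
  refine Eq.trans (Category.id_comp _).symm
    (congrArg (fun m : (Over.map p).obj Z ⟶ A ⊗ B ⊗ C => m.left) (?_ : ι ≫ (η ▷ (B ⊗ C)) = _))
  · apply CartesianMonoidalCategory.hom_ext
    · simp only [Category.assoc, whiskerRight_fst, lift_fst]
      refine Over.OverMorphism.ext ?_
      show 𝟙 _ ≫ (fst E (B ⊗ C)).left ≫ η.left = (toUnit Z).left ≫ η.left
      rw [Category.id_comp]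
      rfl
    · simp only [Category.assoc, whiskerRight_snd, lift_snd]
      apply CartesianMonoidalCategory.hom_ext <;> simp <;> rfl

end BC

end Groth.L08.Cube.NP
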