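import Groth.Agent.L08.Cube.SliceFibre
import Mathlib.AlgebraicGeometry.Morphisms.Flat
import Mathlib.Algebra.Category.Ring.Constructions
import Mathlib.LinearAlgebra.TensorProduct.Basis

/-!
# Functions on a product of affine opens
-/

set_option autoImplicit false
set_option linter.style.haveILetI false
set_option linter.unusedSectionVars false
set_option backward.isDefEq.respectTransparency false

universe u

open CategoryTheory CategoryTheory.Limits MonoidalCategory CartesianMonoidalCategory AlgebraicGeometry TopologicalSpace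

noncomputable section

namespace Groth.L08.Cube.NP

open scoped TensorProduct
open Groth.Agent.AbDualLib

variable {k : Type u} [Field k] (X Y : Over (Spec (CommRingCat.of k)))

/-- The appLE map of equal morphisms. -/
theorem appLE_eq_of_eq {P Q : Scheme.{u}} {f g : P ⟶ Q} (e : f = g) {U : Q.Opens} {V : P.Opens} (h : V ≤ f ⁻¹ᵁ U) :
    f.appLE U V h = g.appLE U V (e ▸ h) := by
  subst e; rfl

/-- The structure map on sections over an open. -/
abbrev strMap (U : X.left.Opens) : k →+* Γ(X.left, U) :=
  ((Scheme.ΓSpecIso (CommRingCat.of k)).inv ≫ X.hom.appLE ⊤ U le_top).hom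

variable (T : X.left.Opens) (V : Y.left.Opens)

/-- The product of two opens. -/
abbrev prodOpen : (X ⊗ Y).left.Opens := (fst X Y).left ⁻¹ᵁ T ⊓ (snd X Y).left ⁻¹ᵁ V

theorem isAffineOpen_prodOpen (hT : IsAffineOpen T) (hV : IsAffineOpen V) : IsAffineOpen (prodOpen X Y T V) := by
  haveI : IsAffine (Scheme.Opens.toScheme T) := hT
  haveI : IsAffine (Scheme.Opens.toScheme V) := hV
  haveI : IsAffine (Scheme.Opens.toScheme (⊤ : (Spec (CommRingCat.of k)).Opens)) := isAffineOpen_top _
  exact IsAffine.of_isPullback (Scheme.Hom.isPullback_resLE (isPullback_prod X Y) (US := ⊤) (UT := V) (UX := T)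
    le_top le_top (UY := prodOpen X Y T V) rfl)

/-- The product of a function on the first and of one on the second factor. -/
abbrev mulFun (r : Γ(X.left, T)) (s : Γ(Y.left, V)) : Γ((X ⊗ Y).left, prodOpen X Y T V) :=
  ((fst X Y).left.appLE T (prodOpen X Y T V) inf_le_left).hom r *
    ((snd X Y).left.appLE V (prodOpen X Y T V) inf_le_right).hom s

/-- Every function on a product of affine opens is a combination of products, with coefficients in
the first factor and a basis in the second. -/
theorem exists_expansion (hT : IsAffineOpen T) (hV : IsAffineOpen V)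
    (G : Γ((X ⊗ Y).left, prodOpen X Y T V)) :
    ∃ (n : ℕ) (c : Fin n → Γ(X.left, T)) (ε : Fin n → Γ(Y.left, V)),
      (letI := (strMap Y V).toAlgebra; LinearIndependent k ε) ∧ G = ∑ i, mulFun X Y T V (c i) (ε i) := by
  classical
  letI := (strMap X T).toAlgebra
  letI := (strMap Y V).toAlgebra
  have H := isPullback_prod X Y
  haveI := isIso_pushoutSection_of_isAffineOpen H (US := ⊤) (UT := V) (UX := T) le_top le_top (UY := prodOpen X Y T V) rfl
    (isAffineOpen_top _) hV hT
  have hP := (isIso_pushoutSection_iff H (US := ⊤) (UT := V) (UX := T) le_top le_top (UY := prodOpen X Y T V) rfl).1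
    inferInstance
  have hA := CommRingCat.isPushout_tensorProduct k Γ(X.left, T) Γ(Y.left, V)
  let sc := Scheme.ΓSpecIso (CommRingCat.of k)
  have e1 : sc.inv ≫ X.hom.appLE ⊤ T le_top = CommRingCat.ofHom (algebraMap k Γ(X.left, T)) := rfl
  have e2 : sc.inv ≫ Y.hom.appLE ⊤ V le_top = CommRingCat.ofHom (algebraMap k Γ(Y.left, V)) := rfl
  have hP' : IsPushout (CommRingCat.ofHom (algebraMap k Γ(X.left, T))) (CommRingCat.ofHom (algebraMap k Γ(Y.left, V)))
      ((fst X Y).left.appLE T (prodOpen X Y T V) inf_le_left)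
      ((snd X Y).left.appLE V (prodOpen X Y T V) inf_le_right) :=
    hP.of_iso sc (Iso.refl _) (Iso.refl _) (Iso.refl _) (by rw [← e1]; simp) (by rw [← e2]; simp)
      (by simp) (by simp)
  let ι := hA.isoIsPushout _ _ hP'
  let b := Module.Free.chooseBasis k Γ(Y.left, V)
  let x : Γ(X.left, T) ⊗[k] Γ(Y.left, V) := ι.inv G
  let φ := TensorProduct.equivFinsuppOfBasisRight b x
  have hG : ∀ (r : Γ(X.left, T)) (s : Γ(Y.left, V)), ι.hom (r ⊗ₜ[k] s) = mulFun X Y T V r s := by
    intro r s
    rw [show r ⊗ₜ[k] s = (r ⊗ₜ[k] (1 : Γ(Y.left, V))) * ((1 : Γ(X.left, T)) ⊗ₜ[k] s) by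
      rw [Algebra.TensorProduct.tmul_mul_tmul, mul_one, one_mul], map_mul]
    exact congrArg₂ (· * ·) (ConcreteCategory.congr_hom (hA.inl_isoIsPushout_hom _ _ hP') r)
      (ConcreteCategory.congr_hom (hA.inr_isoIsPushout_hom _ _ hP') s)
  let eqv := φ.support.equivFin
  refine ⟨φ.support.card, fun i => φ (eqv.symm i), fun i => b (eqv.symm i),
    b.linearIndependent.comp _ (Subtype.val_injective.comp eqv.symm.injective), ?_⟩
  have hx : x = φ.sum fun i m => m ⊗ₜ[k] b i := by
    rw [← TensorProduct.equivFinsuppOfBasisRight_symm_apply, LinearEquiv.symm_apply_apply]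
  calc G = ι.hom x := (congr($(ι.inv_hom_id) G)).symm
    _ = ∑ i : φ.support, ι.hom (φ i ⊗ₜ[k] b i) := by
      rw [hx, Finsupp.sum, map_sum, ← Finset.sum_coe_sort φ.support]
    _ = ∑ i, mulFun X Y T V (φ (eqv.symm i)) (b (eqv.symm i)) := by
      refine (Fintype.sum_equiv eqv _ _ fun i => ?_)
      rw [Equiv.symm_apply_apply]
      exact hG _ _

end Groth.L08.Cube.NP
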