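import Groth.Agent.L08.Cube.NP.Deform
import Mathlib.RingTheory.PrincipalIdealDomain
import Mathlib.RingTheory.Localization.FractionRing
import Mathlib.RingTheory.LocalRing.MaximalIdeal.Basic
import Mathlib.RingTheory.Flat.Localization
import Mathlib.RingTheory.TensorProduct.Finite

/-!
# The generic curve of the family is geometrically irreducible
-/

set_option autoImplicit false
set_option linter.style.haveILetI false

universe u

open TensorProduct Polynomial

namespace Groth.L08.Cube.NP

variable (k : Type u) [Field k] (n : ℕ) (A : Type u) [CommRing A] [IsDomain A] [Algebra k A]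
  [Algebra (MvPolynomial (Fin n) k) A] [IsScalarTower k (MvPolynomial (Fin n) k) A]
  [Module.Finite (MvPolynomial (Fin n) k) A]
  (K : Type u) [Field K] [Algebra A K] [IsFractionRing A K]
  [Algebra (MvPolynomial (Fin n) k) K] [IsScalarTower (MvPolynomial (Fin n) k) A K]
  (F : Type u) [Field F] [Algebra (MvPolynomial (Fin n) k) F] [IsFractionRing (MvPolynomial (Fin n) k) F]
  [Algebra F K] [IsScalarTower (MvPolynomial (Fin n) k) F K] [Algebra.IsSeparable F K]

include K F in
/-- There is a geometrically irreducible curve over the function field of `A` through the generic point. -/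
theorem exists_curve (hsep : ∀ a : A, ∃ f : (MvPolynomial (Fin n) k)[X], aeval a f = 0 ∧ aeval a (derivative f) ≠ 0) :
    ∃ P : Ideal (Tw A ⊗[MvPolynomial (Fin n) k] A), P.IsPrime ∧
      (∀ z ∈ P, diag (Tw.evalOne k n A) z = 0) ∧
      (∀ t : Tw A, t ⊗ₜ[MvPolynomial (Fin n) k] (1 : A) ∈ P → t = 0) ∧
      ∀ (Ω : Type u) [Field Ω] [Algebra A Ω], Function.Injective (algebraMap A Ω) →
        letI : Algebra A ((Tw A ⊗[MvPolynomial (Fin n) k] A) ⧸ P) :=
          ((Ideal.Quotient.mk P).comp
            ((Algebra.TensorProduct.includeLeftRingHom : Tw A →+* Tw A ⊗[MvPolynomial (Fin n) k] A).comp (Tw.C A))).toAlgebra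
        (nilradical (Ω ⊗[A] ((Tw A ⊗[MvPolynomial (Fin n) k] A) ⧸ P))).IsPrime := by
  classical
  set R := MvPolynomial (Fin n) k
  let D := Tw A ⊗[R] A
  let e : D →ₐ[R] A := diag (Tw.evalOne k n A)
  let M : Ideal D := RingHom.ker e
  haveI hM : M.IsPrime := RingHom.ker_isPrime _
  haveI : IsNoetherianRing A := IsNoetherianRing.of_finite R A
  haveI : IsNoetherianRing (Tw A) := inferInstanceAs (IsNoetherianRing A[X])
  haveI : Module.Finite (Tw A) D := Module.Finite.base_change R (Tw A) A
  haveI : IsNoetherianRing D := IsNoetherianRing.of_finite (Tw A) D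
  let S := Localization.AtPrime M
  haveI : IsNoetherianRing S := IsLocalization.isNoetherianRing M.primeCompl S inferInstance
  let τ : D := (Tw.T A - 1) ⊗ₜ[R] (1 : A)
  have hτM : τ ∈ M := by
    show diag (Tw.evalOne k n A) ((Tw.T A - 1) ⊗ₜ[R] (1 : A)) = 0
    rw [diag_tmul]
    simp [Tw.evalOne_apply, Tw.T]
  have hmax : IsLocalRing.maximalIdeal S = Ideal.span {algebraMap D S τ} := by
    refine le_antisymm ?_ ((Ideal.span_singleton_le_iff_mem _).2
      ((IsLocalization.AtPrime.to_map_mem_maximal_iff S M τ).2 hτM))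
    rw [← IsLocalization.AtPrime.map_eq_maximalIdeal M S, Ideal.map_le_iff_le_comap]
    intro b hb
    obtain ⟨s, hs, hsb⟩ := exists_mul_mem_span (Tw.evalOne k n A) (Tw.T A - 1) (Tw.ker_evalOne k n A) hsep b hb
    obtain ⟨c, hc⟩ := Ideal.mem_span_singleton'.1 hsb
    rw [Ideal.mem_comap]
    refine ((IsLocalization.map_units S (⟨s, hs⟩ : M.primeCompl)).dvd_mul_left).mp ?_ |> Ideal.mem_span_singleton.2
    refine ⟨algebraMap D S c, ?_⟩
    rw [← map_mul, ← map_mul]
    exact congrArg _ (by rw [← hc, mul_comm])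
  have hjet : ∀ t : Tw A, algebraMap D S (t ⊗ₜ 1) = 0 → t = 0 := by
    intro t ht
    obtain ⟨⟨s, hs⟩, hst⟩ := (IsLocalization.map_eq_zero_iff M.primeCompl S _).1 ht
    obtain ⟨χ, hχu, hχ⟩ := exists_jets k n A K F ((Tw.equiv A) t).natDegree
    have h0 := congrArg χ hst
    rw [map_mul, map_zero, (hχu s hs).mul_right_eq_zero, hχ, Ideal.Quotient.eq_zero_iff_mem,
      Ideal.mem_span_singleton] at h0
    have hz : (Tw.equiv A t).map (algebraMap A K) = 0 := by
      refine eq_zero_of_dvd_of_natDegree_lt h0 ?_
      rw [natDegree_pow, ← map_one (C : K →+* K[X]), natDegree_X_sub_C, mul_one,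
        natDegree_map_eq_of_injective (IsFractionRing.injective A K)]
      exact Nat.lt_succ_self _
    exact (Tw.equiv A).injective (((Polynomial.map_eq_zero_iff (IsFractionRing.injective A K)).1 hz).trans
      (map_zero _).symm)
  have hτ : ¬ IsNilpotent (algebraMap D S τ) := by
    rintro ⟨N, hN⟩
    rw [← map_pow, Algebra.TensorProduct.tmul_pow, one_pow] at hN
    have := congrArg (Tw.equiv A) (hjet _ hN)
    rw [map_pow, map_sub, map_one, map_zero, show Tw.equiv A (Tw.T A) = X by simp [Tw.T], ← map_one (C : A →+* A[X])] at this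
    exact pow_ne_zero N (X_sub_C_ne_zero (1 : A)) this
  obtain ⟨hdom, hpir⟩ := isDomain_and_pir (algebraMap D S τ) hmax hτ
  haveI := hdom
  haveI := hpir
  let P : Ideal D := RingHom.ker (algebraMap D S)
  have hP : P.IsPrime := RingHom.ker_isPrime _
  refine ⟨P, hP, fun z hz => ?_, fun t ht => hjet t ht, fun Ω _ _ hΩ => ?_⟩
  · obtain ⟨⟨s, hs⟩, hsz⟩ := (IsLocalization.map_eq_zero_iff M.primeCompl S _).1 hz
    exact (mul_eq_zero.1 ((map_mul e s z).symm.trans ((congrArg e hsz).trans (map_zero e)))).resolve_left hs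
  -- the algebra structures
  let B := D ⧸ P
  haveI : IsDomain B := Ideal.Quotient.isDomain P
  let cA : A →+* D := (Algebra.TensorProduct.includeLeftRingHom : Tw A →+* D).comp (Tw.C A)
  letI : Algebra A B := ((Ideal.Quotient.mk P).comp cA).toAlgebra
  have hu : ∀ y : nonZeroDivisors A, IsUnit ((algebraMap D S).comp cA y) := fun y =>
    IsLocalization.map_units S (⟨cA y, by
      show ¬ e (cA y) = 0
      have h : e (cA y) = y := by
        show diag (Tw.evalOne k n A) (Tw.C A (y : A) ⊗ₜ[R] (1 : A)) = y
        rw [diag_tmul]; simp [Tw.evalOne_apply, Tw.C]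
      rw [h]
      exact nonZeroDivisors.coe_ne_zero y⟩ : M.primeCompl)
  letI : Algebra K S := (IsLocalization.lift hu).toAlgebra
  have hKS : ∀ a : A, algebraMap K S (algebraMap A K a) = algebraMap D S (cA a) := fun a =>
    IsLocalization.lift_eq hu a
  let L := FractionRing S
  -- the residue map
  let ε : S →+* K := IsLocalization.lift (M := M.primeCompl) (g := (algebraMap A K).comp (e : D →+* A))
    fun y => isUnit_iff_ne_zero.2 fun h => y.2 (IsFractionRing.to_map_eq_zero_iff.1 h)
  have hεK : ∀ c, ε (algebraMap K S c) = c := by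
    have h : ε.comp (algebraMap K S) = RingHom.id K :=
      IsLocalization.ringHom_ext (nonZeroDivisors A) (RingHom.ext fun a => by
        simp only [RingHom.comp_apply, RingHom.id_comp, hKS, ε, IsLocalization.lift_eq]
        show algebraMap A K (diag (Tw.evalOne k n A) (Tw.C A a ⊗ₜ[R] (1 : A))) = _
        rw [diag_tmul]; simp [Tw.evalOne_apply, Tw.C])
    exact RingHom.congr_fun h
  have hclosed : ∀ α : L, IsSeparable K α → α ∈ Set.range (algebraMap K L) := by
    intro α hα
    have hint : IsIntegral K α := hα.isIntegral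
    obtain ⟨a, rfl⟩ := IsIntegrallyClosed.algebraMap_eq_of_integral (hint.tower_top (A := S))
    by_contra hne
    let β : S := a - algebraMap K S (ε a)
    have hβ0 : β ≠ 0 := fun h => hne ⟨ε a,
      (IsScalarTower.algebraMap_apply K S L (ε a)).trans (congrArg _ (sub_eq_zero.1 h).symm)⟩
    have hintS : IsIntegral K β :=
      IsIntegral.sub ((isIntegral_algebraMap_iff (IsFractionRing.injective S L)).1 hint) isIntegral_algebraMap
    have hadj : IsField (Algebra.adjoin K {β}) :=
      haveI : Algebra.IsIntegral K (Algebra.adjoin K {β}) :=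
        Algebra.IsIntegral.adjoin fun x hx => by obtain rfl := hx; exact hintS
      isField_of_isIntegral_of_isField' (R := K) (S := ↥(Algebra.adjoin K {β})) (Field.toIsField K)
    obtain ⟨γ, hγ⟩ := hadj.mul_inv_cancel (a := ⟨β, Algebra.subset_adjoin rfl⟩)
      (fun h => hβ0 (congrArg Subtype.val h))
    have hγ' : β * (γ : S) = 1 := congrArg Subtype.val hγ
    have := congrArg ε hγ'
    simp [β, hεK] at this
  -- geometric irreducibility
  haveI hirr := Groth.L02.GeomIrredField.irreducible_of_separable_elements hclosed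
  letI : Algebra A L := ((algebraMap K L).comp (algebraMap A K)).toAlgebra
  haveI : IsScalarTower A K L := IsScalarTower.of_algebraMap_eq fun _ => rfl
  let βL : B →ₐ[A] L :=
    { Ideal.Quotient.lift P ((algebraMap S L).comp (algebraMap D S)) (fun d hd => by
        rw [RingHom.comp_apply, RingHom.mem_ker.1 hd, map_zero]) with
      commutes' := fun a => by
        show algebraMap S L (algebraMap D S (cA a)) = algebraMap K L (algebraMap A K a)
        rw [← hKS]
        rfl }
  have hβL : Function.Injective βL := by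
    refine (injective_iff_map_eq_zero _).2 fun b hb => ?_
    obtain ⟨d, rfl⟩ := Ideal.Quotient.mk_surjective b
    exact Ideal.Quotient.eq_zero_iff_mem.2 (IsFractionRing.to_map_eq_zero_iff.1 hb)
  let φ : K →+* Ω := IsFractionRing.lift hΩ
  letI : Algebra K Ω := φ.toAlgebra
  haveI : IsScalarTower A K Ω := IsScalarTower.of_algebraMap_eq fun a =>
    (IsFractionRing.lift_algebraMap hΩ a).symm
  haveI : Module.Flat A K := IsLocalization.flat K (nonZeroDivisors A)
  haveI : Module.Flat A Ω := Module.Flat.trans A K Ω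
  haveI := IsLocalization.tensorProduct_compatibleSMul (nonZeroDivisors A) K Ω L
  let E := Algebra.TensorProduct.equivOfCompatibleSMul K A Ω Ω L
  let Ψ : Ω ⊗[A] B →+* Ω ⊗[K] L :=
    (E : Ω ⊗[A] L →+* Ω ⊗[K] L).comp (Algebra.TensorProduct.map (AlgHom.id A Ω) βL).toRingHom
  have hΨ : Function.Injective Ψ := by
    refine (RingEquiv.injective E.toRingEquiv).comp ?_
    exact Module.Flat.lTensor_preserves_injective_linearMap (M := Ω) βL.toLinearMap hβL
  haveI := PrimeSpectrum.irreducibleSpace_iff_isPrime_nilradical.1 (hirr Ω)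
  have : nilradical (Ω ⊗[A] B) = (nilradical (Ω ⊗[K] L)).comap Ψ := by
    ext z
    rw [mem_nilradical, Ideal.mem_comap, mem_nilradical, IsNilpotent.map_iff hΨ]
  show (nilradical (Ω ⊗[A] B)).IsPrime
  rw [this]
  exact Ideal.IsPrime.comap _

end Groth.L08.Cube.NP
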