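import Groth.Agent.L08.Cube.NP.Linked
import Groth.Agent.L08.Cube.SliceFibre
import Groth.Agent.L18.CurveModel
import Groth.Agent.L26.Weil.Axes

/-!
# A smooth projective curve above an integral affine curve
-/

set_option autoImplicit false
set_option linter.style.haveILetI false
set_option linter.unusedSectionVars false
set_option maxSynthPendingDepth 3
set_option backward.isDefEq.respectTransparency.types false

universe u

open CategoryTheory CategoryTheory.Limits AlgebraicGeometry TopologicalSpace
open Groth.L18.PS (chart coord chartScalar chartHom)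
open Groth.L18.CurveModel (R chartEquiv)

namespace Groth.L08.Cube.NP

variable {k : Type u} [Field k]

/-- A chart of the projective line mapped to a field by a transcendental element. -/
theorem exists_embedding_at (K : Type u) [Field K] [Algebra k K] (x : K)
    (hx : Transcendental k x) [IsIntegral (CohB1.ProjSpace 1 k)] :
    ∃ (U : (CohB1.ProjSpace 1 k).Opens) (_ : IsAffineOpen U) (_ : Nonempty U)
      (φ : (CohB1.ProjSpace 1 k).functionField →+* K),
      (∀ c : k, φ (((CohB1.ProjSpace 1 k).germToFunctionField U).hom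
        (((CohB1.ProjSpace.toSpec 1 k).appLE ⊤ U le_top).hom ((Scheme.ΓSpecIso (CommRingCat.of k)).inv.hom c))) =
          algebraMap k K c) ∧
      (∀ b, φ (((CohB1.ProjSpace 1 k).germToFunctionField U).hom b) ∈ (Polynomial.aeval x : Polynomial k →ₐ[k] K).range) ∧
      (∃ b, φ (((CohB1.ProjSpace 1 k).germToFunctionField U).hom b) = x) ∧
      ∀ y : K, IsIntegral (IntermediateField.adjoin k {x}) y → φ.fieldRange.subtype.IsIntegralElem y := by
  let a : Fin (1 + 1) → K := fun j => if j = 0 then 1 else x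
  have ha : IsUnit (a 0) := by simp [a]
  let θ : R (k := k) 0 →+* K := chartHom (algebraMap k K) a 0 ha
  have hθc : ∀ j : {j : Fin (1 + 1) // j ≠ 0}, θ (coord 0 j.1) = x := fun j => by
    have h := Groth.L18.PS.chartHom_coord (algebraMap k K) a 0 ha j.1
    simp only [a, if_neg j.2, if_true, mul_one] at h
    exact h
  have hθs : ∀ c, θ (chartScalar 1 k 0 c) = algebraMap k K c :=
    fun c => Groth.L18.PS.chartHom_algebraMap (algebraMap k K) a 0 ha c
  haveI : Subsingleton {j : Fin (1 + 1) // j ≠ 0} := ⟨fun p q => Subtype.ext (by omega)⟩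
  letI : Unique {j : Fin (1 + 1) // j ≠ 0} := uniqueOfSubsingleton ⟨1, by decide⟩
  have hind : AlgebraicIndependent k (fun _ : {j : Fin (1 + 1) // j ≠ 0} => x) :=
    (algebraicIndependent_unique_type_iff (ι := {j : Fin (1 + 1) // j ≠ 0})).2 hx
  have h1 : θ.comp (chartEquiv (k := k) 0).toRingHom =
      (MvPolynomial.aeval (fun _ : {j : Fin (1 + 1) // j ≠ 0} => x) : MvPolynomial _ k →ₐ[k] K).toRingHom := by
    refine MvPolynomial.ringHom_ext (fun c => ?_) (fun j => ?_)
    · simp only [RingHom.comp_apply, AlgHom.toRingHom_eq_coe, RingHom.coe_coe, MvPolynomial.aeval_C]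
      refine Eq.trans ?_ (hθs c)
      exact congrArg θ (MvPolynomial.eval₂Hom_C _ _ c)
    · simp only [RingHom.comp_apply, AlgHom.toRingHom_eq_coe, RingHom.coe_coe, MvPolynomial.aeval_X]
      refine Eq.trans ?_ (hθc j)
      exact congrArg θ (MvPolynomial.eval₂Hom_X' _ _ j)
  have hθ : Function.Injective θ := by
    intro p q hpq
    obtain ⟨p, rfl⟩ := (chartEquiv (k := k) 0).surjective p
    obtain ⟨q, rfl⟩ := (chartEquiv (k := k) 0).surjective q
    exact congrArg _ (hind (((RingHom.congr_fun h1 p).symm.trans hpq).trans (RingHom.congr_fun h1 q)))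
  let U : (CohB1.ProjSpace 1 k).Opens := (chart 1 k 0) ''ᵁ ⊤
  have hU : IsAffineOpen U := (isAffineOpen_top _).image_of_isOpenImmersion _
  haveI : Nontrivial (R (k := k) 0) := θ.domain_nontrivial
  haveI hne : Nonempty U.toScheme := by
    obtain ⟨p⟩ : Nonempty (PrimeSpectrum (R (k := k) 0)) := inferInstance
    exact ⟨⟨chart 1 k 0 p, p, trivial, rfl⟩⟩
  let ι0 : Γ(CohB1.ProjSpace 1 k, U) ≅ CommRingCat.of (R (k := k) 0) :=
    (chart 1 k 0).appIso ⊤ ≪≫ Scheme.ΓSpecIso _
  let ψ : Γ(CohB1.ProjSpace 1 k, U) →+* K := θ.comp ι0.hom.hom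
  haveI : IsFractionRing Γ(CohB1.ProjSpace 1 k, U) (CohB1.ProjSpace 1 k).functionField :=
    functionField_isFractionRing_of_isAffineOpen _ U hU
  have hψ : Function.Injective ψ := hθ.comp ι0.commRingCatIsoToRingEquiv.injective
  let φ : (CohB1.ProjSpace 1 k).functionField →+* K := IsFractionRing.lift hψ
  have hφ : ∀ b, φ (((CohB1.ProjSpace 1 k).germToFunctionField U).hom b) = ψ b := fun b =>
    IsFractionRing.lift_algebraMap hψ b
  have hk : ∀ c : k, φ (((CohB1.ProjSpace 1 k).germToFunctionField U).hom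
      (((CohB1.ProjSpace.toSpec 1 k).appLE ⊤ U le_top).hom ((Scheme.ΓSpecIso (CommRingCat.of k)).inv.hom c))) =
        algebraMap k K c := fun c => by
    rw [hφ]
    have h2 : (CohB1.ProjSpace.toSpec 1 k).appTop ≫
        (CohB1.ProjSpace 1 k).presheaf.map (homOfLE (le_top : U ≤ ⊤)).op ≫ ι0.hom =
        (Scheme.ΓSpecIso (CommRingCat.of k)).hom ≫ CommRingCat.ofHom (chartScalar 1 k 0) := by
      rw [← Scheme.ΓSpecIso_naturality, ← Groth.L18.PS.chart_toSpec, Iso.trans_hom, Scheme.Hom.appIso_hom',
        Scheme.Hom.map_appLE_assoc, Scheme.Hom.comp_appTop, Category.assoc]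
      rfl
    have h3 := ConcreteCategory.congr_hom h2 ((Scheme.ΓSpecIso (CommRingCat.of k)).inv.hom c)
    change θ ((ConcreteCategory.hom ((CohB1.ProjSpace.toSpec 1 k).appTop ≫
      (CohB1.ProjSpace 1 k).presheaf.map (homOfLE (le_top : U ≤ ⊤)).op ≫ ι0.hom))
        ((Scheme.ΓSpecIso (CommRingCat.of k)).inv.hom c)) = _
    rw [h3, ← hθs c]
    congr 1
    simp
  have hb : ∃ b, φ (((CohB1.ProjSpace 1 k).germToFunctionField U).hom b) = x := by
    obtain ⟨b, hb⟩ := ι0.commRingCatIsoToRingEquiv.surjective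
      (coord (R := k) (n := 1) (0 : Fin (1 + 1)) 1)
    exact ⟨b, (hφ b).trans ((congrArg θ hb).trans (hθc ⟨1, by decide⟩))⟩
  refine ⟨U, hU, hne, φ, hk, fun b => ?_, hb, fun y hy => ?_⟩
  · rw [hφ]
    obtain ⟨p, hp⟩ := (chartEquiv (k := k) 0).surjective (ι0.hom.hom b)
    show θ (ι0.hom.hom b) ∈ _
    rw [← hp, show θ (chartEquiv (k := k) 0 p) = _ from RingHom.congr_fun h1 p]
    show MvPolynomial.aeval _ p ∈ _
    clear hp
    induction p using MvPolynomial.induction_on with
    | C c => rw [MvPolynomial.aeval_C]; exact Subalgebra.algebraMap_mem _ _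
    | add p q hp hq => rw [map_add]; exact add_mem hp hq
    | mul_X p i hp => rw [map_mul, MvPolynomial.aeval_X]; exact mul_mem hp ⟨Polynomial.X, Polynomial.aeval_X x⟩
  · let E : IntermediateField k K :=
      { φ.fieldRange with
        algebraMap_mem' := fun c => ⟨_, hk c⟩ }
    have hle : IntermediateField.adjoin k {x} ≤ E := IntermediateField.adjoin_le_iff.2 (by
      rintro _ rfl
      obtain ⟨b, hb⟩ := hb
      exact ⟨_, hb⟩)
    obtain ⟨p, hp, hp0⟩ := hy
    refine ⟨p.map ((IntermediateField.inclusion hle : IntermediateField.adjoin k {x} →ₐ[k] E) :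
      IntermediateField.adjoin k {x} →+* E), hp.map _, ?_⟩
    rw [Polynomial.eval₂_map]
    exact hp0

/-- The structure of a smooth projective curve above a given affine curve. -/
theorem exists_curve_model [IsAlgClosed k] (C : Type u) [CommRing C] [IsDomain C] [Algebra k C]
    [Algebra.FiniteType k C] (t : C) (htinj : Function.Injective (Polynomial.aeval t : Polynomial k →ₐ[k] C))
    (htint : (Polynomial.aeval t : Polynomial k →ₐ[k] C).toRingHom.IsIntegral) :
    ∃ (X : Over (Spec (CommRingCat.of k))) (_ : IsProper X.hom) (_ : Smooth X.hom) (_ : GeometricallyIntegral X.hom)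
      (V : X.left.Opens) (ψ : (V : Scheme.{u}) ⟶ Spec (CommRingCat.of C)),
      ψ ≫ Spec.map (CommRingCat.ofHom (algebraMap k C)) = V.ι ≫ X.hom ∧
      ∀ v : C →ₐ[k] k, ∃ p : Spec (CommRingCat.of k) ⟶ (V : Scheme.{u}), p ≫ V.ι ≫ X.hom = 𝟙 _ ∧
        p ≫ ψ = Spec.map (CommRingCat.ofHom v.toRingHom) := by
  classical
  let K := FractionRing C
  have hinjK : Function.Injective (algebraMap C K) := IsFractionRing.injective C K
  let x : K := algebraMap C K t
  have hax : ∀ p : Polynomial k, Polynomial.aeval x p = algebraMap C K (Polynomial.aeval t p) := fun p =>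
    Polynomial.aeval_algebraMap_apply K t p
  have hx : Transcendental k x := transcendental_iff.mpr fun p hp =>
    htinj (by rw [map_zero]; exact hinjK (by rw [← hax, hp, map_zero]))
  haveI : IsIntegral (CohB1.ProjSpace 1 k) := Groth.L16.ProjSpace.isIntegral (n := 1) (R := k)
  obtain ⟨U, hU, hUne, φ, hk, hφle, ⟨bx, hbx⟩, hφint⟩ := exists_embedding_at K x hx
  haveI := hUne
  let toK : Γ(CohB1.ProjSpace 1 k, U) →+* K := φ.comp ((CohB1.ProjSpace 1 k).germToFunctionField U).hom
  -- integrality over the chart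
  have hCint : ∀ c : C, toK.IsIntegralElem (algebraMap C K c) := by
    intro c
    obtain ⟨p, hp, hp0⟩ := htint c
    let σ : Polynomial k →+* Γ(CohB1.ProjSpace 1 k, U) := Polynomial.eval₂RingHom
      (((CohB1.ProjSpace.toSpec 1 k).appLE ⊤ U le_top).hom.comp (Scheme.ΓSpecIso (CommRingCat.of k)).inv.hom) bx
    have hσ : toK.comp σ = (algebraMap C K).comp (Polynomial.aeval t : Polynomial k →ₐ[k] C).toRingHom := by
      refine Polynomial.ringHom_ext (fun a => ?_) ?_
      · simp only [RingHom.comp_apply, σ, Polynomial.coe_eval₂RingHom, Polynomial.eval₂_C]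
        refine (hk a).trans ?_
        simp [← IsScalarTower.algebraMap_apply k C K]
      · simp only [RingHom.comp_apply, σ, Polynomial.coe_eval₂RingHom, Polynomial.eval₂_X]
        refine hbx.trans ?_
        simp [x]
    refine ⟨p.map σ, hp.map _, ?_⟩
    rw [Polynomial.eval₂_map, hσ, ← Polynomial.hom_eval₂, hp0, map_zero]
  -- the field is finite over the function field of the line
  have hfin : φ.Finite := by
    letI := φ.toAlgebra
    haveI : Algebra.EssFiniteType k C := inferInstance
    haveI : Algebra.EssFiniteType C K := Algebra.EssFiniteType.of_isLocalization K (nonZeroDivisors C)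
    haveI : Algebra.EssFiniteType k K := Algebra.EssFiniteType.comp k C K
    let F0 : IntermediateField k K :=
      { φ.fieldRange with
        algebraMap_mem' := fun c => ⟨_, hk c⟩ }
    let φ0 : (CohB1.ProjSpace 1 k).functionField →+* F0 :=
      φ.codRestrict F0 fun z => show φ z ∈ φ.fieldRange from ⟨z, rfl⟩
    haveI : Algebra.IsAlgebraic F0 K := ⟨fun y => by
      obtain ⟨a, b, -, rfl⟩ := IsFractionRing.div_surjective (A := C) y
      have hi : ∀ c : C, IsIntegral F0 (algebraMap C K c) := fun c => by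
        obtain ⟨p, hp, hp0⟩ := hCint c
        refine ⟨p.map (φ0.comp ((CohB1.ProjSpace 1 k).germToFunctionField U).hom),
          hp.map _, ?_⟩
        rw [Polynomial.eval₂_map]
        exact hp0
      rw [div_eq_mul_inv]
      exact ((hi a).mul (hi b).inv).isAlgebraic⟩
    haveI : Algebra.EssFiniteType F0 K := Algebra.EssFiniteType.of_comp k F0 K
    haveI : Module.Finite F0 K := Algebra.finite_of_essFiniteType_of_isAlgebraic
    have h1 : φ0.Finite :=
      RingHom.Finite.of_surjective _ fun ⟨y, z, hz⟩ => ⟨z, Subtype.ext hz⟩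
    have h2 : (algebraMap F0 K).Finite := RingHom.finite_algebraMap.mpr inferInstance
    exact h2.comp h1
  let P := CohB1.ProjSpace 1 k
  haveI : IsProper (CohB1.ProjSpace.toSpec 1 k) := Groth.L18.PS.isProper_toSpec 1 k
  let g : Spec (CommRingCat.of K) ⟶ P :=
    Spec.map (CommRingCat.ofHom φ) ≫ P.fromSpecStalk (genericPoint P)
  have hg : g = Spec.map (CommRingCat.ofHom φ) ≫ P.fromSpecStalk (genericPoint P) := rfl
  haveI : IsFinite g.fromNormalization :=
    Groth.L18.NormField.isFinite_fromNormalization (CohB1.ProjSpace.toSpec 1 k) hfin hg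
  haveI : IsIntegral g.normalization := inferInstance
  let pX : g.normalization ⟶ Spec (CommRingCat.of k) := g.fromNormalization ≫ CohB1.ProjSpace.toSpec 1 k
  haveI : IsProper pX := (inferInstance : IsProper (g.fromNormalization ≫ CohB1.ProjSpace.toSpec 1 k))
  haveI : IsLocallyNoetherian g.normalization := LocallyOfFiniteType.isLocallyNoetherian pX
  haveI : Smooth pX := Groth.L26.Weil.smooth_of_regular_closed pX fun y hy => by
    haveI := (Groth.L18.NormField.isNormalScheme hg y).1
    haveI := (Groth.L18.NormField.isNormalScheme hg y).2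
    haveI := Groth.L18.Codim1.valuationRing_of_normal (g.normalization.presheaf.stalk y)
      (Groth.L18.NormField.dim_stalk hg Groth.L18.CurveModel.dim_stalk_projLine y hy).le
    infer_instance
  haveI : GeometricallyIntegral pX := geometricallyIntegral_of_isAlgClosed pX
  let V : g.normalization.Opens := g.fromNormalization ⁻¹ᵁ U
  have hV : IsAffineOpen V := hU.preimage g.fromNormalization
  letI algU : Algebra Γ(P, U) K := toK.toAlgebra
  obtain ⟨e, he, -⟩ := Groth.L18.NormField.exists_equiv hg hU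
  let ev : Γ(g.normalization, V) →+* K := (integralClosure Γ(P, U) K).val.toRingHom.comp e.toRingHom
  have hev : Function.Injective ev := Subtype.val_injective.comp e.injective
  let ρk : k →+* Γ(g.normalization, V) :=
    ((Scheme.ΓSpecIso (CommRingCat.of k)).inv ≫ pX.appLE ⊤ V le_top).hom
  letI : Algebra k Γ(g.normalization, V) := ρk.toAlgebra
  have hevk : ∀ c : k, ev (algebraMap k Γ(g.normalization, V) c) = algebraMap k K c := by
    intro c
    refine Eq.trans ?_ (hk c)
    show ((e ((pX.appLE ⊤ V le_top).hom ((Scheme.ΓSpecIso (CommRingCat.of k)).inv.hom c))) : K) = _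
    rw [show pX.appLE ⊤ V le_top = (CohB1.ProjSpace.toSpec 1 k).appLE ⊤ U le_top ≫ g.fromNormalization.app U by
      rw [Scheme.Hom.app_eq_appLE, Scheme.Hom.appLE_comp_appLE]]
    exact congrArg Subtype.val (he _)
  let j0 : C →+* Γ(g.normalization, V) := e.symm.toRingHom.comp
    ((algebraMap C K).codRestrict (integralClosure Γ(P, U) K).toSubring fun c => hCint c)
  have hj0 : ∀ c, ev (j0 c) = algebraMap C K c := fun c =>
    congrArg Subtype.val (e.apply_symm_apply _)
  let j : C →ₐ[k] Γ(g.normalization, V) :=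
    { j0 with
      commutes' := fun c => hev (by
        show ev (j0 (algebraMap k C c)) = _
        rw [hj0, hevk, ← IsScalarTower.algebraMap_apply]) }
  have hjinj : Function.Injective j := fun a b hab => hinjK (by rw [← hj0 a, ← hj0 b]; exact congrArg ev hab)
  have hjint : j.toRingHom.IsIntegral := by
    intro z
    have hz : toK.IsIntegralElem (ev z) := (e z).2
    obtain ⟨p, hp, hp0⟩ := hz
    obtain ⟨p', hp'1, -, hp'2⟩ := Polynomial.lifts_and_degree_eq_and_monic (f := algebraMap C K) (p := p.map toK)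
      ((Polynomial.lifts_iff_coeff_lifts _).2 fun m => by
        rw [Polynomial.coeff_map]
        obtain ⟨q, hq⟩ := hφle (p.coeff m)
        exact ⟨Polynomial.aeval t q, (hax q).symm.trans hq⟩) (hp.map _)
    refine ⟨p', hp'2, hev ?_⟩
    rw [map_zero, Polynomial.hom_eval₂, show ev.comp j.toRingHom = algebraMap C K from RingHom.ext hj0,
      ← Polynomial.eval_map, hp'1, Polynomial.eval_map]
    exact hp0
  let ψ : (V : Scheme.{u}) ⟶ Spec (CommRingCat.of C) := V.toSpecΓ ≫ Spec.map (CommRingCat.ofHom j.toRingHom)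
  have hstr : V.ι ≫ pX = V.toSpecΓ ≫ Spec.map (CommRingCat.ofHom ρk) := by
    rw [← hV.isoSpec_hom, ← Iso.inv_comp_eq, hV.isoSpec_inv_ι_assoc,
      ← IsAffineOpen.SpecMap_appLE_fromSpec pX (isAffineOpen_top _) hV le_top, IsAffineOpen.fromSpec_top,
      Scheme.isoSpec_Spec_inv, ← Spec.map_comp]
    rfl
  refine ⟨Over.mk pX, ‹_›, ‹_›, ‹_›, V, ψ, ?_, fun v => ?_⟩
  · show (V.toSpecΓ ≫ _) ≫ _ = V.ι ≫ pX
    rw [hstr, Category.assoc, ← Spec.map_comp, ← CommRingCat.ofHom_comp]
    congr 3
    exact j.comp_algebraMap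
  obtain ⟨v', hv'⟩ := exists_extend_point j hjinj hjint v
  refine ⟨Spec.map (CommRingCat.ofHom v'.toRingHom) ≫ hV.isoSpec.inv, ?_, ?_⟩
  · show _ ≫ V.ι ≫ pX = _
    rw [hstr, ← hV.isoSpec_hom, Category.assoc, Iso.inv_hom_id_assoc, ← Spec.map_comp, ← CommRingCat.ofHom_comp,
      show v'.toRingHom.comp ρk = RingHom.id k from RingHom.ext fun c => v'.commutes c]
    exact Spec.map_id _
  · show (_ ≫ hV.isoSpec.inv) ≫ V.toSpecΓ ≫ _ = _
    rw [← hV.isoSpec_hom, Category.assoc, Iso.inv_hom_id_assoc, ← Spec.map_comp, ← CommRingCat.ofHom_comp,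
      show v'.toRingHom.comp j.toRingHom = v.toRingHom from RingHom.ext fun c => DFunLike.congr_fun hv' c]

end Groth.L08.Cube.NP
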