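import Groth.Agent.L08.Cube.NP.Local
import Groth.Agent.L02.GeomIrredField
import Mathlib.RingTheory.Etale.Field
import Mathlib.RingTheory.Smooth.Basic
import Mathlib.RingTheory.MvPolynomial.Localization
import Mathlib.RingTheory.Localization.Integral
import Mathlib.RingTheory.LocalRing.RingHom.Basic
import Mathlib.FieldTheory.IsAlgClosed.Basic
import Mathlib.FieldTheory.IsAlgClosed.AlgebraicClosure

/-!
# The family of curves joining a point to the origin

`A` is a domain finite and generically separable over `k[x₁, …, xₙ]`. The lines through the origin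
pulled back to `A` contain a family of curves, one through every general point, whose general member
is geometrically irreducible.
-/

set_option autoImplicit false
set_option linter.style.haveILetI false

universe u

open TensorProduct Polynomial

namespace Groth.L08.Cube.NP

section Tw

variable (k : Type u) [Field k] (n : ℕ) (A : Type u) [CommRing A]

/-- Polynomials over `A`, as an algebra over `k[x₁, …, xₙ]` by `xᵢ ↦ T xᵢ`. -/
def Tw : Type u := A[X]

noncomputable instance : CommRing (Tw A) := inferInstanceAs (CommRing A[X])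

/-- The identity, as an isomorphism to the polynomial ring. -/
noncomputable def Tw.equiv : Tw A ≃+* A[X] := RingEquiv.refl _

variable [Algebra k A] [Algebra (MvPolynomial (Fin n) k) A]

/-- The structure map of `Tw`. -/
noncomputable def twHom : MvPolynomial (Fin n) k →+* Tw A :=
  (Tw.equiv A).symm.toRingHom.comp (MvPolynomial.eval₂Hom ((C : A →+* A[X]).comp (algebraMap k A))
    fun i => X * C (algebraMap (MvPolynomial (Fin n) k) A (MvPolynomial.X i)))

noncomputable instance : Algebra (MvPolynomial (Fin n) k) (Tw A) := (twHom k n A).toAlgebra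

/-- The constants of `Tw`. -/
noncomputable def Tw.C : A →+* Tw A := (Tw.equiv A).symm.toRingHom.comp Polynomial.C

/-- The parameter of `Tw`. -/
noncomputable def Tw.T : Tw A := (Tw.equiv A).symm Polynomial.X

theorem Tw.algebraMap_X (i : Fin n) :
    algebraMap (MvPolynomial (Fin n) k) (Tw A) (MvPolynomial.X i) =
      Tw.T A * Tw.C A (algebraMap (MvPolynomial (Fin n) k) A (MvPolynomial.X i)) := by
  simp [RingHom.algebraMap_toAlgebra, twHom, Tw.T, Tw.C]
  exact mul_comm _ _

theorem Tw.algebraMap_C (c : k) :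
    algebraMap (MvPolynomial (Fin n) k) (Tw A) (MvPolynomial.C c) = Tw.C A (algebraMap k A c) := by
  simp [RingHom.algebraMap_toAlgebra, twHom, Tw.C]

variable [IsScalarTower k (MvPolynomial (Fin n) k) A]

/-- Evaluation at `T = 1`. -/
noncomputable def Tw.evalOne : Tw A →ₐ[MvPolynomial (Fin n) k] A where
  toRingHom := (evalRingHom (1 : A)).comp (Tw.equiv A).toRingHom
  commutes' r := by
    have h : ((evalRingHom (1 : A)).comp (Tw.equiv A).toRingHom).comp (twHom k n A) =
        algebraMap (MvPolynomial (Fin n) k) A := by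
      refine MvPolynomial.ringHom_ext (fun c => ?_) (fun i => ?_)
      · simp [twHom]
        exact IsScalarTower.algebraMap_apply k (MvPolynomial (Fin n) k) A c
      · simp [twHom]
    exact RingHom.congr_fun h r

theorem Tw.evalOne_apply (t : Tw A) : Tw.evalOne k n A t = (Tw.equiv A t).eval 1 := rfl

theorem Tw.ker_evalOne (t : Tw A) (ht : Tw.evalOne k n A t = 0) : t ∈ Ideal.span {Tw.T A - 1} := by
  rw [Tw.evalOne_apply] at ht
  obtain ⟨q, hq⟩ : (X - Polynomial.C (1 : A)) ∣ Tw.equiv A t := dvd_iff_isRoot.2 ht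
  rw [map_one] at hq
  refine Ideal.mem_span_singleton.2 ⟨(Tw.equiv A).symm q, (Tw.equiv A).injective ?_⟩
  simpa [Tw.T] using hq

end Tw

/-- A compatible pair of ring homomorphisms out of the factors of a tensor product. -/
theorem exists_tensor_hom {R T A C : Type u} [CommRing R] [CommRing T] [CommRing A] [CommRing C]
    [Algebra R T] [Algebra R A] (f : T →+* C) (g : A →+* C)
    (h : ∀ r, f (algebraMap R T r) = g (algebraMap R A r)) :
    ∃ χ : (T ⊗[R] A) →+* C, ∀ t a, χ (t ⊗ₜ a) = f t * g a := by
  letI : Algebra R C := (g.comp (algebraMap R A)).toAlgebra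
  let f' : T →ₐ[R] C := { f with commutes' := h }
  let g' : A →ₐ[R] C := { g with commutes' := fun r => rfl }
  exact ⟨(Algebra.TensorProduct.lift f' g' fun _ _ => Commute.all _ _).toRingHom, fun t a => by
    simp [f', g']⟩

theorem isUnit_mk_of_eval_one_ne_zero {K : Type u} [Field K] (p : K[X]) (hp : p.eval 1 ≠ 0) (N : ℕ) :
    IsUnit (Ideal.Quotient.mk (Ideal.span {(X - 1 : K[X]) ^ N}) p) := by
  have hco : IsCoprime (X - 1 : K[X]) p := by
    rw [← map_one (C : K →+* K[X])]
    refine (irreducible_X_sub_C (1 : K)).coprime_iff_not_dvd.2 fun h => hp ?_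
    exact dvd_iff_isRoot.1 h
  obtain ⟨a, b, hab⟩ := hco.pow_left (m := N)
  refine IsUnit.of_mul_eq_one (Ideal.Quotient.mk _ b) ?_
  rw [← map_mul, ← map_one (Ideal.Quotient.mk (Ideal.span {(X - 1 : K[X]) ^ N})), Ideal.Quotient.eq,
    Ideal.mem_span_singleton']
  exact ⟨-a, by linear_combination -hab⟩

section

variable (k : Type u) [Field k] (n : ℕ) (A : Type u) [CommRing A] [IsDomain A] [Algebra k A]
  [Algebra (MvPolynomial (Fin n) k) A] [IsScalarTower k (MvPolynomial (Fin n) k) A]
  (K : Type u) [Field K] [Algebra A K] [IsFractionRing A K]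
  [Algebra (MvPolynomial (Fin n) k) K] [IsScalarTower (MvPolynomial (Fin n) k) A K]
  (F : Type u) [Field F] [Algebra (MvPolynomial (Fin n) k) F] [IsFractionRing (MvPolynomial (Fin n) k) F]
  [Algebra F K] [IsScalarTower (MvPolynomial (Fin n) k) F K] [Algebra.IsSeparable F K]

include F in
/-- The diagonal point of the family deforms to all orders in the `T`-direction. -/
theorem exists_jets (N : ℕ) :
    ∃ χ : (Tw A ⊗[MvPolynomial (Fin n) k] A) →+* K[X] ⧸ Ideal.span {(X - 1 : K[X]) ^ (N + 1)},
      (∀ s, diag (Tw.evalOne k n A) s ≠ 0 → IsUnit (χ s)) ∧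
      ∀ t, χ (t ⊗ₜ 1) = Ideal.Quotient.mk _ ((Tw.equiv A t).map (algebraMap A K)) := by
  set R := MvPolynomial (Fin n) k
  let I : Ideal K[X] := Ideal.span {(X - 1 : K[X]) ^ (N + 1)}
  let ψ : R →+* K[X] ⧸ I := (Ideal.Quotient.mk I).comp
    ((mapRingHom (algebraMap A K)).comp ((Tw.equiv A).toRingHom.comp (algebraMap R (Tw A))))
  have heval : ∀ r : R, ((Tw.equiv A (algebraMap R (Tw A) r)).map (algebraMap A K)).eval 1 = algebraMap R K r := by
    intro r
    rw [eval_map, ← map_one (algebraMap A K), eval₂_at_apply, ← Tw.evalOne_apply k n A, AlgHom.commutes,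
      ← IsScalarTower.algebraMap_apply]
  have hψ : ∀ y : nonZeroDivisors R, IsUnit (ψ y) := fun y => by
    refine isUnit_mk_of_eval_one_ne_zero _ ?_ _
    show ((Tw.equiv A (algebraMap R (Tw A) y)).map (algebraMap A K)).eval 1 ≠ 0
    rw [heval, IsScalarTower.algebraMap_apply R F K, _root_.map_ne_zero, ne_eq, IsFractionRing.to_map_eq_zero_iff]
    exact nonZeroDivisors.coe_ne_zero y
  let φF : F →+* K[X] ⧸ I := IsLocalization.lift hψ
  letI : Algebra F (K[X] ⧸ I) := φF.toAlgebra
  let ρ0 : (K[X] ⧸ I) →+* K := Ideal.Quotient.lift I (evalRingHom (1 : K)) (fun p hp => by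
    obtain ⟨c, rfl⟩ := Ideal.mem_span_singleton'.1 hp
    simp)
  let ρ : (K[X] ⧸ I) →ₐ[F] K :=
    { ρ0 with
      commutes' := fun c => by
        have h : ρ0.comp φF = algebraMap F K := by
          refine IsLocalization.ringHom_ext (nonZeroDivisors R) (RingHom.ext fun r => ?_)
          simp only [RingHom.comp_apply, φF, IsLocalization.lift_eq]
          exact (heval r).trans (IsScalarTower.algebraMap_apply R F K r)
        exact RingHom.congr_fun h c }
  have hρs : Function.Surjective ρ := fun c => ⟨Ideal.Quotient.mk I (C c), by simp [ρ, ρ0]⟩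
  have hρk : IsNilpotent (RingHom.ker (ρ : (K[X] ⧸ I) →+* K)) := by
    have hle : RingHom.ker (ρ : (K[X] ⧸ I) →+* K) ≤ Ideal.span {Ideal.Quotient.mk I (X - 1)} := by
      intro z hz
      obtain ⟨p, rfl⟩ := Ideal.Quotient.mk_surjective z
      obtain ⟨q, rfl⟩ : (X - C (1 : K)) ∣ p := dvd_iff_isRoot.2 (by simpa [ρ, ρ0] using hz)
      exact Ideal.mem_span_singleton.2 ⟨Ideal.Quotient.mk I q, by simp⟩
    refine ⟨N + 1, le_bot_iff.1 ((Ideal.pow_right_mono hle (N + 1)).trans ?_)⟩
    rw [Ideal.span_singleton_pow, Ideal.span_singleton_le_iff_mem, Ideal.mem_bot, ← map_pow,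
      Ideal.Quotient.eq_zero_iff_mem]
    exact Ideal.subset_span rfl
  haveI : Algebra.FormallyEtale F K := Algebra.FormallyEtale.of_isSeparable F K
  let g : K →ₐ[F] K[X] ⧸ I := Algebra.FormallySmooth.liftOfSurjective (AlgHom.id F K) ρ hρs hρk
  have hg : ∀ c, ρ (g c) = c := fun c =>
    Algebra.FormallySmooth.liftOfSurjective_apply (AlgHom.id F K) ρ hρs hρk c
  obtain ⟨χ, hχ⟩ := exists_tensor_hom (R := R)
    ((Ideal.Quotient.mk I).comp ((mapRingHom (algebraMap A K)).comp (Tw.equiv A).toRingHom))
    (g.toRingHom.comp (algebraMap A K)) fun r => by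
      show ψ r = g (algebraMap A K (algebraMap R A r))
      rw [← IsScalarTower.algebraMap_apply, IsScalarTower.algebraMap_apply R F K, AlgHom.commutes]
      exact (IsLocalization.lift_eq hψ r).symm
  refine ⟨χ, fun s hs => ?_, fun t => ?_⟩
  · have hcomp : ∀ z, ρ (χ z) = algebraMap A K (diag (Tw.evalOne k n A) z) := fun z => by
      induction z using TensorProduct.induction_on with
      | zero => simp
      | add x y hx hy => simp [hx, hy]
      | tmul t a =>
        rw [hχ, map_mul, show diag (Tw.evalOne k n A) (t ⊗ₜ a) = Tw.evalOne k n A t * a by simp [diag],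
          map_mul, Tw.evalOne_apply]
        congr 1
        · show ((Tw.equiv A t).map (algebraMap A K)).eval 1 = _
          rw [eval_map, ← map_one (algebraMap A K), eval₂_at_apply]
        · exact hg _
    obtain ⟨p, hp⟩ := Ideal.Quotient.mk_surjective (χ s)
    show IsUnit (χ s)
    rw [← hp]
    refine isUnit_mk_of_eval_one_ne_zero p ?_ _
    have := hcomp s
    rw [← hp] at this
    rw [show p.eval 1 = ρ (Ideal.Quotient.mk I p) from rfl, this, ne_eq, IsFractionRing.to_map_eq_zero_iff]
    exact hs
  · show χ (t ⊗ₜ 1) = _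
    simp [hχ]
    rfl

end

end Groth.L08.Cube.NP
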