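import Groth.Agent.L08.Cube.NP.Trn
import Groth.Agent.L08.Cube.NP.Chart
import Groth.Agent.L25.Actions

/-!
# Generic trivialisations which are regular on all slices
-/

set_option autoImplicit false
set_option linter.style.haveILetI false
set_option linter.unusedSectionVars false
set_option maxSynthPendingDepth 3
set_option backward.isDefEq.respectTransparency false

universe u

open CategoryTheory CategoryTheory.Limits MonoidalCategory CartesianMonoidalCategory AlgebraicGeometry TopologicalSpace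

noncomputable section

namespace Groth.L08.Cube.NP

open Groth.Agent.AbDualLib
open Groth.L18.Frame (rs ro rs_rs rs_self rs_smul ro_ro ro_self ro_mul IsFrame)

variable {k : Type u} [Field k] [IsAlgClosed k]

local notation "𝟙k" => (𝟙_ (Over (Spec (CommRingCat.of k))))

variable {A W E : Over (Spec (CommRingCat.of k))} [LocallyOfFiniteType A.hom] [LocallyOfFiniteType W.hom]
  [AlgebraicGeometry.IsIntegral A.left] [AlgebraicGeometry.IsIntegral W.left]
  [AlgebraicGeometry.IsIntegral (A ⊗ W).left] [IsAffine E.left] [Subsingleton E.left]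

/-- The slice at a rational point of the second factor. -/
abbrev sec2 (X : Over (Spec (CommRingCat.of k))) (w : 𝟙k ⟶ W) : X ⟶ X ⊗ W := lift (𝟙 X) (toUnit X ≫ w)

theorem comp_sec2 (η : E ⟶ A) (w : 𝟙k ⟶ W) : sec2 E w ≫ (η ▷ W) = η ≫ sec2 A w := by
  apply CartesianMonoidalCategory.hom_ext
  · simp
  · simp only [Category.assoc, whiskerRight_snd, lift_snd]
    rw [← Category.assoc, toUnit_unique (η ≫ toUnit A) (toUnit E)]

variable (η : E ⟶ A) [IsDominant η.left]

theorem flat_fst' (A W : Over (Spec (CommRingCat.of k))) : Flat (fst A W).left := by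
  haveI : Flat W.hom := inferInstance
  exact MorphismProperty.of_isPullback (isPullback_prod A W).flip ‹Flat W.hom›

/-- The whiskering of a dominant point is dominant. -/
theorem dominant_whiskerRight : DenseRange (η ▷ W).left := by
  haveI := flat_fst' A W
  haveI : LocallyOfFinitePresentation (fst A W).left := by
    haveI : LocallyOfFinitePresentation W.hom := inferInstance
    exact MorphismProperty.of_isPullback (isPullback_prod A W).flip ‹LocallyOfFinitePresentation W.hom›
  haveI : UniversallyOpen (fst A W).left := inferInstance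
  have hd : Dense ((fst A W).left ⁻¹' Set.range η.left) := η.left.denseRange.preimage (fst A W).left.isOpenMap
  refine hd.mono ?_
  rintro y ⟨t, ht⟩
  obtain ⟨z, hz, -⟩ := Scheme.exists_preimage_of_isPullback
    (Groth.L25.Actions.isPullback_whiskerRight_left η W) y t ht.symm
  exact ⟨z, hz⟩

theorem injective_app (O : (A ⊗ W).left.Opens) : Function.Injective ((η ▷ W).left.app O) := by
  rw [injective_iff_map_eq_zero]
  intro a ha
  rw [← basicOpen_eq_bot_iff]
  by_contra hne
  obtain ⟨x, hx⟩ := (dominant_whiskerRight η).exists_mem_open ((A ⊗ W).left.basicOpen a).2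
    (Set.nonempty_iff_ne_empty.2 fun h0 => hne (Opens.ext h0))
  have : x ∈ (η ▷ W).left ⁻¹ᵁ (A ⊗ W).left.basicOpen a := hx
  rw [Scheme.preimage_basicOpen, ha, Scheme.basicOpen_zero] at this
  exact this

/-- Every nonempty open of the first factor contains the point. -/
theorem preimage_eq_top {U : A.left.Opens} {a : A.left} (ha : a ∈ U) : η.left ⁻¹ᵁ U = ⊤ := by
  obtain ⟨x, hx⟩ := η.left.denseRange.exists_mem_open U.2 ⟨a, ha⟩
  exact top_le_iff.1 fun y _ => by rw [Subsingleton.elim y x]; exact hx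

theorem kval_strMap {V : W.left.Opens} (w : 𝟙k ⟶ W) (hw : kpt w ∈ V) (c : k) :
    kval V w hw (strMap W V c) = c := by
  show (Scheme.ΓSpecIso (CommRingCat.of k)).hom (w.left.appLE V ⊤ _ (W.hom.appLE ⊤ V le_top
    ((Scheme.ΓSpecIso (CommRingCat.of k)).inv c))) = c
  rw [← CommRingCat.comp_apply (W.hom.appLE _ _ _), Scheme.Hom.appLE_comp_appLE]
  rw [appLE_eq_of_eq (Over.w w : w.left ≫ W.hom = (𝟙k).hom)]
  have : ((𝟙k).hom.appLE ⊤ ⊤ le_top) = 𝟙 _ := by
    show Scheme.Hom.appLE (𝟙 (Spec (CommRingCat.of k))) ⊤ ⊤ le_top = 𝟙 _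
    simp [Scheme.Hom.appLE]
  rw [appLE_eq_of_eq rfl, this]
  simp

theorem appLE_const (w : 𝟙k ⟶ W) {V : W.left.Opens} (hw : kpt w ∈ V) {U : E.left.Opens}
    (hU : U ≤ (toUnit E ≫ w).left ⁻¹ᵁ V) (s : Γ(W.left, V)) :
    ((toUnit E ≫ w).left.appLE V U hU).hom s = strMap E U (kval V w hw s) := by
  have hwV : (⊤ : (𝟙k).left.Opens) ≤ w.left ⁻¹ᵁ V := fun t _ => by
    rw [Subsingleton.elim (α := PrimeSpectrum k) t (IsLocalRing.closedPoint k)]; exact hw
  show _ = E.hom.appLE ⊤ U le_top ((Scheme.ΓSpecIso (CommRingCat.of k)).inv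
    ((Scheme.ΓSpecIso (CommRingCat.of k)).hom (w.left.appLE V ⊤ hwV s)))
  rw [Iso.hom_inv_id_apply]
  exact (ConcreteCategory.congr_hom
    (Scheme.Hom.appLE_comp_appLE (toUnit E).left w.left V ⊤ U hwV le_top) s).symm

/-- A generic function is regular near a closed point if it is regular on all slices. -/
theorem exists_near (O : (A ⊗ W).left.Opens) (f : Γ((E ⊗ W).left, (η ▷ W).left ⁻¹ᵁ O))
    (hf : ∀ w : 𝟙k ⟶ W, ∃ φ : Γ(A.left, (sec2 A w).left ⁻¹ᵁ O),
      (η.left.appLE ((sec2 A w).left ⁻¹ᵁ O) ((η ≫ sec2 A w).left ⁻¹ᵁ O) (by rw [Over.comp_left]; exact le_rfl)).hom φ =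
      ((sec2 E w).left.appLE ((η ▷ W).left ⁻¹ᵁ O) ((η ≫ sec2 A w).left ⁻¹ᵁ O)
        (by rw [← comp_sec2, Over.comp_left]; exact le_rfl)).hom f)
    (p : 𝟙k ⟶ A ⊗ W) (hp : kpt p ∈ O) :
    ∃ (O' : (A ⊗ W).left.Opens) (h : O' ≤ O) (g : Γ((A ⊗ W).left, O')), kpt p ∈ O' ∧
      (η ▷ W).left.app O' g = ro ((η ▷ W).left.preimage_mono h) f := by
  classical
  obtain ⟨_, ⟨T, hT, rfl⟩, hpT, -⟩ := A.left.isBasis_affineOpens.exists_subset_of_mem_open
    (Set.mem_univ ((fst A W).left (kpt p))) isOpen_univ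
  obtain ⟨_, ⟨V, hV, rfl⟩, hpV, -⟩ := W.left.isBasis_affineOpens.exists_subset_of_mem_open
    (Set.mem_univ ((snd A W).left (kpt p))) isOpen_univ
  let O₀ := prodOpen A W T V
  have hO₀ : IsAffineOpen O₀ := isAffineOpen_prodOpen A W T V hT hV
  obtain ⟨h, hhO, hph⟩ := hO₀.exists_basicOpen_le (⟨kpt p, hp⟩ : O) ⟨hpT, hpV⟩
  -- the generic side
  let UE := η.left ⁻¹ᵁ T
  have hUE : UE = ⊤ := preimage_eq_top η hpT
  have hUEa : IsAffineOpen UE := hUE ▸ isAffineOpen_top _
  let OE := prodOpen E W UE V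
  have hEV : (η ▷ W).left ⁻¹ᵁ O₀ = OE := by
    simp only [O₀, OE, UE, prodOpen, Scheme.Hom.preimage_inf, ← Scheme.Hom.comp_preimage, ← Over.comp_left,
      whiskerRight_fst, whiskerRight_snd]
  let F₀ := (η ▷ W).left.appLE O₀ OE hEV.ge
  let hE : Γ((E ⊗ W).left, OE) := F₀.hom h
  have hbE : (E ⊗ W).left.basicOpen hE ≤ (η ▷ W).left ⁻¹ᵁ O := by
    show (E ⊗ W).left.basicOpen ((η ▷ W).left.appLE O₀ OE hEV.ge h) ≤ _
    rw [Scheme.basicOpen_appLE]
    exact inf_le_right.trans ((η ▷ W).left.preimage_mono hhO)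
  haveI := (isAffineOpen_prodOpen E W UE V hUEa hV).isLocalization_basicOpen hE
  obtain ⟨n, G, hG⟩ := IsLocalization.Away.surj hE (ro hbE f)
  obtain ⟨N, c, ε, hind, hexp⟩ := exists_expansion E W UE V hUEa hV G
  let a : 𝟙k ⟶ A := p ≫ fst A W
  have ha : kpt a = (fst A W).left (kpt p) := by
    show (p ≫ fst A W).left (IsLocalRing.closedPoint k) = _
    rw [Over.comp_left, Scheme.Hom.comp_apply]
  have haT : kpt a ∈ T := ha ▸ hpT
  let ev : Γ(A.left, T) →+* Γ(E.left, UE) := (η.left.app T).hom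
  letI := (strMap E UE).toAlgebra
  letI := (strMap W V).toAlgebra
  have hev : ∀ c : k, ev (strMap A T c) = strMap E UE c := fun c => by
    show η.left.app T (A.hom.appLE ⊤ T le_top ((Scheme.ΓSpecIso (CommRingCat.of k)).inv c)) = _
    rw [Scheme.Hom.app_eq_appLE, ← CommRingCat.comp_apply (A.hom.appLE _ _ _), Scheme.Hom.appLE_comp_appLE,
      appLE_eq_of_eq (Over.w η)]
    rfl
  let L : Submodule k Γ(E.left, UE) :=
    { carrier := {x | ∃ r s : Γ(A.left, T), kpt a ∈ A.left.basicOpen s ∧ x * ev s = ev r}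
      add_mem' := by
        rintro x y ⟨r, s, hs, hx⟩ ⟨r', s', hs', hy⟩
        refine ⟨r * s' + r' * s, s * s', by rw [Scheme.basicOpen_mul]; exact ⟨hs, hs'⟩, ?_⟩
        rw [map_mul, map_add, map_mul, map_mul, ← hx, ← hy]
        ring
      zero_mem' := ⟨0, 1, by rw [Scheme.basicOpen_of_isUnit _ isUnit_one]; exact haT, by simp⟩
      smul_mem' := by
        rintro l x ⟨r, s, hs, hx⟩
        refine ⟨strMap A T l * r, s, hs, ?_⟩
        rw [map_mul, hev, ← hx, Algebra.smul_def, RingHom.algebraMap_toAlgebra, mul_assoc] }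
  let τ : W ⟶ A ⊗ W := lift (toUnit W ≫ a) (𝟙 W)
  let W'' : W.left.Opens := τ.left ⁻¹ᵁ (A ⊗ W).left.basicOpen h
  have hslice : ∀ w : 𝟙k ⟶ W, w ≫ τ = a ≫ sec2 A w := fun w => by
    apply CartesianMonoidalCategory.hom_ext
    · simp only [τ, Category.assoc, lift_fst]
      rw [← Category.assoc, toUnit_unique (w ≫ toUnit W) (𝟙 _), Category.id_comp, Category.comp_id]
    · simp only [τ, Category.assoc, lift_snd, Category.comp_id]
      rw [← Category.assoc, toUnit_unique (a ≫ toUnit A) (𝟙 _), Category.id_comp]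
  have hWV : W'' ≤ V := fun y hy => by
    have h2 : (snd A W).left (τ.left y) ∈ V := ((A ⊗ W).left.basicOpen_le h hy).2
    rwa [← Scheme.Hom.comp_apply, ← Over.comp_left, show τ ≫ snd A W = 𝟙 W from lift_snd _ _] at h2
  have hval : ∀ (w : 𝟙k ⟶ W) (hw : kpt w ∈ W''), ∑ i, kval V w (hWV hw) (ε i) • c i ∈ L := by
    intro w hw
    let σ := sec2 A w
    let e := sec2 E w
    let U : A.left.Opens := σ.left ⁻¹ᵁ (A ⊗ W).left.basicOpen h
    have haU : kpt a ∈ U := by
      show σ.left (a.left (IsLocalRing.closedPoint k)) ∈ (A ⊗ W).left.basicOpen h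
      rw [← Scheme.Hom.comp_apply, ← Over.comp_left, ← hslice, Over.comp_left, Scheme.Hom.comp_apply]
      exact hw
    have hUEU : UE ≤ η.left ⁻¹ᵁ U := (preimage_eq_top η haU).symm ▸ le_top
    have heOE : UE ≤ e.left ⁻¹ᵁ OE := by
      intro y hy
      refine ⟨?_, ?_⟩
      · show (fst E W).left (e.left y) ∈ UE
        rw [← Scheme.Hom.comp_apply, ← Over.comp_left, show e ≫ fst E W = 𝟙 E from lift_fst _ _]
        exact hy
      · show (snd E W).left (e.left y) ∈ V
        rw [← Scheme.Hom.comp_apply, ← Over.comp_left, show e ≫ snd E W = toUnit E ≫ w from lift_snd _ _,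
          Over.comp_left, Scheme.Hom.comp_apply, Subsingleton.elim (α := PrimeSpectrum k) ((toUnit E).left y)
            (IsLocalRing.closedPoint k)]
        exact hWV hw
    have hcomp : e.left ≫ (η ▷ W).left = η.left ≫ σ.left := by
      rw [← Over.comp_left, ← Over.comp_left, comp_sec2]
    have heb : UE ≤ e.left ⁻¹ᵁ (E ⊗ W).left.basicOpen hE := by
      show _ ≤ e.left ⁻¹ᵁ (E ⊗ W).left.basicOpen ((η ▷ W).left.appLE O₀ OE hEV.ge h)
      rw [Scheme.basicOpen_appLE]
      refine fun y hy => ⟨heOE hy, ?_⟩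
      show (η ▷ W).left (e.left y) ∈ (A ⊗ W).left.basicOpen h
      rw [← Scheme.Hom.comp_apply, hcomp, Scheme.Hom.comp_apply]
      exact hUEU hy
    obtain ⟨φ, hφ⟩ := hf w
    let hσ : Γ(A.left, U) := (σ.left.appLE O₀ U fun y hy => (A ⊗ W).left.basicOpen_le h hy).hom h
    let u : Γ(A.left, U) := ro (σ.left.preimage_mono hhO) φ * hσ ^ n
    have hGu : (e.left.appLE OE UE heOE).hom G = (η.left.appLE U UE hUEU).hom u := by
      have h0 := congrArg (e.left.appLE ((E ⊗ W).left.basicOpen hE) UE heb).hom hG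
      simp only [RingHom.algebraMap_toAlgebra, map_mul, map_pow] at h0
      rw [map_mul, map_pow]
      have e1 : (e.left.appLE ((E ⊗ W).left.basicOpen hE) UE heb).hom (ro hbE f) =
          (η.left.appLE U UE hUEU).hom (ro (σ.left.preimage_mono hhO) φ) := by
        rw [appLE_ro, appLE_ro]
        have h1 := congrArg (ro (show UE ≤ (η ≫ sec2 A w).left ⁻¹ᵁ O from fun y hy => by
          show (η ≫ σ).left y ∈ O
          rw [Over.comp_left, Scheme.Hom.comp_apply]
          exact hhO (hUEU hy))) hφ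
        rw [ro_appLE, ro_appLE] at h1
        exact h1.symm
      have e2 : (e.left.appLE ((E ⊗ W).left.basicOpen hE) UE heb).hom
          (ro ((E ⊗ W).left.basicOpen_le hE) hE) = (η.left.appLE U UE hUEU).hom hσ := by
        rw [appLE_ro]
        show (e.left.appLE OE UE heOE) ((η ▷ W).left.appLE O₀ OE hEV.ge h) =
          η.left.appLE U UE hUEU (σ.left.appLE O₀ U _ h)
        rw [← CommRingCat.comp_apply, Scheme.Hom.appLE_comp_appLE, ← CommRingCat.comp_apply,
          Scheme.Hom.appLE_comp_appLE, appLE_eq_of_eq hcomp]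
      rw [← e1, ← e2]
      refine Eq.trans ?_ h0.symm
      exact (appLE_ro e.left ((E ⊗ W).left.basicOpen_le hE) heb G).symm
    have hGsum : (e.left.appLE OE UE heOE).hom G = ∑ i, kval V w (hWV hw) (ε i) • c i := by
      rw [hexp, map_sum]
      refine Finset.sum_congr rfl fun i _ => ?_
      show e.left.appLE OE UE heOE ((fst E W).left.appLE UE OE _ (c i) * (snd E W).left.appLE V OE _ (ε i)) = _
      rw [map_mul, ← CommRingCat.comp_apply, Scheme.Hom.appLE_comp_appLE, ← CommRingCat.comp_apply,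
        Scheme.Hom.appLE_comp_appLE, Algebra.smul_def, RingHom.algebraMap_toAlgebra, mul_comm (strMap E UE _)]
      refine congrArg₂ (· * ·) ?_ ?_
      · rw [appLE_eq_of_eq (show e.left ≫ (fst E W).left = 𝟙 E.left by
          rw [← Over.comp_left, show e ≫ fst E W = 𝟙 E from lift_fst _ _]; rfl)]
        simp [Scheme.Hom.appLE]
        exact ConcreteCategory.congr_hom (E.left.presheaf.map_id _) _
      · rw [appLE_eq_of_eq (show e.left ≫ (snd E W).left = (toUnit E ≫ w).left by
          rw [← Over.comp_left, show e ≫ snd E W = toUnit E ≫ w from lift_snd _ _])]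
        exact appLE_const w (hWV hw) _ _
    rw [← hGsum, hGu]
    -- express the section as a fraction at `a`
    obtain ⟨s, hsU, has⟩ := hT.exists_basicOpen_le (⟨kpt a, haU⟩ : U) haT
    haveI := hT.isLocalization_basicOpen s
    obtain ⟨m, r, hr⟩ := IsLocalization.Away.surj s (ro hsU u)
    have hEs : UE ≤ η.left ⁻¹ᵁ A.left.basicOpen s := (preimage_eq_top η has).symm ▸ le_top
    refine ⟨r, s ^ m, ?_, ?_⟩
    · rcases m.eq_zero_or_pos with rfl | hm
      · rw [pow_zero, Scheme.basicOpen_of_isUnit _ isUnit_one]; exact haT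
      · rw [Scheme.basicOpen_pow _ _ hm]; exact has
    · have h0 := congrArg (η.left.appLE (A.left.basicOpen s) UE hEs).hom hr
      simp only [RingHom.algebraMap_toAlgebra, map_mul, map_pow] at h0
      rw [show (η.left.appLE (A.left.basicOpen s) UE hEs).hom (ro hsU u) = (η.left.appLE U UE hUEU).hom u from
        appLE_ro η.left hsU hEs u] at h0
      simp only [ev, map_pow, Scheme.Hom.app_eq_appLE]
      refine Eq.trans ?_ (h0.trans (appLE_ro η.left (A.left.basicOpen_le s) hEs r))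
      exact congrArg (fun z => _ * z ^ m) (appLE_ro η.left (A.left.basicOpen_le s) hEs s).symm
  -- each coefficient is a fraction at `a`
  have hw₀ : kpt (p ≫ snd A W) ∈ W'' := by
    show τ.left ((p ≫ snd A W).left (IsLocalRing.closedPoint k)) ∈ (A ⊗ W).left.basicOpen h
    rw [← Scheme.Hom.comp_apply, ← Over.comp_left, show (p ≫ snd A W) ≫ τ = p by
      rw [hslice]
      apply CartesianMonoidalCategory.hom_ext
      · simp [a]
      · simp only [Category.assoc, lift_snd]
        rw [← Category.assoc, toUnit_unique (a ≫ toUnit A) (𝟙 _), Category.id_comp]]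
    exact hph
  have hci : ∀ i, c i ∈ L := by
    intro i
    by_contra hi
    obtain ⟨ψ, hψi, hψL⟩ := Submodule.exists_dual_map_eq_bot_of_notMem hi inferInstance
    let g : Γ(W.left, V) := ∑ j, strMap W V (ψ (c j)) * ε j
    have hg : g = 0 := by
      haveI : Nonempty W'' := ⟨⟨_, hw₀⟩⟩
      refine map_injective_of_isIntegral W.left (homOfLE hWV) ?_
      show ro hWV g = ro hWV 0
      refine eq_of_kval fun q hq => ?_
      rw [kval_ro, kval_ro, map_zero, map_sum]
      simp only [map_mul, kval_strMap]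
      have h0 : ψ (∑ j, kval V q (hWV hq) (ε j) • c j) = 0 := by
        have := Submodule.mem_map_of_mem (f := ψ) (hval q hq)
        rw [hψL] at this
        exact (Submodule.mem_bot k).1 this
      simp only [map_sum, map_smul, smul_eq_mul] at h0
      refine Eq.trans (Finset.sum_congr rfl fun j _ => mul_comm _ _) h0
    exact hψi (Fintype.linearIndependent_iff.1 hind (fun j => ψ (c j)) hg i)
  choose r s hs hrs using hci
  let S : Γ(A.left, T) := ∏ i, s i
  let r' : Fin N → Γ(A.left, T) := fun i => r i * ∏ j ∈ Finset.univ.erase i, s j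
  have hr' : ∀ i, c i * ev S = ev (r' i) := fun i => by
    rw [show S = s i * ∏ j ∈ Finset.univ.erase i, s j from (Finset.mul_prod_erase _ _ (Finset.mem_univ i)).symm,
      map_mul, ← mul_assoc, hrs, ← map_mul]
  have hS : kpt a ∈ A.left.basicOpen S := by
    have : ∀ t : Finset (Fin N), kpt a ∈ A.left.basicOpen (∏ i ∈ t, s i) := fun t => by
      induction t using Finset.induction_on with
      | empty => rw [Finset.prod_empty, Scheme.basicOpen_of_isUnit _ isUnit_one]; exact haT
      | insert i t hi ih => rw [Finset.prod_insert hi, Scheme.basicOpen_mul]; exact ⟨hs i, ih⟩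
    exact this _
  let SA : Γ((A ⊗ W).left, O₀) := ((fst A W).left.appLE T O₀ inf_le_left).hom S
  let G' : Γ((A ⊗ W).left, O₀) := ∑ i, mulFun A W T V (r' i) (ε i)
  let O' := (A ⊗ W).left.basicOpen (h * SA)
  have hO'O₀ : O' ≤ O₀ := (A ⊗ W).left.basicOpen_le _
  have hO'h : O' ≤ (A ⊗ W).left.basicOpen h := by
    show (A ⊗ W).left.basicOpen (h * SA) ≤ _
    rw [Scheme.basicOpen_mul]; exact inf_le_left
  have hu : IsUnit (ro hO'O₀ (h ^ n * SA)) := by
    have h1 : IsUnit (ro hO'O₀ (h * SA)) := RingedSpace.isUnit_res_basicOpen _ _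
    rw [ro_mul, IsUnit.mul_iff] at h1
    rw [ro_mul, show ro hO'O₀ (h ^ n) = ro hO'O₀ h ^ n from map_pow _ _ _]
    exact (h1.1.pow n).mul h1.2
  refine ⟨O', hO'h.trans hhO, ro hO'O₀ G' * ↑hu.unit⁻¹, ?_, ?_⟩
  · show kpt p ∈ (A ⊗ W).left.basicOpen (h * SA)
    rw [Scheme.basicOpen_mul]
    refine ⟨hph, ?_⟩
    show kpt p ∈ (A ⊗ W).left.basicOpen ((fst A W).left.appLE T O₀ inf_le_left S)
    rw [Scheme.basicOpen_appLE]
    exact ⟨⟨hpT, hpV⟩, by show (fst A W).left (kpt p) ∈ A.left.basicOpen S; rw [← ha]; exact hS⟩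
  · let Q := (η ▷ W).left ⁻¹ᵁ O'
    have hQ : Q ≤ OE := hEV ▸ (η ▷ W).left.preimage_mono hO'O₀
    have hQb : Q ≤ (E ⊗ W).left.basicOpen hE := by
      show _ ≤ (E ⊗ W).left.basicOpen ((η ▷ W).left.appLE O₀ OE hEV.ge h)
      rw [Scheme.basicOpen_appLE]
      exact le_inf hQ ((η ▷ W).left.preimage_mono hO'h)
    refine (hu.map ((η ▷ W).left.app O').hom).mul_right_cancel ?_
    rw [← map_mul, mul_assoc, IsUnit.val_inv_mul, mul_one]
    have hθ : ∀ z : Γ((A ⊗ W).left, O₀), (η ▷ W).left.app O' (ro hO'O₀ z) = ro hQ (F₀.hom z) := fun z => by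
      rw [Scheme.Hom.app_eq_appLE, appLE_ro]
      exact (ro_appLE (η ▷ W).left hEV.ge hQ z).symm
    rw [hθ, hθ]
    have hF : F₀.hom G' = G * F₀.hom SA := by
      rw [hexp, Finset.sum_mul, map_sum]
      refine Finset.sum_congr rfl fun i _ => ?_
      have e1 : ∀ z : Γ(A.left, T), F₀.hom (((fst A W).left.appLE T O₀ inf_le_left).hom z) =
          ((fst E W).left.appLE UE OE inf_le_left).hom (ev z) := fun z => by
        show (η ▷ W).left.appLE O₀ OE hEV.ge ((fst A W).left.appLE T O₀ inf_le_left z) =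
          (fst E W).left.appLE UE OE inf_le_left (η.left.app T z)
        rw [Scheme.Hom.app_eq_appLE, ← CommRingCat.comp_apply, Scheme.Hom.appLE_comp_appLE,
          ← CommRingCat.comp_apply, Scheme.Hom.appLE_comp_appLE,
          appLE_eq_of_eq (show (η ▷ W).left ≫ (fst A W).left = (fst E W).left ≫ η.left by
            rw [← Over.comp_left, ← Over.comp_left, whiskerRight_fst])]
      have e2 : ∀ z : Γ(W.left, V), F₀.hom (((snd A W).left.appLE V O₀ inf_le_right).hom z) =
          ((snd E W).left.appLE V OE inf_le_right).hom z := fun z => by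
        show (η ▷ W).left.appLE O₀ OE hEV.ge ((snd A W).left.appLE V O₀ inf_le_right z) = _
        rw [← CommRingCat.comp_apply, Scheme.Hom.appLE_comp_appLE,
          appLE_eq_of_eq (show (η ▷ W).left ≫ (snd A W).left = (snd E W).left by
            rw [← Over.comp_left, whiskerRight_snd])]
      show F₀.hom (_ * _) = (_ * _) * F₀.hom SA
      rw [map_mul, e1, e2, ← hr', map_mul, e1]
      ring
    rw [hF, map_mul, map_pow, ro_mul, ro_mul, show ro hQ (F₀.hom h ^ n) = ro hQ hE ^ n from map_pow _ _ _,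
      ← mul_assoc]
    refine congrArg (· * _) ?_
    have h0 := congrArg (ro hQb) hG
    simp only [RingHom.algebraMap_toAlgebra] at h0
    rw [ro_mul, show ∀ z, ro hQb (z ^ n) = ro hQb z ^ n from fun z => map_pow _ _ _, ro_ro] at h0
    rw [ro_ro, ro_ro] at h0
    exact h0.symm

/-- A generic function which is regular on all slices is regular. -/
theorem exists_descend (O : (A ⊗ W).left.Opens) (f : Γ((E ⊗ W).left, (η ▷ W).left ⁻¹ᵁ O))
    (hf : ∀ w : 𝟙k ⟶ W, ∃ φ : Γ(A.left, (sec2 A w).left ⁻¹ᵁ O),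
      (η.left.appLE ((sec2 A w).left ⁻¹ᵁ O) ((η ≫ sec2 A w).left ⁻¹ᵁ O) (by rw [Over.comp_left]; exact le_rfl)).hom φ =
      ((sec2 E w).left.appLE ((η ▷ W).left ⁻¹ᵁ O) ((η ≫ sec2 A w).left ⁻¹ᵁ O)
        (by rw [← comp_sec2, Over.comp_left]; exact le_rfl)).hom f) :
    ∃ g : Γ((A ⊗ W).left, O), (η ▷ W).left.app O g = f := by
  haveI : LocallyOfFiniteType (A ⊗ W).hom :=
    inferInstanceAs (LocallyOfFiniteType (pullback.fst A.hom W.hom ≫ A.hom))
  haveI : JacobsonSpace (A ⊗ W).left := LocallyOfFiniteType.jacobsonSpace (A ⊗ W).hom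
  let ι := {p : 𝟙k ⟶ A ⊗ W // kpt p ∈ O}
  choose U hU g hpU hg using fun p : ι => exists_near η O f hf p.1 p.2
  have hcov : O ≤ iSup U := by
    intro x hx
    obtain ⟨z, hz, hzc⟩ := nonempty_inter_closedPoints (Z := closure {x} ∩ (O : Set (A ⊗ W).left))
      ⟨x, subset_closure rfl, hx⟩ (isClosed_closure.isLocallyClosed.inter O.2.isLocallyClosed)
    obtain ⟨p, rfl⟩ := exists_kpt z hzc
    exact Opens.mem_iSup.2 ⟨⟨p, hz.2⟩,
      (specializes_iff_mem_closure.2 hz.1).mem_open (U _).2 (hpU ⟨p, hz.2⟩)⟩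
  obtain ⟨G, hG, -⟩ := (A ⊗ W).left.sheaf.existsUnique_gluing' U O (fun p => homOfLE (hU p)) hcov g fun p q => by
    show ro inf_le_left (g p) = ro inf_le_right (g q)
    refine injective_app η _ ?_
    have key : ∀ (i : ι) (h : U p ⊓ U q ≤ U i), (η ▷ W).left.app (U p ⊓ U q) (ro h (g i)) =
        ro ((η ▷ W).left.preimage_mono (h.trans (hU i))) f := fun i h => by
      rw [Scheme.Hom.app_eq_appLE, appLE_ro, ← ro_appLE (η ▷ W).left le_rfl ((η ▷ W).left.preimage_mono h),
        ← Scheme.Hom.app_eq_appLE, hg i, ro_ro]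
    exact (key p inf_le_left).trans (key q inf_le_right).symm
  refine ⟨G, ?_⟩
  refine (E ⊗ W).left.sheaf.eq_of_locally_eq' (fun p => (η ▷ W).left ⁻¹ᵁ U p) _
    (fun p => homOfLE ((η ▷ W).left.preimage_mono (hU p))) ?_ _ _ fun p => ?_
  · rw [← Scheme.Hom.preimage_iSup]
    exact (η ▷ W).left.preimage_mono hcov
  · show ro _ ((η ▷ W).left.app O G) = ro _ f
    rw [← hg p, ← hG p, Scheme.Hom.app_eq_appLE, Scheme.Hom.app_eq_appLE, ro_appLE]
    exact (appLE_ro (η ▷ W).left (hU p) le_rfl G).symm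

/-- A module with a generic trivialisation which is regular on all slices is trivial. -/
theorem nonempty_iso_of_slices (M : (A ⊗ W).left.Modules) (hM : PicF.IsInvertible M) (F : Trn M (η ▷ W).left)
    (hF : ∀ w : 𝟙k ⟶ W, ∃ G : Trn M (sec2 A w).left,
      G.comap η.left (η ≫ sec2 A w).left (by rw [Over.comp_left]) =
        F.comap (sec2 E w).left (η ≫ sec2 A w).left (by rw [← Over.comp_left, comp_sec2])) :
    Nonempty (M ≅ Coh.structureModule (A ⊗ W).left) := by
  have hd : ∀ O e (he : IsFrame M O e), ∃ g : Γ((A ⊗ W).left, O), IsUnit g ∧ (η ▷ W).left.app O g = F.a O e he := by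
    intro O e he
    obtain ⟨g, hg⟩ := exists_descend η O (F.a O e he) fun w => by
      obtain ⟨G, hG⟩ := hF w
      exact ⟨G.a O e he, congrFun (congrFun (congrFun (congrArg Trn.a hG) O) e) he⟩
    obtain ⟨g', hg'⟩ := exists_descend η O (↑(F.isUnit O e he).unit⁻¹) fun w => by
      obtain ⟨G, hG⟩ := hF w
      refine ⟨↑(G.isUnit O e he).unit⁻¹, ?_⟩
      refine ((F.isUnit O e he).map ((sec2 E w).left.appLE ((η ▷ W).left ⁻¹ᵁ O)
        ((η ≫ sec2 A w).left ⁻¹ᵁ O) (by rw [← comp_sec2, Over.comp_left]; exact le_rfl)).hom).mul_left_cancel ?_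
      rw [← map_mul, IsUnit.mul_val_inv, map_one]
      refine (congrArg (· * _) (congrFun (congrFun (congrFun (congrArg Trn.a hG) O) e) he).symm).trans ?_
      exact (map_mul _ _ _).symm.trans ((congrArg _ (IsUnit.mul_val_inv _)).trans (map_one _))
    refine ⟨g, IsUnit.of_mul_eq_one g' (injective_app η O ?_), hg⟩
    rw [map_mul, hg, hg', IsUnit.mul_val_inv, map_one]
  choose g hgu hg using hd
  refine Trn.nonempty_iso hM
    { a := g
      isUnit := hgu
      compat := fun O₁ e₁ he₁ O₂ e₂ he₂ u hu V h₁ h₂ => injective_app η V ?_ }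
  have hle : V ≤ O₁ ⊓ O₂ := le_inf h₁ h₂
  have := F.compat O₁ e₁ he₁ O₂ e₂ he₂ u hu ((η ▷ W).left ⁻¹ᵁ V) ((η ▷ W).left.preimage_mono h₁)
    ((η ▷ W).left.preimage_mono h₂)
  have key : ∀ (O : (A ⊗ W).left.Opens) (h : V ≤ O) (z : Γ((A ⊗ W).left, O)),
      (η ▷ W).left.app V (ro h z) = ro ((η ▷ W).left.preimage_mono h) ((η ▷ W).left.app O z) := fun O h z => by
    rw [Scheme.Hom.app_eq_appLE, Scheme.Hom.app_eq_appLE, appLE_ro, ro_appLE]
  rw [map_mul]
  refine Eq.trans ?_ (this.trans ?_)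
  · rw [← hg O₁ e₁ he₁]; exact key _ _ _
  · refine congrArg₂ (· * ·) ?_ ?_
    · rw [appLE_eq_of_eq (Category.comp_id (η ▷ W).left).symm]
      exact (ConcreteCategory.congr_hom (Scheme.Hom.appLE_comp_appLE (η ▷ W).left (𝟙 (A ⊗ W).left)
        (O₁ ⊓ O₂) V ((η ▷ W).left ⁻¹ᵁ V) (by exact hle) le_rfl) u).symm.trans
        (by rw [← Scheme.Hom.app_eq_appLE]; rfl)
    · rw [← hg O₂ e₂ he₂]; exact (key _ _ _).symm

end Groth.L08.Cube.NP
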