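import Groth.Agent.L08.Cube.NP.Curve
import Groth.Agent.L07.Spread.General
import Mathlib.RingTheory.Ideal.GoingUp
import Mathlib.RingTheory.Nullstellensatz

/-!
# General points are linked by curves to a single point
-/

set_option autoImplicit false
set_option linter.style.haveILetI false
set_option maxSynthPendingDepth 3

universe u

open TensorProduct Polynomial

namespace Groth.L08.Cube.NP

/-- Two rational points lie on a common integral curve, given by a quotient of `A` which is finite
over a polynomial subring in one variable. -/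
def Link (k : Type u) [Field k] (A : Type u) [CommRing A] [Algebra k A] (v w : A →ₐ[k] k) : Prop :=
  ∃ (C : Type u) (_ : CommRing C) (_ : Algebra k C) (π : A →ₐ[k] C), IsDomain C ∧ Function.Surjective π ∧
    (∃ t : C, Function.Injective (aeval t : k[X] →ₐ[k] C) ∧ (aeval t : k[X] →ₐ[k] C).toRingHom.IsIntegral) ∧
    ∃ v' w' : C →ₐ[k] k, v'.comp π = v ∧ w'.comp π = w

/-- A domain which is integral over an algebraically closed field is that field. -/
theorem algebraMap_surjective_of_integral {k : Type u} [Field k] [IsAlgClosed k] {C : Type u} [CommRing C]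
    [IsDomain C] [Algebra k C] (h : ∀ c : C, IsIntegral k c) : Function.Surjective (algebraMap k C) := by
  haveI : Algebra.IsIntegral k C := ⟨h⟩
  exact (IsAlgClosed.algebraMap_bijective_of_isIntegral (k := k) (K := C)).2

section

variable (k : Type u) [Field k] [IsAlgClosed k] (n : ℕ) (A : Type u) [CommRing A] [IsDomain A] [Algebra k A]
  [Algebra (MvPolynomial (Fin n) k) A] [IsScalarTower k (MvPolynomial (Fin n) k) A]
  [Module.Finite (MvPolynomial (Fin n) k) A]
  (K : Type u) [Field K] [Algebra A K] [IsFractionRing A K]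
  [Algebra (MvPolynomial (Fin n) k) K] [IsScalarTower (MvPolynomial (Fin n) k) A K]
  (F : Type u) [Field F] [Algebra (MvPolynomial (Fin n) k) F] [IsFractionRing (MvPolynomial (Fin n) k) F]
  [Algebra F K] [IsScalarTower (MvPolynomial (Fin n) k) F K] [Algebra.IsSeparable F K]

include K F in
theorem exists_generic_link (hinj : Function.Injective (algebraMap (MvPolynomial (Fin n) k) A)) (i₀ : Fin n)
    (hsep : ∀ a : A, ∃ f : (MvPolynomial (Fin n) k)[X], aeval a f = 0 ∧ aeval a (derivative f) ≠ 0) :
    ∃ (h : A) (ζ : A →ₐ[k] k), h ≠ 0 ∧ ∀ v : A →ₐ[k] k, v h ≠ 0 → Link k A v ζ := by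
  classical
  obtain ⟨P, hP, hPd, hPt, hgeom⟩ := exists_curve k n A K F hsep
  set R := MvPolynomial (Fin n) k
  let D := Tw A ⊗[R] A
  let B := D ⧸ P
  haveI : IsDomain B := Ideal.Quotient.isDomain P
  let mkP : D →+* B := Ideal.Quotient.mk P
  let τB : Tw A →+* B := mkP.comp Algebra.TensorProduct.includeLeftRingHom
  let ρB : A →+* B := mkP.comp (Algebra.TensorProduct.includeRight : A →ₐ[R] D).toRingHom
  letI : Algebra A B := (mkP.comp ((Algebra.TensorProduct.includeLeftRingHom : Tw A →+* D).comp (Tw.C A))).toAlgebra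
  have hτC : ∀ a : A, algebraMap A B a = τB (Tw.C A a) := fun a => rfl
  have hAB : ∀ r : R, ρB (algebraMap R A r) = τB (algebraMap R (Tw A) r) := fun r => by
    show mkP ((1 : Tw A) ⊗ₜ algebraMap R A r) = mkP (algebraMap R (Tw A) r ⊗ₜ (1 : A))
    congr 1
    rw [Algebra.algebraMap_eq_smul_one, Algebra.algebraMap_eq_smul_one, TensorProduct.tmul_smul, TensorProduct.smul_tmul']
  have hτinj : Function.Injective τB := (injective_iff_map_eq_zero _).2 fun t ht =>
    hPt t (Ideal.Quotient.eq_zero_iff_mem.1 ht)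
  haveI : Module.Finite (Tw A) D := Module.Finite.base_change R (Tw A) A
  have hτint : τB.IsIntegral := by
    refine RingHom.IsIntegral.trans _ _ ?_ (RingHom.isIntegral_of_surjective _ Ideal.Quotient.mk_surjective)
    exact fun d => Algebra.IsIntegral.isIntegral (R := Tw A) d
  haveI : Algebra.FiniteType A B := by
    rw [← RingHom.finiteType_algebraMap]
    refine RingHom.FiniteType.comp (g := τB) ?_ ?_
    · refine RingHom.FiniteType.comp (RingHom.FiniteType.of_surjective _ Ideal.Quotient.mk_surjective) ?_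
      exact RingHom.finiteType_algebraMap.2 (inferInstance : Algebra.FiniteType (Tw A) D)
    · exact (RingHom.finiteType_algebraMap (A := A) (B := A[X])).2 inferInstance
  -- geometric irreducibility spreads out
  let Ω := AlgebraicClosure K
  have hΩ : Function.Injective (algebraMap A Ω) := by
    rw [IsScalarTower.algebraMap_eq A K Ω]
    exact (algebraMap K Ω).injective.comp (IsFractionRing.injective A K)
  haveI : Algebra.IsAlgebraic A Ω :=
    (IsFractionRing.comap_isAlgebraic_iff (A := A) (K := K) (C := Ω)).mpr inferInstance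
  obtain ⟨a, ha, hspread⟩ := Groth.L07.Spread.exists_forall_isPrime_nilradical Ω hΩ (hgeom Ω hΩ)
  -- the point at the origin
  haveI : IsDomain (Tw A) := inferInstanceAs (IsDomain A[X])
  let c0 : Tw A →+* A := (constantCoeff : A[X] →+* A).comp (Tw.equiv A).toRingHom
  haveI : (RingHom.ker c0).IsPrime := RingHom.ker_isPrime _
  haveI : Algebra.IsIntegral (Tw A) B := ⟨hτint⟩
  haveI : FaithfulSMul (Tw A) B := (faithfulSMul_iff_algebraMap_injective _ _).2 hτinj
  obtain ⟨Q, -, hQ, hQc⟩ := Ideal.exists_ideal_over_prime_of_isIntegral (RingHom.ker c0) (⊥ : Ideal B)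
    (by rw [← RingHom.ker_eq_comap_bot, (RingHom.injective_iff_ker_eq_bot (algebraMap (Tw A) B)).1 hτinj]; exact bot_le)
  haveI := hQ
  let C1 := B ⧸ Q
  let q : B →+* C1 := Ideal.Quotient.mk Q
  letI : Algebra A C1 := (q.comp (algebraMap A B)).toAlgebra
  have hC1inj : Function.Injective (algebraMap A C1) := (injective_iff_map_eq_zero _).2 fun b hb => by
    have h1 : τB (Tw.C A b) ∈ Q := Ideal.Quotient.eq_zero_iff_mem.1 hb
    have h2 : c0 (Tw.C A b) = 0 := RingHom.mem_ker.1 (hQc.le h1)
    simpa [c0, Tw.C] using h2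
  have hT0 : q (τB (Tw.T A)) = 0 := Ideal.Quotient.eq_zero_iff_mem.2 (by
    have h : c0 (Tw.T A) = 0 := by simp [c0, Tw.T]
    exact hQc.ge (RingHom.mem_ker.2 h))
  have hC1int : ∀ z : C1, IsIntegral A z := by
    intro z
    obtain ⟨b, rfl⟩ := Ideal.Quotient.mk_surjective z
    obtain ⟨p, hp, hp0⟩ := hτint b
    refine ⟨p.map c0, hp.map _, ?_⟩
    have h1 : eval₂ (q.comp τB) (q b) p = 0 := by rw [← hom_eval₂, hp0, map_zero]
    rw [eval₂_map]
    show eval₂ ((algebraMap A C1).comp c0) (q b) p = 0
    rw [show (algebraMap A C1).comp c0 = q.comp τB from ?_]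
    · exact h1
    refine RingHom.ext fun t => ?_
    show q (τB (Tw.C A ((Tw.equiv A t).coeff 0))) = q (τB t)
    have hdvd : c0 (t - Tw.C A ((Tw.equiv A t).coeff 0)) = 0 := by
      simp [c0, Tw.C]
    have h2 : τB (t - Tw.C A ((Tw.equiv A t).coeff 0)) ∈ Q := hQc.ge (RingHom.mem_ker.2 hdvd)
    rw [map_sub] at h2
    exact (Ideal.Quotient.eq.2 h2).symm
  -- the second projection is constant there
  letI : Algebra k C1 := ((algebraMap A C1).comp (algebraMap k A)).toAlgebra
  let θ : A →ₐ[k] C1 :=
    { q.comp ρB with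
      commutes' := fun c => by
        show q (ρB (algebraMap k A c)) = q (τB (Tw.C A (algebraMap k A c)))
        rw [IsScalarTower.algebraMap_apply k R A, hAB]
        congr 2
        rw [← IsScalarTower.algebraMap_apply k R A]
        exact Tw.algebraMap_C k n A c }
  have hθR : ∀ r : R, θ (algebraMap R A r) = algebraMap k C1 (MvPolynomial.constantCoeff r) := by
    intro r
    have h : (q.comp τB).comp (algebraMap R (Tw A)) = (algebraMap k C1).comp MvPolynomial.constantCoeff := by
      refine MvPolynomial.ringHom_ext (fun c => ?_) (fun i => ?_)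
      · simp only [RingHom.comp_apply, MvPolynomial.constantCoeff_C]
        rw [Tw.algebraMap_C k n A c]
        rfl
      · simp only [RingHom.comp_apply, MvPolynomial.constantCoeff_X, map_zero]
        rw [Tw.algebraMap_X k n A i, map_mul, map_mul, hT0, zero_mul]
    show q (ρB (algebraMap R A r)) = _
    rw [hAB]
    exact RingHom.congr_fun h r
  have hθint : ∀ z : θ.range, IsIntegral k z := by
    rintro ⟨_, b, rfl⟩
    refine (isIntegral_algHom_iff θ.range.val Subtype.val_injective).1 ?_
    obtain ⟨p, hp, hp0⟩ := Algebra.IsIntegral.isIntegral (R := R) b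
    refine ⟨p.map MvPolynomial.constantCoeff, hp.map _, ?_⟩
    show eval₂ _ (θ b) _ = 0
    rw [eval₂_map, show (algebraMap k C1).comp MvPolynomial.constantCoeff = θ.toRingHom.comp (algebraMap R A) from
      RingHom.ext fun r => (hθR r).symm, show θ b = θ.toRingHom b from rfl, ← hom_eval₂, hp0, map_zero]
  have hk : Function.Surjective (algebraMap k θ.range) := algebraMap_surjective_of_integral hθint
  let ek : k ≃ₐ[k] θ.range := AlgEquiv.ofBijective (Algebra.ofId k θ.range) ⟨(algebraMap k θ.range).injective, hk⟩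
  let ζ : A →ₐ[k] k := ek.symm.toAlgHom.comp θ.rangeRestrict
  have hζ : ∀ b, θ b = algebraMap k C1 (ζ b) := fun b => by
    have : ek (ζ b) = θ.rangeRestrict b := ek.apply_symm_apply _
    exact (congrArg Subtype.val this).symm
  refine ⟨a * algebraMap R A (MvPolynomial.X i₀), ζ, mul_ne_zero ha
    ((map_ne_zero_iff _ hinj).2 (MvPolynomial.X_ne_zero i₀)), fun v hv => ?_⟩
  rw [map_mul, mul_ne_zero_iff] at hv
  letI algv : Algebra A k := v.toRingHom.toAlgebra
  haveI : IsScalarTower k A k := IsScalarTower.of_algebraMap_eq fun c => (v.commutes c).symm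
  haveI hN := hspread k hv.1
  let Bv := k ⊗[A] B
  let C := Bv ⧸ nilradical Bv
  haveI : IsDomain C := Ideal.Quotient.isDomain _
  let jB : B →+* C := (Ideal.Quotient.mk _).comp (Algebra.TensorProduct.includeRight : B →ₐ[A] Bv).toRingHom
  have hjA : ∀ b : A, jB (algebraMap A B b) = algebraMap k C (v b) := fun b => by
    show Ideal.Quotient.mk _ ((Algebra.TensorProduct.includeRight : B →ₐ[A] Bv) (algebraMap A B b)) = _
    rw [AlgHom.commutes, IsScalarTower.algebraMap_apply k Bv C, IsScalarTower.algebraMap_apply A k Bv]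
    rfl
  let π : A →ₐ[k] C :=
    { jB.comp ρB with
      commutes' := fun c => by
        show jB (ρB (algebraMap k A c)) = _
        rw [IsScalarTower.algebraMap_apply k R A, hAB,
          show algebraMap R (Tw A) (algebraMap k R c) = Tw.C A (algebraMap k A c) from Tw.algebraMap_C k n A c,
          ← hτC, hjA, AlgHom.commutes]
        rfl }
  let t : C := jB (τB (Tw.T A))
  have hπR : ∀ r : R, π (algebraMap R A r) ∈ (aeval t : k[X] →ₐ[k] C).range := by
    intro r
    show jB (ρB (algebraMap R A r)) ∈ _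
    rw [hAB]
    induction r using MvPolynomial.induction_on with
    | C c => rw [Tw.algebraMap_C, ← hτC, hjA]; exact Subalgebra.algebraMap_mem _ _
    | add p p' hp hp' => rw [map_add, map_add, map_add]; exact add_mem hp hp'
    | mul_X p i hp =>
      rw [map_mul, map_mul, map_mul, Tw.algebraMap_X, map_mul, map_mul, ← hτC, hjA]
      exact mul_mem hp (mul_mem ⟨Polynomial.X, aeval_X _⟩ (Subalgebra.algebraMap_mem _ _))
  have hsurj : Function.Surjective π := by
    have htπ : t ∈ π.range := by
      have h1 : π (algebraMap R A (MvPolynomial.X i₀)) = t * algebraMap k C (v (algebraMap R A (MvPolynomial.X i₀))) := by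
        show jB (ρB _) = _
        rw [hAB, Tw.algebraMap_X, map_mul, map_mul, ← hτC, hjA]
      refine ⟨algebraMap k A (v (algebraMap R A (MvPolynomial.X i₀)))⁻¹ * algebraMap R A (MvPolynomial.X i₀), ?_⟩
      show π _ = t
      rw [map_mul, AlgHom.commutes, h1, mul_left_comm, ← map_mul, inv_mul_cancel₀ hv.2, map_one, mul_one]
    rw [← AlgHom.range_eq_top]
    refine Algebra.eq_top_iff.2 fun z => ?_
    obtain ⟨z, rfl⟩ := Ideal.Quotient.mk_surjective z
    induction z using TensorProduct.induction_on with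
    | zero => rw [map_zero]; exact zero_mem _
    | add x y hx hy => rw [map_add]; exact add_mem hx hy
    | tmul c b =>
      rw [show (Ideal.Quotient.mk (nilradical Bv)) (c ⊗ₜ[A] b) = algebraMap k C c * jB b from ?_]
      · refine mul_mem (Subalgebra.algebraMap_mem _ _) ?_
        obtain ⟨d, rfl⟩ := Ideal.Quotient.mk_surjective b
        induction d using TensorProduct.induction_on with
        | zero => rw [map_zero, map_zero]; exact zero_mem _
        | add x y hx hy => rw [map_add, map_add]; exact add_mem hx hy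
        | tmul p b' =>
          rw [show (Ideal.Quotient.mk P) (p ⊗ₜ[R] b') = τB p * ρB b' from ?_, map_mul]
          · refine mul_mem ?_ ⟨b', rfl⟩
            rw [show p = (Tw.equiv A).symm (Tw.equiv A p) from ((Tw.equiv A).symm_apply_apply p).symm]
            induction Tw.equiv A p using Polynomial.induction_on' with
            | add x y hx hy => rw [map_add, map_add, map_add]; exact add_mem hx hy
            | monomial m c' =>
              rw [show (Tw.equiv A).symm (monomial m c') = Tw.C A c' * Tw.T A ^ m by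
                simp [Tw.C, Tw.T, ← C_mul_X_pow_eq_monomial], map_mul, map_mul, map_pow, map_pow, ← hτC, hjA]
              exact mul_mem (Subalgebra.algebraMap_mem _ _) (pow_mem htπ m)
          · show mkP (p ⊗ₜ[R] b') = mkP (p ⊗ₜ[R] 1) * mkP (1 ⊗ₜ[R] b')
            rw [← map_mul, Algebra.TensorProduct.tmul_mul_tmul, mul_one, one_mul]
      · show _ = Ideal.Quotient.mk (nilradical Bv) (c ⊗ₜ[A] (1 : B)) * Ideal.Quotient.mk (nilradical Bv) ((1 : k) ⊗ₜ[A] b)
        rw [← map_mul, Algebra.TensorProduct.tmul_mul_tmul, mul_one, one_mul]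
  have hint : (aeval t : k[X] →ₐ[k] C).toRingHom.IsIntegral := by
    intro z
    obtain ⟨b, rfl⟩ := hsurj z
    obtain ⟨p, hp, hp0⟩ := Algebra.IsIntegral.isIntegral (R := R) b
    obtain ⟨p', hp'1, -, hp'2⟩ := lifts_and_degree_eq_and_monic
      (f := (aeval t : k[X] →ₐ[k] C).toRingHom) (p := p.map (π.toRingHom.comp (algebraMap R A)))
      ((lifts_iff_coeff_lifts _).2 fun m => by rw [coeff_map]; exact hπR (p.coeff m)) (hp.map _)
    refine ⟨p', hp'2, ?_⟩
    rw [← eval_map, hp'1, eval_map, show π b = π.toRingHom b from rfl, ← hom_eval₂, hp0, map_zero]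
  -- the two points
  let dB : B →+* A := Ideal.Quotient.lift P (diag (Tw.evalOne k n A) : D →+* A) hPd
  have hdA : ∀ b : A, dB (algebraMap A B b) = b := fun b => by
    show diag (Tw.evalOne k n A) (Tw.C A b ⊗ₜ[R] (1 : A)) = b
    rw [diag_tmul]; simp [Tw.evalOne_apply, Tw.C]
  haveI : Algebra.IsIntegral A C1 := ⟨hC1int⟩
  haveI : FaithfulSMul A C1 := (faithfulSMul_iff_algebraMap_injective _ _).2 hC1inj
  haveI : (RingHom.ker v).IsMaximal := RingHom.ker_isMaximal_of_surjective _ fun c => ⟨algebraMap k A c, v.commutes c⟩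
  obtain ⟨m, hm, hmc⟩ := Ideal.exists_ideal_over_maximal_of_isIntegral (S := C1) (RingHom.ker v)
    (by rw [(RingHom.injective_iff_ker_eq_bot (algebraMap A C1)).1 hC1inj]; exact bot_le)
  haveI := hm
  letI : Field (C1 ⧸ m) := Ideal.Quotient.field m
  have hmk : Function.Surjective (algebraMap k (C1 ⧸ m)) := by
    refine algebraMap_surjective_of_integral fun z => ?_
    obtain ⟨z, rfl⟩ := Ideal.Quotient.mk_surjective z
    obtain ⟨p, hp, hp0⟩ := hC1int z
    refine ⟨p.map v.toRingHom, hp.map _, ?_⟩
    rw [eval₂_map, show (algebraMap k (C1 ⧸ m)).comp v.toRingHom = (Ideal.Quotient.mk m).comp (algebraMap A C1) from ?_,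
      ← hom_eval₂, hp0, map_zero]
    refine RingHom.ext fun b => ?_
    show Ideal.Quotient.mk m (algebraMap A C1 (algebraMap k A (v b))) = Ideal.Quotient.mk m (algebraMap A C1 b)
    rw [Ideal.Quotient.eq, ← map_sub, ← Ideal.mem_comap, hmc, RingHom.mem_ker]
    simp
  let em : k ≃ₐ[k] C1 ⧸ m := AlgEquiv.ofBijective (Algebra.ofId k (C1 ⧸ m)) ⟨(algebraMap k (C1 ⧸ m)).injective, hmk⟩
  let oB : B →+* k := em.symm.toRingEquiv.toRingHom.comp ((Ideal.Quotient.mk m).comp q)
  have hoA : ∀ b : A, oB (algebraMap A B b) = v b := fun b => em.injective (by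
    show em (em.symm _) = _
    rw [em.apply_symm_apply]
    show Ideal.Quotient.mk m (algebraMap A C1 b) = Ideal.Quotient.mk m (algebraMap A C1 (algebraMap k A (v b)))
    rw [Ideal.Quotient.eq, ← map_sub, ← Ideal.mem_comap, hmc, RingHom.mem_ker]
    simp)
  have mkpt : ∀ f : B →+* k, (∀ b : A, f (algebraMap A B b) = v b) →
      ∃ f' : C →ₐ[k] k, ∀ b : B, f' (jB b) = f b := by
    intro f hf
    let fA : B →ₐ[A] k := { f with commutes' := hf }
    let fv : Bv →ₐ[k] k := Algebra.TensorProduct.lift (AlgHom.id k k) fA fun _ _ => Commute.all _ _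
    refine ⟨Ideal.Quotient.liftₐ (nilradical Bv) fv (fun z hz => ((mem_nilradical.1 hz).map fv).eq_zero), fun b => ?_⟩
    show fv ((1 : k) ⊗ₜ[A] b) = _
    refine (Algebra.TensorProduct.lift_tmul _ _ _ _ _).trans ?_
    rw [map_one, one_mul]
    rfl
  obtain ⟨v', hv'⟩ := mkpt (v.toRingHom.comp dB) (fun b => by simp [hdA])
  obtain ⟨w', hw'⟩ := mkpt oB hoA
  have hvπ : v'.comp π = v := AlgHom.ext fun b => by
    rw [AlgHom.comp_apply]
    show v' (jB (ρB b)) = v b
    rw [hv']
    show v (diag (Tw.evalOne k n A) ((1 : Tw A) ⊗ₜ[R] b)) = v b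
    rw [diag_tmul, map_one, one_mul]
  have hwπ : w'.comp π = ζ := AlgHom.ext fun b => by
    rw [AlgHom.comp_apply]
    show w' (jB (ρB b)) = ζ b
    rw [hw']
    apply em.injective
    show em (em.symm _) = _
    rw [em.apply_symm_apply]
    show Ideal.Quotient.mk m (θ b) = _
    rw [hζ]
    rfl
  refine ⟨C, inferInstance, inferInstance, π, inferInstance, hsurj, ⟨t, ?_, hint⟩, v', w', hvπ, hwπ⟩
  refine (injective_iff_map_eq_zero _).2 fun p hp => ?_
  by_contra hp0
  obtain ⟨c, hc⟩ : t ∈ (algebraMap k C).range := by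
    have hi : IsIntegral k t := IsAlgebraic.isIntegral ⟨p, hp0, hp⟩
    exact minpoly.degree_eq_one_iff.1 (IsAlgClosed.degree_eq_one_of_irreducible k (minpoly.irreducible hi))
  have h1 : v' t = 1 := by
    show v' (jB (τB (Tw.T A))) = 1
    rw [hv']
    show v (diag (Tw.evalOne k n A) (Tw.T A ⊗ₜ[R] (1 : A))) = 1
    rw [diag_tmul]; simp [Tw.evalOne_apply, Tw.T]
  have h0 : w' t = 0 := by
    show w' (jB (τB (Tw.T A))) = 0
    rw [hw']
    show em.symm (Ideal.Quotient.mk m (q (τB (Tw.T A)))) = 0
    rw [hT0, map_zero, map_zero]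
  rw [← hc, AlgHom.commutes] at h1 h0
  exact one_ne_zero (h1.symm.trans h0)

end

end Groth.L08.Cube.NP
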