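import Groth.Agent.L08.Cube.NP.UnitsProd
import Groth.Agent.L08.Cube.Inverse
import Groth.Agent.L08.Cube.SliceFibre
import Groth.Agent.L18.Frame
import Groth.Agent.L19.ProjBdl.PullComp
import Groth.Agent.L19.AmpleAffineLocus

/-!
# Invertible modules on a product which are trivial on the axes and locally in one factor
-/

set_option autoImplicit false
set_option linter.style.haveILetI false
set_option linter.unusedSectionVars false
set_option maxSynthPendingDepth 3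
set_option backward.isDefEq.respectTransparency false

universe u

open CategoryTheory CategoryTheory.Limits MonoidalCategory CartesianMonoidalCategory AlgebraicGeometry
  TopologicalSpace

noncomputable section

namespace Groth.L08.Cube.NP

open Groth.L18.Frame (rs ro rs_rs rs_self rs_smul ro_ro ro_self ro_mul IsFrame pull pull_rs pull_smul)

section Sections

variable {X Y : Scheme.{u}}

theorem appLE_ro (φ : X ⟶ Y) {U U' : Y.Opens} (h : U' ≤ U) {V : X.Opens} (hV : V ≤ φ ⁻¹ᵁ U') (u : Γ(Y, U)) :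
    (φ.appLE U' V hV).hom (ro h u) = (φ.appLE U V (hV.trans (φ.preimage_mono h))).hom u :=
  ConcreteCategory.congr_hom (φ.map_appLE hV (homOfLE h).op) u

theorem ro_appLE (φ : X ⟶ Y) {U : Y.Opens} {V V' : X.Opens} (hV : V ≤ φ ⁻¹ᵁ U) (h : V' ≤ V) (u : Γ(Y, U)) :
    ro h ((φ.appLE U V hV).hom u) = (φ.appLE U V' (h.trans hV)).hom u :=
  ConcreteCategory.congr_hom (φ.appLE_map hV (homOfLE h).op) u

/-- A pulled back frame on a smaller open. -/
theorem isFrame_pull (φ : X ⟶ Y) {M : Y.Modules} {O : Y.Opens} {e : Γ(M, O)} (he : IsFrame M O e)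
    {V : X.Opens} (h : V ≤ φ ⁻¹ᵁ O) :
    IsFrame ((Scheme.Modules.pullback φ).obj M) V (rs _ h (pull φ M O e)) :=
  (he.pullback φ M).mono h

/-- Coefficients of pulled back frames follow the pulled back transition functions. -/
theorem coeff_pull (φ : X ⟶ Y) {M : Y.Modules} {O₁ O₂ : Y.Opens} {e₁ : Γ(M, O₁)} {e₂ : Γ(M, O₂)}
    (u : Γ(Y, O₁ ⊓ O₂)) (hu : u • rs M inf_le_right e₂ = rs M inf_le_left e₁)
    {V₁ V₂ : X.Opens} (h₁ : V₁ ≤ φ ⁻¹ᵁ O₁) (h₂ : V₂ ≤ φ ⁻¹ᵁ O₂)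
    {F : Γ((Scheme.Modules.pullback φ).obj M, ⊤)} (hF : IsFrame _ ⊤ F) (a₁ : Γ(X, V₁)) (a₂ : Γ(X, V₂))
    (ha₁ : a₁ • rs _ le_top F = rs _ h₁ (pull φ M O₁ e₁)) (ha₂ : a₂ • rs _ le_top F = rs _ h₂ (pull φ M O₂ e₂))
    {V : X.Opens} (hV₁ : V ≤ V₁) (hV₂ : V ≤ V₂) :
    ro hV₁ a₁ = (φ.appLE (O₁ ⊓ O₂) V (fun x hx => ⟨h₁ (hV₁ hx), h₂ (hV₂ hx)⟩)).hom u * ro hV₂ a₂ := by
  refine hF.inj (le_top : V ≤ ⊤) ?_
  rw [mul_smul]
  have e1 := congrArg (rs _ hV₁) ha₁
  have e2 := congrArg (rs _ hV₂) ha₂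
  rw [rs_smul, rs_rs, rs_rs] at e1 e2
  rw [e1, e2]
  have hle : V ≤ φ ⁻¹ᵁ (O₁ ⊓ O₂) := fun x hx => ⟨h₁ (hV₁ hx), h₂ (hV₂ hx)⟩
  have h3 := congrArg (fun m => rs _ hle (pull φ M (O₁ ⊓ O₂) m)) hu
  simp only [pull_smul, rs_smul, ← pull_rs, rs_rs] at h3
  exact h3.symm

/-- Frames whose transition functions form a coboundary glue. -/
theorem exists_frame_top {M : Y.Modules} {ι : Type u} (O : ι → Y.Opens) (hO : ∀ y, ∃ i, y ∈ O i)
    (e : ∀ i, Γ(M, O i)) (he : ∀ i, IsFrame M (O i) (e i)) (f : ∀ i, Γ(Y, O i)) (hf : ∀ i, IsUnit (f i))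
    (h : ∀ i j, ro (inf_le_right : O i ⊓ O j ≤ O j) (f j) • rs M (inf_le_left : O i ⊓ O j ≤ O i) (e i) =
      ro (inf_le_left : O i ⊓ O j ≤ O i) (f i) • rs M (inf_le_right : O i ⊓ O j ≤ O j) (e j)) :
    ∃ F : Γ(M, ⊤), IsFrame M ⊤ F := by
  let e' : ∀ i, Γ(M, O i) := fun i => (↑(hf i).unit⁻¹ : Γ(Y, O i)) • e i
  have he' : ∀ i, IsFrame M (O i) (e' i) := fun i => (he i).smul_unit (Units.isUnit _)
  let OM : TopCat.Sheaf Ab.{u} Y.toTopCat := ⟨M.presheaf, M.isSheaf⟩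
  obtain ⟨F, hF, -⟩ := OM.existsUnique_gluing' O ⊤ (fun i => homOfLE le_top)
    (fun y _ => Opens.mem_iSup.2 (hO y)) e' fun i j => by
      show rs M inf_le_left (e' i) = rs M inf_le_right (e' j)
      simp only [e', rs_smul]
      have hi : IsUnit (ro (inf_le_left : O i ⊓ O j ≤ O i) (f i)) := (hf i).map _
      have hj : IsUnit (ro (inf_le_right : O i ⊓ O j ≤ O j) (f j)) := (hf j).map _
      refine (hi.mul hj).smul_left_cancel.1 ?_
      have e1 : ro (inf_le_left : O i ⊓ O j ≤ O i) (f i) * ro inf_le_left (↑(hf i).unit⁻¹ : Γ(Y, O i)) = 1 := by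
        rw [← ro_mul, IsUnit.mul_val_inv]; exact map_one _
      have e2 : ro (inf_le_right : O i ⊓ O j ≤ O j) (f j) * ro inf_le_right (↑(hf j).unit⁻¹ : Γ(Y, O j)) = 1 := by
        rw [← ro_mul, IsUnit.mul_val_inv]; exact map_one _
      rw [smul_smul, smul_smul, mul_right_comm, e1, one_mul, h i j, mul_assoc, e2, mul_one]
  refine ⟨F, IsFrame.of_cover O (fun i => le_top) (fun y _ => Opens.mem_iSup.2 (hO y)) fun i => ?_⟩
  have : rs M le_top F = e' i := hF i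
  rw [this]
  exact he' i

/-- A trivialisation over an open gives a frame there. -/
theorem exists_frame_of_trivial {M : Y.Modules} (U : Y.Opens)
    (h : Nonempty ((Scheme.Modules.pullback U.ι).obj M ≅ Coh.structureModule U.toScheme)) :
    ∃ e : Γ(M, U), IsFrame M U e := by
  obtain ⟨ψ⟩ := h
  let φ : (Scheme.Modules.restrictFunctor U.ι).obj M ≅ Coh.structureModule U.toScheme :=
    (Scheme.Modules.restrictFunctorIsoPullback U.ι).app M ≪≫ ψ
  have hW : U ≤ U.ι ''ᵁ ⊤ := U.ι_image_top.ge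
  let e₀ : Γ(M, U.ι ''ᵁ ⊤) := φ.inv.app ⊤ (1 : Γ(U.toScheme, ⊤))
  suffices he : IsFrame M (U.ι ''ᵁ ⊤) e₀ from ⟨_, he.mono hW⟩
  intro V h
  obtain ⟨V, rfl⟩ : ∃ V' : U.toScheme.Opens, U.ι ''ᵁ V' = V := ⟨U.ι ⁻¹ᵁ V, by
    rw [Scheme.Hom.image_preimage_eq_opensRange_inf, Scheme.Opens.opensRange_ι, inf_eq_right]
    exact h.trans_eq U.ι_image_top⟩
  have key : (fun a : Γ(Y, U.ι ''ᵁ V) => a • rs M h e₀) =
      fun a : Γ(U.toScheme, V) => φ.inv.app V a := by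
    funext a
    have h1 : rs M h e₀ = φ.inv.app V (1 : Γ(U.toScheme, V)) := by
      have := congr($(φ.inv.mapPresheaf.naturality (homOfLE (le_top : V ≤ ⊤)).op) (1 : Γ(U.toScheme, ⊤)))
      refine Eq.trans ?_ (this.symm.trans (congrArg (φ.inv.app V) (map_one (U.toScheme.presheaf.map (homOfLE (le_top : V ≤ ⊤)).op).hom)))
      rfl
    rw [h1]
    have h2 := φ.inv.app_smul (U := V) (show Γ(U.toScheme, V) from a) (1 : Γ(U.toScheme, V))
    refine Eq.trans ?_ ((congrArg (φ.inv.app V) (show ((show Γ(U.toScheme, V) from a) • (1 : Γ(U.toScheme, V))) = a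
      from mul_one _)).symm.trans h2).symm
    exact (Groth.L18.Frame.restrict_smul' M U V a _).symm
  show Function.Bijective fun a : Γ(Y, U.ι ''ᵁ V) => _
  rw [key]
  exact ConcreteCategory.bijective_of_isIso (φ.inv.app V)

/-- A trivial module has a global frame. -/
theorem exists_frame_of_iso {M : Y.Modules} (h : Nonempty (M ≅ Coh.structureModule Y)) :
    ∃ e : Γ(M, ⊤), IsFrame M ⊤ e := by
  obtain ⟨ψ⟩ := h
  exact ⟨_, Groth.L19.ProjBdl.isFrame_of_iso ψ.symm (Groth.L19.AmpleAffine.isFrame_one ⊤)⟩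

end Sections

section Product

variable {k : Type u} [Field k] [IsAlgClosed k]

local notation "𝟙k" => (𝟙_ (Over (Spec (CommRingCat.of k))))

/-- The value of a function at a rational point. -/
def kval {X : Over (Spec (CommRingCat.of k))} (O : X.left.Opens) (p : 𝟙k ⟶ X) (hp : kpt p ∈ O) :
    Γ(X.left, O) →+* k :=
  ((p.left.appLE O ⊤ fun t _ => by
      rw [Subsingleton.elim (α := PrimeSpectrum k) t (IsLocalRing.closedPoint k)]; exact hp) ≫
    (Scheme.ΓSpecIso (CommRingCat.of k)).hom).hom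

theorem kval_ro {X : Over (Spec (CommRingCat.of k))} {O O' : X.left.Opens} (h : O' ≤ O) (p : 𝟙k ⟶ X)
    (hp : kpt p ∈ O') (u : Γ(X.left, O)) : kval O' p hp (ro h u) = kval O p (h hp) u := by
  show (Scheme.ΓSpecIso (CommRingCat.of k)).hom _ = (Scheme.ΓSpecIso (CommRingCat.of k)).hom _
  exact congrArg _ (appLE_ro p.left h _ u)

theorem kval_appLE {X Z : Over (Spec (CommRingCat.of k))} (ρ : X ⟶ Z) {O : Z.left.Opens} {V : X.left.Opens}
    (hV : V ≤ ρ.left ⁻¹ᵁ O) (p : 𝟙k ⟶ X) (hp : kpt p ∈ V) (u : Γ(Z.left, O)) :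
    kval V p hp ((ρ.left.appLE O V hV).hom u) = kval O (p ≫ ρ) (hV hp) u := by
  show (Scheme.ΓSpecIso (CommRingCat.of k)).hom _ = (Scheme.ΓSpecIso (CommRingCat.of k)).hom _
  exact congrArg _ (ConcreteCategory.congr_hom (Scheme.Hom.appLE_comp_appLE p.left ρ.left O V ⊤ hV _) u)

/-- A function on a reduced scheme is zero if it vanishes at all rational points. -/
theorem eq_of_kval {X : Over (Spec (CommRingCat.of k))} [LocallyOfFiniteType X.hom]
    [AlgebraicGeometry.IsReduced X.left] {O : X.left.Opens} {a b : Γ(X.left, O)}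
    (h : ∀ (p : 𝟙k ⟶ X) (hp : kpt p ∈ O), kval O p hp a = kval O p hp b) : a = b := by
  rw [← sub_eq_zero, ← basicOpen_eq_bot_iff]
  by_contra hne
  haveI : JacobsonSpace X.left := LocallyOfFiniteType.jacobsonSpace X.hom
  obtain ⟨z, hz, hzc⟩ := nonempty_inter_closedPoints
    (Z := ((X.left.basicOpen (a - b)) : Set X.left))
    (Set.nonempty_iff_ne_empty.2 fun h0 => hne (Opens.ext h0)) (X.left.basicOpen (a - b)).2.isLocallyClosed
  obtain ⟨p, rfl⟩ := exists_kpt z hzc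
  have hp : kpt p ∈ O := X.left.basicOpen_le _ hz
  have h0 : p.left.appLE O ⊤ (fun t _ => by
      rw [Subsingleton.elim (α := PrimeSpectrum k) t (IsLocalRing.closedPoint k)]; exact hp) (a - b) = 0 := by
    have : kval O p hp (a - b) = 0 := by rw [map_sub, h p hp, sub_self]
    exact (Scheme.ΓSpecIso (CommRingCat.of k)).commRingCatIsoToRingEquiv.injective (this.trans (map_zero _).symm)
  have hmem : IsLocalRing.closedPoint k ∈ (p.left ⁻¹ᵁ X.left.basicOpen (a - b)) := hz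
  have h1 : IsLocalRing.closedPoint k ∈ (Spec (CommRingCat.of k)).basicOpen
      (p.left.appLE O ⊤ (fun t _ => by
        rw [Subsingleton.elim (α := PrimeSpectrum k) t (IsLocalRing.closedPoint k)]; exact hp) (a - b)) := by
    exact (Scheme.basicOpen_appLE p.left ⊤ O _ (a - b)).ge ⟨trivial, hmem⟩
  rw [h0] at h1
  simp at h1

variable (A W : Over (Spec (CommRingCat.of k))) [LocallyOfFiniteType A.hom] [LocallyOfFiniteType W.hom]
  [AlgebraicGeometry.IsIntegral A.left] [AlgebraicGeometry.IsIntegral W.left]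

/-- A unit on the part of a product over an open of the first factor splits. -/
theorem kval_unit_split (T' : A.left.Opens) (u : Γ((A ⊗ W).left, (fst A W).left ⁻¹ᵁ T')) (hu : IsUnit u)
    (t t' : 𝟙k ⟶ A) (w w' : 𝟙k ⟶ W) (ht : kpt t ∈ T') (ht' : kpt t' ∈ T') :
    ∀ (h₁ h₂ h₃ h₄), kval _ (lift t w) h₁ u * kval _ (lift t' w') h₂ u =
      kval _ (lift t w') h₃ u * kval _ (lift t' w) h₄ u := by
  have hmem : ∀ (x : 𝟙k ⟶ A) (y : 𝟙k ⟶ W), kpt x ∈ T' → kpt (lift x y) ∈ (fst A W).left ⁻¹ᵁ T' := fun x y hx => by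
    show (fst A W).left ((lift x y).left _) ∈ T'
    rw [← Scheme.Hom.comp_apply, ← Over.comp_left, lift_fst]
    exact hx
  let Φ : ∀ (x : 𝟙k ⟶ A) (_ : kpt x ∈ T') (y : 𝟙k ⟶ W), k := fun x hx y => kval _ (lift x y) (hmem x y hx) u
  have hΦ : ∀ x hx y, Φ x hx y ≠ 0 := fun x hx y => (hu.map (kval _ (lift x y) (hmem x y hx))).ne_zero
  -- affine pieces
  have base : ∀ (T₀ : A.left.Opens) (W₀ : W.left.Opens), IsAffineOpen T₀ → IsAffineOpen W₀ →
      ∀ (hT : T₀ ≤ T') (x x' : 𝟙k ⟶ A) (y y' : 𝟙k ⟶ W) (hx : kpt x ∈ T₀) (hx' : kpt x' ∈ T₀),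
        kpt y ∈ W₀ → kpt y' ∈ W₀ →
        Φ x (hT hx) y * Φ x' (hT hx') y' = Φ x (hT hx) y' * Φ x' (hT hx') y := by
    intro T₀ W₀ hT₀ hW₀ hT x x' y y' hx hx' hy hy'
    haveI : Nonempty T₀ := ⟨⟨_, hx⟩⟩
    haveI : Nonempty W₀ := ⟨⟨_, hy⟩⟩
    haveI : IsDomain Γ(A.left, T₀) := IsIntegral.component_integral T₀
    haveI : IsDomain Γ(W.left, W₀) := IsIntegral.component_integral W₀
    have mk : ∀ (X : Over (Spec (CommRingCat.of k))) [LocallyOfFiniteType X.hom] (X₀ : X.left.Opens) (h : IsAffineOpen X₀),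
        ∃ α : Algebra k Γ(X.left, X₀), (letI := α; Algebra.FiniteType k Γ(X.left, X₀) ∧
          h.fromSpec ≫ X.hom = Spec.map (CommRingCat.ofHom (algebraMap k Γ(X.left, X₀))) ∧
          ∀ z : 𝟙k ⟶ X, kpt z ∈ X₀ → ∃ v : Γ(X.left, X₀) →ₐ[k] k,
            Spec.map (CommRingCat.ofHom v.toRingHom) ≫ h.fromSpec = z.left) := by
      intro X _ X₀ h
      let ρ : k →+* Γ(X.left, X₀) :=
        ((Scheme.ΓSpecIso (CommRingCat.of k)).inv ≫ X.hom.appLE ⊤ X₀ le_top).hom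
      letI := ρ.toAlgebra
      have hstr : h.fromSpec ≫ X.hom = Spec.map (CommRingCat.ofHom (algebraMap k Γ(X.left, X₀))) := by
        rw [← IsAffineOpen.SpecMap_appLE_fromSpec X.hom (isAffineOpen_top _) h le_top, IsAffineOpen.fromSpec_top,
          Scheme.isoSpec_Spec_inv, ← Spec.map_comp]
        rfl
      refine ⟨ρ.toAlgebra, ?_, hstr, fun z hz => ?_⟩
      · refine RingHom.finiteType_algebraMap.mp (RingHom.finiteType_respectsIso.2 _
          (Scheme.ΓSpecIso (CommRingCat.of k)).symm.commRingCatIsoToRingEquiv ?_)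
        exact HasRingHomProperty.appLE @LocallyOfFiniteType X.hom inferInstance
          ⟨⊤, isAffineOpen_top _⟩ ⟨X₀, h⟩ le_top
      · haveI : Subsingleton (𝟙k).left := inferInstanceAs (Subsingleton (PrimeSpectrum k))
        have hr : Set.range z.left ⊆ Set.range h.fromSpec := by
          rintro _ ⟨p, rfl⟩
          rw [h.range_fromSpec, Subsingleton.elim p (IsLocalRing.closedPoint k)]
          exact hz
        obtain ⟨v, hv⟩ := Spec.map_surjective (IsOpenImmersion.lift h.fromSpec z.left hr)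
        have hv' : Spec.map v ≫ h.fromSpec = z.left := by rw [hv, IsOpenImmersion.lift_fac]
        have hk : CommRingCat.ofHom (algebraMap k Γ(X.left, X₀)) ≫ v = 𝟙 _ := Spec.map_injective (by
          rw [Spec.map_comp, ← hstr, reassoc_of% hv', Spec.map_id]
          exact Over.w z)
        exact ⟨{ v.hom with commutes' := fun c => congr(($hk).hom c) }, hv'⟩
    obtain ⟨αR, hRft, hRs, hRp⟩ := mk A T₀ hT₀
    obtain ⟨αS, hSft, hSs, hSp⟩ := mk W W₀ hW₀
    letI := αR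
    letI := αS
    haveI := hRft
    haveI := hSft
    obtain ⟨v, hv⟩ := hRp x hx
    obtain ⟨v', hv'⟩ := hRp x' hx'
    obtain ⟨z, hz⟩ := hSp y hy
    obtain ⟨z', hz'⟩ := hSp y' hy'
    let D := TensorProduct k Γ(A.left, T₀) Γ(W.left, W₀)
    let iL : Γ(A.left, T₀) →+* D := Algebra.TensorProduct.includeLeftRingHom
    let iR : Γ(W.left, W₀) →+* D := (Algebra.TensorProduct.includeRight : Γ(W.left, W₀) →ₐ[k] D).toRingHom
    let π : Spec (CommRingCat.of D) ⟶ (A ⊗ W).left := pullback.lift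
      (Spec.map (CommRingCat.ofHom iL) ≫ hT₀.fromSpec) (Spec.map (CommRingCat.ofHom iR) ≫ hW₀.fromSpec) (by
        rw [Category.assoc, Category.assoc, hRs, hSs, ← Spec.map_comp, ← Spec.map_comp]
        congr 1
        ext c
        show algebraMap k _ c ⊗ₜ[k] (1 : Γ(W.left, W₀)) = (1 : Γ(A.left, T₀)) ⊗ₜ[k] algebraMap k _ c
        rw [Algebra.algebraMap_eq_smul_one, Algebra.algebraMap_eq_smul_one, TensorProduct.smul_tmul])
    have hπT : ⊤ ≤ π ⁻¹ᵁ ((fst A W).left ⁻¹ᵁ T') := fun p _ => by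
      show (fst A W).left (π p) ∈ T'
      rw [← Scheme.Hom.comp_apply,
        show π ≫ (fst A W).left = Spec.map (CommRingCat.ofHom iL) ≫ hT₀.fromSpec from pullback.lift_fst _ _ _,
        Scheme.Hom.comp_apply]
      exact hT (hT₀.range_fromSpec.le ⟨_, rfl⟩)
    let g : D := (Scheme.ΓSpecIso (CommRingCat.of D)).hom (π.appLE ((fst A W).left ⁻¹ᵁ T') ⊤ hπT u)
    have hg : IsUnit g := (hu.map (π.appLE _ ⊤ hπT).hom).map (Scheme.ΓSpecIso (CommRingCat.of D)).hom.hom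
    have hval : ∀ (v : Γ(A.left, T₀) →ₐ[k] k) (z : Γ(W.left, W₀) →ₐ[k] k) (x : 𝟙k ⟶ A) (y : 𝟙k ⟶ W)
        (hx : kpt x ∈ T'), Spec.map (CommRingCat.ofHom v.toRingHom) ≫ hT₀.fromSpec = x.left →
        Spec.map (CommRingCat.ofHom z.toRingHom) ≫ hW₀.fromSpec = y.left →
        pairVal v z g = Φ x hx y := by
      intro v z x y hx hv hz
      have hq : Spec.map (CommRingCat.ofHom (pairVal v z).toRingHom) ≫ π = (lift x y).left := by
        apply pullback.hom_ext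
        · rw [Category.assoc, pullback.lift_fst, ← Category.assoc, ← Spec.map_comp,
            show CommRingCat.ofHom iL ≫ CommRingCat.ofHom (pairVal v z).toRingHom = CommRingCat.ofHom v.toRingHom by
              ext a
              show pairVal v z (a ⊗ₜ[k] (1 : Γ(W.left, W₀))) = v a
              simp [pairVal], hv]
          exact congr(($(lift_fst x y)).left).symm
        · rw [Category.assoc, pullback.lift_snd, ← Category.assoc, ← Spec.map_comp,
            show CommRingCat.ofHom iR ≫ CommRingCat.ofHom (pairVal v z).toRingHom = CommRingCat.ofHom z.toRingHom by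
              ext a
              show pairVal v z ((1 : Γ(A.left, T₀)) ⊗ₜ[k] a) = z a
              simp [pairVal], hz]
          exact congr(($(lift_snd x y)).left).symm
      show _ = (Scheme.ΓSpecIso (CommRingCat.of k)).hom ((lift x y).left.appLE _ ⊤ _ u)
      simp only [← hq]
      rw [← Scheme.Hom.appLE_comp_appLE _ π _ ⊤ ⊤ hπT le_top]
      refine (ConcreteCategory.congr_hom
        (Scheme.ΓSpecIso_naturality (CommRingCat.ofHom (pairVal v z).toRingHom)) _).symm.trans ?_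
      show (Scheme.ΓSpecIso (CommRingCat.of k)).hom _ = (Scheme.ΓSpecIso (CommRingCat.of k)).hom _
      refine congrArg _ ?_
      show _ = (Scheme.Hom.appLE (Spec.map (CommRingCat.ofHom (pairVal v z).toRingHom)) ⊤ ⊤ le_top).hom _
      exact (ConcreteCategory.congr_hom (Scheme.Hom.appLE_eq_app
        (Spec.map (CommRingCat.ofHom (pairVal v z).toRingHom)) (U := ⊤)) _).symm
    rw [← hval v z x y (hT hx) hv hz, ← hval v' z' x' y' (hT hx') hv' hz', ← hval v z' x y' (hT hx) hv hz',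
      ← hval v' z x' y (hT hx') hv' hz]
    exact unit_split g hg v v' z z'
  -- extend to all points
  haveI : JacobsonSpace A.left := LocallyOfFiniteType.jacobsonSpace A.hom
  haveI : JacobsonSpace W.left := LocallyOfFiniteType.jacobsonSpace W.hom
  obtain ⟨_, ⟨T₁, hT₁, rfl⟩, h₁, hT₁'⟩ := A.left.isBasis_affineOpens.exists_subset_of_mem_open
    (show kpt t ∈ (T' : Set A.left) from ht) T'.2
  obtain ⟨_, ⟨T₂, hT₂, rfl⟩, h₂, hT₂'⟩ := A.left.isBasis_affineOpens.exists_subset_of_mem_open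
    (show kpt t' ∈ (T' : Set A.left) from ht') T'.2
  obtain ⟨_, ⟨W₁, hW₁, rfl⟩, k₁, -⟩ := W.left.isBasis_affineOpens.exists_subset_of_mem_open
    (Set.mem_univ (kpt w)) isOpen_univ
  obtain ⟨_, ⟨W₂, hW₂, rfl⟩, k₂, -⟩ := W.left.isBasis_affineOpens.exists_subset_of_mem_open
    (Set.mem_univ (kpt w')) isOpen_univ
  obtain ⟨a, ha, hac⟩ := nonempty_inter_closedPoints
    (nonempty_preirreducible_inter T₁.2 T₂.2 ⟨_, h₁⟩ ⟨_, h₂⟩) (T₁ ⊓ T₂).2.isLocallyClosed
  obtain ⟨b, hb, hbc⟩ := nonempty_inter_closedPoints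
    (nonempty_preirreducible_inter W₁.2 W₂.2 ⟨_, k₁⟩ ⟨_, k₂⟩) (W₁ ⊓ W₂).2.isLocallyClosed
  obtain ⟨s, rfl⟩ := exists_kpt a hac
  obtain ⟨r, rfl⟩ := exists_kpt b hbc
  intro _ _ _ _
  show Φ t ht w * Φ t' ht' w' = Φ t ht w' * Φ t' ht' w
  have hs : kpt s ∈ T' := hT₁' ha.1
  have stepW : ∀ (T₀ : A.left.Opens) (hT₀ : IsAffineOpen T₀) (hT : T₀ ≤ T') (x x' : 𝟙k ⟶ A) (hx : kpt x ∈ T₀) (hx' : kpt x' ∈ T₀),
      Φ x (hT hx) w / Φ x' (hT hx') w = Φ x (hT hx) w' / Φ x' (hT hx') w' := by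
    intro T₀ hT₀ hT x x' hx hx'
    have e1 := base T₀ W₁ hT₀ hW₁ hT x x' w r hx hx' k₁ hb.1
    have e2 := base T₀ W₂ hT₀ hW₂ hT x x' r w' hx hx' hb.2 k₂
    rw [← div_eq_div_iff (hΦ x' (hT hx') w) (hΦ x' (hT hx') r)] at e1
    rw [← div_eq_div_iff (hΦ x' (hT hx') r) (hΦ x' (hT hx') w')] at e2
    exact e1.trans e2
  have e1 := stepW T₁ hT₁ hT₁' t s h₁ ha.1
  have e2 := stepW T₂ hT₂ hT₂' s t' ha.2 h₂
  have : Φ t ht w / Φ t' ht' w = Φ t ht w' / Φ t' ht' w' := by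
    rw [← div_mul_div_cancel₀ (hΦ s hs w) (a := Φ t ht w) (c := Φ t' ht' w),
      ← div_mul_div_cancel₀ (hΦ s hs w') (a := Φ t ht w') (c := Φ t' ht' w'), e1, e2]
  rwa [div_eq_div_iff (hΦ t' ht' w) (hΦ t' ht' w')] at this

/-- A module on a product which is trivial on the axes and locally over the first factor is trivial. -/
theorem trivial_of_trivial_axes_of_local (M : (A ⊗ W).left.Modules) (t₁ : 𝟙k ⟶ A) (w₁ : 𝟙k ⟶ W)
    (h₁ : Nonempty ((Scheme.Modules.pullback (lift (toUnit (A ⊗ W) ≫ t₁) (snd A W)).left).obj M ≅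
      Coh.structureModule (A ⊗ W).left))
    (h₂ : Nonempty ((Scheme.Modules.pullback (lift (fst A W) (toUnit (A ⊗ W) ≫ w₁)).left).obj M ≅
      Coh.structureModule (A ⊗ W).left))
    (hloc : ∀ a : A.left, ∃ T' : A.left.Opens, a ∈ T' ∧ kpt t₁ ∈ T' ∧
      ∃ e : Γ(M, (fst A W).left ⁻¹ᵁ T'), IsFrame M ((fst A W).left ⁻¹ᵁ T') e)
    [AlgebraicGeometry.IsReduced (A ⊗ W).left] [LocallyOfFiniteType (A ⊗ W).hom] :
    Nonempty (M ≅ Coh.structureModule (A ⊗ W).left) := by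
  let ρ₁ : A ⊗ W ⟶ A ⊗ W := lift (toUnit (A ⊗ W) ≫ t₁) (snd A W)
  let ρ₂ : A ⊗ W ⟶ A ⊗ W := lift (fst A W) (toUnit (A ⊗ W) ≫ w₁)
  let ρ₀ : A ⊗ W ⟶ A ⊗ W := lift (toUnit (A ⊗ W) ≫ t₁) (toUnit (A ⊗ W) ≫ w₁)
  have h₀ : Nonempty ((Scheme.Modules.pullback ρ₀.left).obj M ≅ Coh.structureModule (A ⊗ W).left) := by
    refine trivial_comp ρ₂.left ρ₁.left ?_ M h₁
    rw [← Over.comp_left]
    congr 1
    apply CartesianMonoidalCategory.hom_ext
    · simp [ρ₀, ρ₁, ρ₂]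
    · simp [ρ₀, ρ₁, ρ₂]
  choose T hT ht₁ e he using hloc
  let O : A.left → (A ⊗ W).left.Opens := fun a => (fst A W).left ⁻¹ᵁ T a
  have hfst : ∀ (ρ : A ⊗ W ⟶ A ⊗ W) (φ : A ⊗ W ⟶ A), ρ ≫ fst A W = φ → ∀ a, ∀ p,
      φ.left p ∈ T a → p ∈ ρ.left ⁻¹ᵁ O a := fun ρ φ h a p hp => by
    show (fst A W).left (ρ.left p) ∈ T a
    rw [← Scheme.Hom.comp_apply, ← Over.comp_left, h]
    exact hp
  have hconst : ∀ a, ∀ p, (toUnit (A ⊗ W) ≫ t₁).left p ∈ T a := fun a p => by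
    rw [Over.comp_left, Scheme.Hom.comp_apply]
    have hs : (toUnit (A ⊗ W)).left p = IsLocalRing.closedPoint k :=
      @Subsingleton.elim (PrimeSpectrum k) _ _ _
    rw [hs]
    exact ht₁ a
  have hρ₁ : ∀ a, (⊤ : (A ⊗ W).left.Opens) ≤ ρ₁.left ⁻¹ᵁ O a := fun a p _ =>
    hfst ρ₁ (toUnit (A ⊗ W) ≫ t₁) (lift_fst _ _) a p (hconst a p)
  have hρ₀ : ∀ a, (⊤ : (A ⊗ W).left.Opens) ≤ ρ₀.left ⁻¹ᵁ O a := fun a p _ =>
    hfst ρ₀ (toUnit (A ⊗ W) ≫ t₁) (lift_fst _ _) a p (hconst a p)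
  have hρ₂ : ∀ a, O a ≤ ρ₂.left ⁻¹ᵁ O a := fun a p hp =>
    hfst ρ₂ (fst A W) (lift_fst _ _) a p hp
  obtain ⟨F₁, hF₁⟩ := exists_frame_of_iso h₁
  obtain ⟨F₂, hF₂⟩ := exists_frame_of_iso h₂
  obtain ⟨F₀, hF₀⟩ := exists_frame_of_iso h₀
  choose α hα using fun a => hF₁.exists_coeff (le_top : ⊤ ≤ ⊤) (rs _ (hρ₁ a) (pull ρ₁.left M (O a) (e a)))
  choose β hβ using fun a => hF₂.exists_coeff (le_top : O a ≤ ⊤) (rs _ (hρ₂ a) (pull ρ₂.left M (O a) (e a)))
  choose γ hγ using fun a => hF₀.exists_coeff (le_top : ⊤ ≤ ⊤) (rs _ (hρ₀ a) (pull ρ₀.left M (O a) (e a)))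
  have hαu : ∀ a, IsUnit (α a) := fun a => Groth.L18.Frame.isUnit_of_isFrame (hF₁.mono le_top)
    (by rw [hα]; exact isFrame_pull ρ₁.left (he a) (hρ₁ a))
  have hβu : ∀ a, IsUnit (β a) := fun a => Groth.L18.Frame.isUnit_of_isFrame (hF₂.mono le_top)
    (by rw [hβ]; exact isFrame_pull ρ₂.left (he a) (hρ₂ a))
  have hγu : ∀ a, IsUnit (γ a) := fun a => Groth.L18.Frame.isUnit_of_isFrame (hF₀.mono le_top)
    (by rw [hγ]; exact isFrame_pull ρ₀.left (he a) (hρ₀ a))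
  let f : ∀ a, Γ((A ⊗ W).left, O a) := fun a =>
    ro (le_top : O a ≤ ⊤) (α a * (↑((hγu a).unit⁻¹) : Γ((A ⊗ W).left, ⊤))) * β a
  obtain ⟨F, hF⟩ := exists_frame_top O (fun p => ⟨(fst A W).left p, hT _⟩) e he f
    (fun a => (((hαu a).mul (Units.isUnit _)).map _).mul (hβu a)) fun a b => by
    obtain ⟨u, hu⟩ := ((he b).mono (inf_le_right : O a ⊓ O b ≤ O b)).exists_coeff le_rfl
      (rs M inf_le_left (e a))
    rw [rs_self] at hu
    have huu : IsUnit u := Groth.L18.Frame.isUnit_of_isFrame ((he b).mono inf_le_right)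
      (by rw [hu]; exact (he a).mono inf_le_left)
    have ea := coeff_pull ρ₁.left u hu (hρ₁ a) (hρ₁ b) hF₁ (α a) (α b) (hα a) (hα b)
      (V := O a ⊓ O b) le_top le_top
    have eb := coeff_pull ρ₂.left u hu (hρ₂ a) (hρ₂ b) hF₂ (β a) (β b) (hβ a) (hβ b)
      (V := O a ⊓ O b) inf_le_left inf_le_right
    have ec := coeff_pull ρ₀.left u hu (hρ₀ a) (hρ₀ b) hF₀ (γ a) (γ b) (hγ a) (hγ b)
      (V := O a ⊓ O b) le_top le_top
    set r₁ := (ρ₁.left.appLE (O a ⊓ O b) (O a ⊓ O b) _).hom u with hr₁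
    set r₂ := (ρ₂.left.appLE (O a ⊓ O b) (O a ⊓ O b) _).hom u with hr₂
    set r₀ := (ρ₀.left.appLE (O a ⊓ O b) (O a ⊓ O b) _).hom u with hr₀
    have hros : u * r₀ = r₁ * r₂ := by
      refine eq_of_kval fun p hp => ?_
      obtain ⟨x, y, rfl⟩ : ∃ x y, p = lift x y := ⟨p ≫ fst A W, p ≫ snd A W, by
        apply CartesianMonoidalCategory.hom_ext <;> simp⟩
      have hx : kpt x ∈ T a ⊓ T b := by
        have h : (fst A W).left (kpt (lift x y)) = kpt x := by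
          rw [← Scheme.Hom.comp_apply, ← Over.comp_left, lift_fst]
        exact h ▸ hp
      rw [map_mul, map_mul, hr₀, hr₁, hr₂, kval_appLE, kval_appLE, kval_appLE]
      have hq : ∀ (q q' : 𝟙k ⟶ A ⊗ W) (h : q = q') (hq : kpt q ∈ O a ⊓ O b),
          kval _ q hq u = kval _ q' (h ▸ hq) u := fun q q' h hq => by subst h; rfl
      rw [hq (lift x y ≫ ρ₀) (lift t₁ w₁) (by
          apply CartesianMonoidalCategory.hom_ext <;> simp [ρ₀] ),
        hq (lift x y ≫ ρ₁) (lift t₁ y) (by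
          apply CartesianMonoidalCategory.hom_ext <;> simp [ρ₁] ),
        hq (lift x y ≫ ρ₂) (lift x w₁) (by
          apply CartesianMonoidalCategory.hom_ext <;> simp [ρ₂] )]
      rw [mul_comm (kval _ (lift t₁ y) _ u)]
      exact kval_unit_split A W (T a ⊓ T b) u huu x t₁ y w₁ hx ⟨ht₁ a, ht₁ b⟩ _ _ _ _
    rw [← hu, smul_smul]
    congr 1
    simp only [f, map_mul, ro_mul, ro_ro]
    have ia : ro (le_top : O a ⊓ O b ≤ ⊤) (γ a) * ro le_top (↑(hγu a).unit⁻¹ : Γ((A ⊗ W).left, ⊤)) = 1 := by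
      rw [← ro_mul, IsUnit.mul_val_inv]; exact map_one _
    have ib : ro (le_top : O a ⊓ O b ≤ ⊤) (γ b) * ro le_top (↑(hγu b).unit⁻¹ : Γ((A ⊗ W).left, ⊤)) = 1 := by
      rw [← ro_mul, IsUnit.mul_val_inv]; exact map_one _
    refine ((((hγu a).mul (hγu b)).map ((A ⊗ W).left.presheaf.map
      (homOfLE (le_top : O a ⊓ O b ≤ ⊤)).op).hom)).mul_left_cancel ?_
    show ro le_top (γ a * γ b) * _ = ro le_top (γ a * γ b) * _
    rw [ro_mul]
    calc _ = ro le_top (α b) * ro inf_le_right (β b) * u * ro le_top (γ a) *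
          (ro (le_top : O a ⊓ O b ≤ ⊤) (γ b) * ro le_top (↑(hγu b).unit⁻¹ : Γ((A ⊗ W).left, ⊤))) := by ring
      _ = ro le_top (α b) * ro inf_le_right (β b) * ro le_top (γ b) * (u * r₀) := by rw [ib, ec]; ring
      _ = ro le_top (γ b) * (r₁ * ro le_top (α b)) * (r₂ * ro inf_le_right (β b)) *
          (ro (le_top : O a ⊓ O b ≤ ⊤) (γ a) * ro le_top (↑(hγu a).unit⁻¹ : Γ((A ⊗ W).left, ⊤))) := by
            rw [hros, ia]; ring
      _ = _ := by rw [← ea, ← eb]; ring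
  exact nonempty_iso_of_frame_top hF

end Product

end Groth.L08.Cube.NP
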