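import Groth.Agent.L08.Cube.NP.Generic
import Mathlib.RingTheory.IntegralClosure.GoingDown
import Mathlib.RingTheory.NoetherNormalization
import Mathlib.FieldTheory.SeparableClosure
import Mathlib.FieldTheory.PurelyInseparable.Basic
import Mathlib.FieldTheory.Minpoly.IsIntegrallyClosed
import Mathlib.RingTheory.Localization.FractionRing
import Mathlib.Algebra.MvPolynomial.Funext

/-!
# Any two rational points of an affine variety are joined by a chain of curves
-/

set_option autoImplicit false
set_option linter.style.haveILetI false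
set_option maxSynthPendingDepth 3

universe u

open Polynomial

namespace Groth.L08.Cube.NP

variable {k : Type u} [Field k] [IsAlgClosed k]

/-- A rational point extends along an injective integral homomorphism. -/
theorem exists_extend_point {C₀ C : Type u} [CommRing C₀] [CommRing C] [Algebra k C₀] [Algebra k C]
    (f : C₀ →ₐ[k] C) (hf : Function.Injective f) (hint : f.toRingHom.IsIntegral) (v : C₀ →ₐ[k] k) :
    ∃ v' : C →ₐ[k] k, v'.comp f = v := by
  letI := f.toRingHom.toAlgebra
  haveI : Algebra.IsIntegral C₀ C := ⟨hint⟩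
  haveI : FaithfulSMul C₀ C := (faithfulSMul_iff_algebraMap_injective _ _).2 hf
  haveI : (RingHom.ker v).IsMaximal :=
    RingHom.ker_isMaximal_of_surjective _ fun c => ⟨algebraMap k C₀ c, v.commutes c⟩
  obtain ⟨m, hm, hmc⟩ := Ideal.exists_ideal_over_maximal_of_isIntegral (S := C) (RingHom.ker v)
    (by rw [(RingHom.injective_iff_ker_eq_bot (algebraMap C₀ C)).1 hf]; exact bot_le)
  haveI := hm
  letI : Field (C ⧸ m) := Ideal.Quotient.field m
  have hker : ∀ b : C₀, Ideal.Quotient.mk m (f b) = algebraMap k (C ⧸ m) (v b) := fun b => by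
    rw [IsScalarTower.algebraMap_apply k C (C ⧸ m), Ideal.Quotient.algebraMap_eq, ← f.commutes, Ideal.Quotient.eq,
      ← map_sub]
    show b - algebraMap k C₀ (v b) ∈ m.comap (algebraMap C₀ C)
    rw [hmc, RingHom.mem_ker, map_sub, AlgHom.commutes]
    simp
  have hs : Function.Surjective (algebraMap k (C ⧸ m)) := by
    refine algebraMap_surjective_of_integral fun z => ?_
    obtain ⟨z, rfl⟩ := Ideal.Quotient.mk_surjective z
    obtain ⟨p, hp, hp0⟩ := hint z
    refine ⟨p.map v.toRingHom, hp.map _, ?_⟩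
    rw [eval₂_map, show (algebraMap k (C ⧸ m)).comp v.toRingHom = (Ideal.Quotient.mk m).comp f.toRingHom from
      RingHom.ext fun b => (hker b).symm, ← hom_eval₂, hp0, map_zero]
  let e : k ≃ₐ[k] C ⧸ m := AlgEquiv.ofBijective (Algebra.ofId k _) ⟨(algebraMap k (C ⧸ m)).injective, hs⟩
  refine ⟨e.symm.toAlgHom.comp (Ideal.Quotient.mkₐ k m), AlgHom.ext fun b => e.injective ?_⟩
  show e (e.symm (Ideal.Quotient.mk m (f b))) = _
  rw [e.apply_symm_apply]
  exact hker b

section

variable {A : Type u} [CommRing A] [IsDomain A] [Algebra k A] {n : ℕ}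
  [Algebra (MvPolynomial (Fin n) k) A] [IsScalarTower k (MvPolynomial (Fin n) k) A]
  [Module.Finite (MvPolynomial (Fin n) k) A]

/-- Any point is linked to a point outside a given hypersurface by the preimage of a line. -/
theorem exists_link_off (hinj : Function.Injective (algebraMap (MvPolynomial (Fin n) k) A)) (v : A →ₐ[k] k)
    (g : A) (hg : g ≠ 0) : ∃ w : A →ₐ[k] k, w g ≠ 0 ∧ (w = v ∨ Link k A v w) := by
  classical
  by_cases hvg : v g ≠ 0
  · exact ⟨v, hvg, Or.inl rfl⟩
  rw [not_not] at hvg
  set R := MvPolynomial (Fin n) k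
  haveI : FaithfulSMul R A := (faithfulSMul_iff_algebraMap_injective _ _).2 hinj
  haveI : Algebra.IsIntegral R A := inferInstance
  obtain ⟨r, hr, hr0⟩ := Submodule.exists_mem_ne_zero_of_ne_bot
    (Ideal.comap_ne_bot_of_integral_mem (R := R) (I := Ideal.span {g}) hg (Ideal.subset_span rfl)
      (Algebra.IsIntegral.isIntegral g))
  obtain ⟨b, hb⟩ := Ideal.mem_span_singleton'.1 hr
  obtain ⟨q, hq⟩ : ∃ q : Fin n → k, MvPolynomial.eval q r ≠ 0 := by
    by_contra h
    simp only [not_exists, not_not] at h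
    exact hr0 (MvPolynomial.funext fun q => by rw [h q, map_zero])
  let p : Fin n → k := fun i => v (algebraMap R A (MvPolynomial.X i))
  have hp : ∀ s : R, MvPolynomial.eval p s = v (algebraMap R A s) := by
    have h : MvPolynomial.aeval p = v.comp (IsScalarTower.toAlgHom k R A) :=
      MvPolynomial.algHom_ext fun i => by simp [p]; rfl
    intro s
    exact (DFunLike.congr_fun h s : _)
  have hpq : ∃ j, p j ≠ q j := by
    by_contra h
    simp only [not_exists, not_not] at h
    apply hq
    rw [← funext h, hp, ← hb, map_mul, hvg, mul_zero]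
  obtain ⟨j, hj⟩ := hpq
  let ℓ : R →ₐ[k] k[X] := MvPolynomial.aeval fun i => C (p i) + X * C (q i - p i)
  have hℓ : Function.Surjective ℓ := by
    rw [← AlgHom.range_eq_top, eq_top_iff, ← Polynomial.adjoin_X, Algebra.adjoin_le_iff, Set.singleton_subset_iff]
    refine ⟨algebraMap k R (q j - p j)⁻¹ * (MvPolynomial.X j - algebraMap k R (p j)), ?_⟩
    show ℓ _ = _
    rw [map_mul, map_sub, AlgHom.commutes, AlgHom.commutes]
    rw [show ℓ (MvPolynomial.X j) = C (p j) + X * C (q j - p j) from MvPolynomial.aeval_X _ j,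
      Polynomial.algebraMap_eq, add_sub_cancel_left, mul_comm X, ← mul_assoc, ← map_mul, inv_mul_cancel₀ (sub_ne_zero.2 hj.symm), map_one, one_mul]
  let P : Ideal R := RingHom.ker ℓ
  haveI : P.IsPrime := RingHom.ker_isPrime _
  have hℓ0 : ∀ s, (ℓ s).eval 0 = MvPolynomial.eval p s := by
    intro s
    have h : (Polynomial.aeval (0 : k)).comp ℓ = MvPolynomial.aeval p :=
      MvPolynomial.algHom_ext fun i => by simp [ℓ]
    exact (DFunLike.congr_fun h s : _)
  have hℓ1 : ∀ s, (ℓ s).eval 1 = MvPolynomial.eval q s := by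
    intro s
    have h : (Polynomial.aeval (1 : k)).comp ℓ = MvPolynomial.aeval q :=
      MvPolynomial.algHom_ext fun i => by simp [ℓ]
    exact (DFunLike.congr_fun h s : _)
  haveI : (RingHom.ker v).IsPrime := RingHom.ker_isPrime _
  have hPle : P ≤ (RingHom.ker v).under R := fun s hs => by
    show v (algebraMap R A s) = 0
    rw [← hp, ← hℓ0, RingHom.mem_ker.1 hs, eval_zero]
  haveI : IsDomain R := inferInstance
  haveI : IsIntegrallyClosed R := UniqueFactorizationMonoid.instIsIntegrallyClosed
  haveI : (RingHom.ker v).LiesOver ((RingHom.ker v).under R) := ⟨rfl⟩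
  obtain ⟨Q, hQv, hQ, hQP⟩ := Ideal.exists_ideal_le_liesOver_of_le (p := P) (q := (RingHom.ker v).under R)
    (RingHom.ker v) hPle
  haveI := hQ
  let C' := A ⧸ Q
  let π : A →ₐ[k] C' := Ideal.Quotient.mkₐ k Q
  obtain ⟨T, hT⟩ := hℓ X
  let t : C' := π (algebraMap R A T)
  have hker : ∀ s : R, π (algebraMap R A s) = 0 ↔ ℓ s = 0 := fun s => by
    rw [Ideal.Quotient.mkₐ_eq_mk, Ideal.Quotient.eq_zero_iff_mem, ← Ideal.mem_comap]
    show s ∈ Q.under R ↔ _
    rw [← hQP.over]
    exact RingHom.mem_ker
  have hat : ∀ s : R, aeval t (ℓ s) = π (algebraMap R A s) := by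
    intro s
    obtain ⟨s', hs'⟩ : ∃ s', s' = Polynomial.aeval T (ℓ s) := ⟨_, rfl⟩
    have h1 : ℓ s' = ℓ s := by
      rw [hs', ← aeval_algHom_apply, hT, aeval_X_left_apply]
    have h2 : π (algebraMap R A (s - s')) = 0 := (hker _).2 (by rw [map_sub, h1, sub_self])
    rw [map_sub, map_sub, sub_eq_zero] at h2
    rw [h2, hs']
    exact ((Polynomial.aeval_algHom_apply (π.comp (IsScalarTower.toAlgHom k R A)) T (ℓ s)).trans rfl)
  have htinj : Function.Injective (aeval t : k[X] →ₐ[k] C') := by
    refine (injective_iff_map_eq_zero _).2 fun f hf => ?_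
    obtain ⟨s, rfl⟩ := hℓ f
    rw [hat] at hf
    exact (hker s).1 hf
  have htint : (aeval t : k[X] →ₐ[k] C').toRingHom.IsIntegral := by
    refine RingHom.IsIntegral.tower_top ℓ.toRingHom (aeval t : k[X] →ₐ[k] C').toRingHom ?_
    have h : ((aeval t : k[X] →ₐ[k] C').toRingHom.comp ℓ.toRingHom) = π.toRingHom.comp (algebraMap R A) :=
      RingHom.ext hat
    rw [h]
    exact RingHom.IsIntegral.trans _ _ (fun a => Algebra.IsIntegral.isIntegral a)
      (RingHom.isIntegral_of_surjective _ Ideal.Quotient.mk_surjective)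
  obtain ⟨w', hw'⟩ := exists_extend_point (aeval t) htinj htint (Polynomial.aeval (1 : k))
  let v' : C' →ₐ[k] k := Ideal.Quotient.liftₐ Q v (fun a ha => hQv ha)
  refine ⟨w'.comp π, ?_, Or.inr ⟨C', inferInstance, inferInstance, π, Ideal.Quotient.isDomain Q,
    Ideal.Quotient.mk_surjective, ⟨t, htinj, htint⟩, v', w', AlgHom.ext fun a => ?_, rfl⟩⟩
  · intro h0
    apply hq
    have h := DFunLike.congr_fun hw' (ℓ r)
    rw [AlgHom.comp_apply, hat] at h
    rw [← hℓ1]
    refine (h.symm.trans ?_)
    rw [← hb, map_mul, map_mul]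
    rw [show w' (π g) = (w'.comp π) g from rfl, h0, mul_zero]
  · exact Ideal.Quotient.lift_mk Q v.toRingHom (fun a ha => hQv ha)

end

/-- Any two rational points of an integral affine variety are joined by a chain of curves. -/
theorem eqvGen_link (A : Type u) [CommRing A] [IsDomain A] [Algebra k A] [Algebra.FiniteType k A]
    (v w : A →ₐ[k] k) : Relation.EqvGen (Link k A) v w := by
  classical
  obtain ⟨n, g, hg, hgf⟩ := exists_finite_inj_algHom_of_fg k A
  letI := g.toRingHom.toAlgebra
  haveI : IsScalarTower k (MvPolynomial (Fin n) k) A := IsScalarTower.of_algebraMap_eq fun c => (g.commutes c).symm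
  haveI : Module.Finite (MvPolynomial (Fin n) k) A := hgf
  set R := MvPolynomial (Fin n) k
  have hinj : Function.Injective (algebraMap R A) := hg
  haveI : FaithfulSMul R A := (faithfulSMul_iff_algebraMap_injective _ _).2 hinj
  rcases n with _ | m
  · have hs : Function.Surjective (algebraMap k A) := by
      refine algebraMap_surjective_of_integral fun a => ?_
      haveI : Algebra.IsIntegral R A := inferInstance
      haveI : Algebra.IsIntegral k R := ⟨fun r => by
        rw [show r = algebraMap k R (MvPolynomial.constantCoeff r) from MvPolynomial.eq_C_of_isEmpty r]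
        exact isIntegral_algebraMap⟩
      exact isIntegral_trans a (Algebra.IsIntegral.isIntegral (R := R) a)
    have : v = w := AlgHom.ext fun a => by
      obtain ⟨c, rfl⟩ := hs a
      simp
    exact this ▸ Relation.EqvGen.refl v
  let F := FractionRing R
  let L := FractionRing A
  have hRL : Function.Injective ((algebraMap A L).comp (algebraMap R A)) :=
    (IsFractionRing.injective A L).comp hinj
  letI : Algebra F L := (IsFractionRing.lift (K := F) hRL).toAlgebra
  haveI : IsScalarTower R F L := IsScalarTower.of_algebraMap_eq fun r => by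
    rw [IsScalarTower.algebraMap_apply R A L]
    exact (IsFractionRing.lift_algebraMap (K := F) hRL r).symm
  have hdiv : ∀ y : L, ∃ (a : A) (r : R), r ≠ 0 ∧ y * algebraMap R L r = algebraMap A L a := by
    intro y
    obtain ⟨a, b, hb, rfl⟩ := IsFractionRing.div_surjective (A := A) y
    have hb0 : b ≠ 0 := nonZeroDivisors.ne_zero hb
    obtain ⟨r, hr, hr0⟩ := Submodule.exists_mem_ne_zero_of_ne_bot
      (Ideal.comap_ne_bot_of_integral_mem (R := R) (I := Ideal.span {b}) hb0 (Ideal.subset_span rfl)
        (Algebra.IsIntegral.isIntegral b))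
    obtain ⟨c, hc⟩ := Ideal.mem_span_singleton'.1 hr
    refine ⟨a * c, r, hr0, ?_⟩
    rw [IsScalarTower.algebraMap_apply R A L, ← hc, map_mul, map_mul]
    have : algebraMap A L b ≠ 0 := (map_ne_zero_iff _ (IsFractionRing.injective A L)).2 hb0
    rw [mul_comm (algebraMap A L c), ← mul_assoc, div_mul_cancel₀ _ this]
  haveI : Algebra.IsAlgebraic F L := ⟨fun y => by
    obtain ⟨a, r, hr, h⟩ := hdiv y
    have h1 : IsIntegral F (algebraMap A L a) :=
      ((Algebra.IsIntegral.isIntegral (R := R) a).map (IsScalarTower.toAlgHom R A L)).tower_top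
    have h2 : y = algebraMap A L a * algebraMap F L (algebraMap R F r)⁻¹ := by
      rw [map_inv₀, ← IsScalarTower.algebraMap_apply, ← h, mul_inv_cancel_right₀]
      exact (map_ne_zero_iff _ (by rw [IsScalarTower.algebraMap_eq R A L]; exact hRL)).2 hr
    rw [h2]
    exact (h1.mul isIntegral_algebraMap).isAlgebraic⟩
  let K := separableClosure F L
  let A₀ : Subalgebra R A := (K.toSubalgebra.restrictScalars R).comap (IsScalarTower.toAlgHom R A L)
  have hA₀ : ∀ a : A₀, algebraMap A L a ∈ K := fun a => a.2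
  letI : Algebra A₀ K := (((algebraMap A L).comp A₀.val.toRingHom).codRestrict K hA₀).toAlgebra
  haveI : IsScalarTower R A₀ K := IsScalarTower.of_algebraMap_eq fun r => Subtype.ext
    (IsScalarTower.algebraMap_apply R A L r)
  haveI : FaithfulSMul A₀ K := (faithfulSMul_iff_algebraMap_injective _ _).2 fun x y h =>
    Subtype.ext (IsFractionRing.injective A L (congrArg (Subtype.val : K → L) h))
  haveI : IsFractionRing A₀ K := by
    refine IsFractionRing.of_field A₀ K fun y => ?_
    obtain ⟨a, r, hr, h⟩ := hdiv (y : L)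
    have ha : a ∈ A₀ := by
      show algebraMap A L a ∈ K
      rw [← h, IsScalarTower.algebraMap_apply R F L]
      exact mul_mem y.2 (K.algebraMap_mem _)
    refine ⟨⟨a, ha⟩, algebraMap R A₀ r, Subtype.ext ?_⟩
    symm
    show ((algebraMap A₀ K ⟨a, ha⟩ / algebraMap A₀ K (algebraMap R A₀ r) : K) : L) = (y : L)
    rw [IntermediateField.coe_div]
    show algebraMap A L a / algebraMap A L (algebraMap R A r) = (y : L)
    rw [← IsScalarTower.algebraMap_apply, ← h, mul_div_assoc, div_self, mul_one]
    exact (map_ne_zero_iff _ (by rw [IsScalarTower.algebraMap_eq R A L]; exact hRL)).2 hr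
  haveI : Module.Finite R A₀ := Module.Finite.of_injective A₀.val.toLinearMap Subtype.val_injective
  have hinj₀ : Function.Injective (algebraMap R A₀) := fun x y h => hinj (congrArg Subtype.val h)
  have hsep : ∀ a : A₀, ∃ f : R[X], aeval a f = 0 ∧ aeval a (derivative f) ≠ 0 := by
    intro a
    have hi : IsIntegral R a := Algebra.IsIntegral.isIntegral a
    have hs : IsSeparable F (algebraMap A₀ K a) := Algebra.IsSeparable.isSeparable F _
    refine ⟨minpoly R a, minpoly.aeval R a, fun h0 => ?_⟩
    have hne := hs.aeval_derivative_ne_zero (minpoly.aeval F (algebraMap A₀ K a))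
    rw [minpoly.isIntegrallyClosed_eq_field_fractions F K hi, derivative_map, aeval_map_algebraMap,
      aeval_algebraMap_apply, h0, map_zero] at hne
    exact hne rfl
  obtain ⟨h, ζ, hh, hlink⟩ := exists_generic_link k (m + 1) A₀ K F hinj₀ ⟨0, m.succ_pos⟩ hsep
  have hall : ∀ v₀ : A₀ →ₐ[k] k, Relation.EqvGen (Link k A₀) v₀ ζ := by
    intro v₀
    obtain ⟨w₀, hw₀, hvw⟩ := exists_link_off hinj₀ v₀ h hh
    refine Relation.EqvGen.trans _ w₀ _ ?_ (Relation.EqvGen.rel _ _ (hlink w₀ hw₀))
    rcases hvw with rfl | hvw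
    · exact Relation.EqvGen.refl _
    · exact Relation.EqvGen.rel _ _ hvw
  -- transfer to `A`
  let j : A₀ →ₐ[k] A := (A₀.restrictScalars k).val
  have hjint : j.toRingHom.IsIntegral := fun a =>
    (Algebra.IsIntegral.isIntegral (R := R) a).tower_top (A := A₀)
  obtain ⟨q, hqK⟩ := ExpChar.exists F
  haveI := hqK
  haveI : ExpChar k q := ((algebraMap R F).comp (algebraMap k R)).expChar (RingHom.injective _) q
  have huniq : ∀ x y : A →ₐ[k] k, x.comp j = y.comp j → x = y := by
    intro x y hxy
    refine AlgHom.ext fun a => ?_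
    haveI : IsPurelyInseparable K L := separableClosure.isPurelyInseparable F L
    haveI : ExpChar K q := expChar_of_injective_ringHom (algebraMap F K).injective q
    obtain ⟨m', z, hz⟩ := IsPurelyInseparable.pow_mem K q (algebraMap A L a)
    have hmem : a ^ q ^ m' ∈ A₀ := by
      show algebraMap A L (a ^ q ^ m') ∈ K
      rw [map_pow, ← hz]
      exact z.2
    have h1 := DFunLike.congr_fun hxy ⟨a ^ q ^ m', hmem⟩
    simp only [AlgHom.comp_apply] at h1
    have h2 : iterateFrobenius k q m' (x a) = iterateFrobenius k q m' (y a) := by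
      rw [iterateFrobenius_def, iterateFrobenius_def, ← map_pow, ← map_pow]
      exact h1
    exact (iterateFrobenius k q m').injective h2
  have hlift : ∀ v₀ w₀ : A₀ →ₐ[k] k, Link k A₀ v₀ w₀ → ∀ x y : A →ₐ[k] k, x.comp j = v₀ → y.comp j = w₀ →
      Link k A x y := by
    rintro v₀ w₀ ⟨C₀, _, _, π₀, hC₀, hπ₀, ⟨t₀, ht₀, ht₀i⟩, v', w', hv', hw'⟩ x y hx hy
    haveI := hC₀
    letI := j.toRingHom.toAlgebra
    haveI : Algebra.IsIntegral A₀ A := ⟨hjint⟩
    haveI : (RingHom.ker π₀).IsPrime := RingHom.ker_isPrime _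
    obtain ⟨Q, -, hQ, hQc⟩ := Ideal.exists_ideal_over_prime_of_isIntegral (RingHom.ker π₀) (⊥ : Ideal A)
      (fun z hz => by
        have : j z = 0 := hz
        rw [show z = 0 from Subtype.ext this]
        exact zero_mem _)
    haveI := hQ
    let e := Ideal.quotientKerAlgEquivOfSurjective hπ₀
    let φ₁ : (A₀ ⧸ RingHom.ker π₀) →ₐ[k] A ⧸ Q :=
      Ideal.Quotient.liftₐ _ ((Ideal.Quotient.mkₐ k Q).comp j) fun z hz =>
        Ideal.Quotient.eq_zero_iff_mem.2 (show z ∈ Q.comap (algebraMap A₀ A) by rw [hQc]; exact hz)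
    let φ : C₀ →ₐ[k] A ⧸ Q := φ₁.comp e.symm.toAlgHom
    have hφ : ∀ a : A₀, φ (π₀ a) = Ideal.Quotient.mk Q (j a) := fun a => by
      show φ₁ (e.symm (π₀ a)) = _
      rw [show e.symm (π₀ a) = Ideal.Quotient.mk _ a from e.injective (by simp [e])]
      rfl
    have hφinj : Function.Injective φ := by
      refine (injective_iff_map_eq_zero _).2 fun z hz => ?_
      obtain ⟨a, rfl⟩ := hπ₀ z
      rw [hφ, Ideal.Quotient.eq_zero_iff_mem] at hz
      have : a ∈ Q.comap (algebraMap A₀ A) := hz
      rw [hQc] at this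
      exact this
    have hφint : φ.toRingHom.IsIntegral := by
      refine RingHom.IsIntegral.tower_top π₀.toRingHom φ.toRingHom ?_
      rw [show φ.toRingHom.comp π₀.toRingHom = (Ideal.Quotient.mk Q).comp j.toRingHom from RingHom.ext hφ]
      exact RingHom.IsIntegral.trans _ _ hjint (RingHom.isIntegral_of_surjective _ Ideal.Quotient.mk_surjective)
    have ht : aeval (φ t₀) = φ.comp (aeval t₀ : k[X] →ₐ[k] C₀) := Polynomial.algHom_ext (by simp)
    obtain ⟨x', hx'⟩ := exists_extend_point φ hφinj hφint v'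
    obtain ⟨y', hy'⟩ := exists_extend_point φ hφinj hφint w'
    refine ⟨A ⧸ Q, inferInstance, inferInstance, Ideal.Quotient.mkₐ k Q, Ideal.Quotient.isDomain Q,
      Ideal.Quotient.mk_surjective, ⟨φ t₀, ?_, ?_⟩, x', y', huniq _ _ ?_, huniq _ _ ?_⟩
    · rw [ht]; exact hφinj.comp ht₀
    · rw [ht]; exact RingHom.IsIntegral.trans _ _ ht₀i hφint
    · rw [hx, ← hv', ← hx']
      exact AlgHom.ext fun a => congrArg x' (hφ a).symm
    · rw [hy, ← hw', ← hy']
      exact AlgHom.ext fun a => congrArg y' (hφ a).symm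
  have hjinj : Function.Injective j := Subtype.val_injective
  choose ext hext using fun v₀ => exists_extend_point j hjinj hjint v₀
  have hmap : ∀ v₀ w₀, Relation.EqvGen (Link k A₀) v₀ w₀ → Relation.EqvGen (Link k A) (ext v₀) (ext w₀) := by
    intro v₀ w₀ hvw
    induction hvw with
    | rel a b hab => exact Relation.EqvGen.rel _ _ (hlift a b hab _ _ (hext a) (hext b))
    | refl a => exact Relation.EqvGen.refl _
    | symm a b _ ih => exact Relation.EqvGen.symm _ _ ih
    | trans a b c _ _ ih ih' => exact Relation.EqvGen.trans _ _ _ ih ih'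
  have := hmap _ _ ((hall (v.comp j)).trans _ _ _ ((hall (w.comp j)).symm _ _))
  rwa [huniq (ext (v.comp j)) v (hext _), huniq (ext (w.comp j)) w (hext _)] at this

end Groth.L08.Cube.NP
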