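import Mathlib.RingTheory.TensorProduct.Basic
import Mathlib.RingTheory.Localization.AtPrime.Basic
import Mathlib.RingTheory.DiscreteValuationRing.TFAE
import Mathlib.RingTheory.Filtration
import Mathlib.RingTheory.Algebraic.Integral
import Mathlib.Algebra.Polynomial.Identities

/-!
# A deformed diagonal point is regular

`T` is an `R`-algebra with a surjection to a domain `A` with kernel generated by `τ`. When `A` is
generically separable over `R`, the local ring of `T ⊗[R] A` at the diagonal point has principal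
maximal ideal.
-/

set_option autoImplicit false
set_option linter.style.haveILetI false

universe u

open TensorProduct Polynomial

namespace Groth.L08.Cube.NP

variable {R T A : Type u} [CommRing R] [CommRing T] [CommRing A] [Algebra R T] [Algebra R A]

/-- The diagonal point. -/
noncomputable abbrev diag (π : T →ₐ[R] A) : T ⊗[R] A →ₐ[R] A :=
  Algebra.TensorProduct.lift π (AlgHom.id R A) fun _ _ => Commute.all _ _

theorem diag_tmul (π : T →ₐ[R] A) (t : T) (a : A) : diag π (t ⊗ₜ a) = π t * a := by
  simp [diag]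

theorem exists_mul_mem_span [IsDomain A] (π : T →ₐ[R] A) (τ : T)
    (hker : ∀ t, π t = 0 → t ∈ Ideal.span {τ})
    (hsep : ∀ a : A, ∃ f : R[X], aeval a f = 0 ∧ aeval a (derivative f) ≠ 0)
    (b : T ⊗[R] A) (hb : diag π b = 0) :
    ∃ s : T ⊗[R] A, diag π s ≠ 0 ∧ s * b ∈ Ideal.span {(τ ⊗ₜ[R] (1 : A))} := by
  let J : Ideal (T ⊗[R] A) := Ideal.span {(τ ⊗ₜ[R] (1 : A))}
  let I : Ideal (T ⊗[R] A) :=
    { carrier := {b | ∃ s, diag π s ≠ 0 ∧ s * b ∈ J}
      add_mem' := by
        rintro x y ⟨s, hs, hsx⟩ ⟨s', hs', hsy⟩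
        refine ⟨s * s', by rw [map_mul]; exact mul_ne_zero hs hs', ?_⟩
        rw [mul_add]
        exact J.add_mem (by rw [mul_comm s, mul_assoc]; exact J.mul_mem_left _ hsx)
          (by rw [mul_assoc]; exact J.mul_mem_left _ hsy)
      zero_mem' := ⟨1, by simp, by simp⟩
      smul_mem' := by
        rintro c x ⟨s, hs, hsx⟩
        refine ⟨s, hs, ?_⟩
        rw [smul_eq_mul, mul_left_comm]
        exact J.mul_mem_left _ hsx }
  have hgen : ∀ t : T, t ⊗ₜ[R] (1 : A) - (1 : T) ⊗ₜ[R] π t ∈ I := by
    intro t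
    obtain ⟨f, hf, hf'⟩ := hsep (π t)
    set u : T ⊗[R] A := t ⊗ₜ[R] 1 with hu
    set v : T ⊗[R] A := (1 : T) ⊗ₜ[R] π t with hv
    let F : (T ⊗[R] A)[X] := f.map (algebraMap R (T ⊗[R] A))
    obtain ⟨c, hc⟩ := F.binomExpansion v (u - v)
    rw [add_sub_cancel] at hc
    refine ⟨F.derivative.eval v + c * (u - v), ?_, ?_⟩
    · rw [map_add, map_mul, map_sub, hu, hv]
      simp only [diag, Algebra.TensorProduct.lift_tmul, map_one, mul_one, one_mul, AlgHom.coe_id, id_eq,
        sub_self, mul_zero, add_zero]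
      rw [show F.derivative.eval v = aeval v (derivative f) by
        rw [derivative_map, eval_map]; rfl]
      rw [show Algebra.TensorProduct.lift π (AlgHom.id R A) _ (aeval v (derivative f)) =
        aeval (diag π v) (derivative f) from (aeval_algHom_apply (diag π) v _).symm]
      simpa [diag, hv] using hf'
    · have h1 : F.eval u ∈ J := by
        rw [show F.eval u = (Algebra.TensorProduct.includeLeft : T →ₐ[R] T ⊗[R] A) (aeval t f) by
          rw [← aeval_algHom_apply]; simp [F, eval_map, aeval_def, hu]]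
        obtain ⟨w, hw⟩ := Ideal.mem_span_singleton'.1 (hker (aeval t f) (by
          rw [← aeval_algHom_apply]; exact hf))
        rw [← hw, map_mul]
        exact J.mul_mem_left _ (Ideal.subset_span (by simp))
      have h2 : F.eval v = 0 := by
        rw [show F.eval v = (Algebra.TensorProduct.includeRight : A →ₐ[R] T ⊗[R] A) (aeval (π t) f) by
          rw [← aeval_algHom_apply]; simp [F, eval_map, aeval_def, hv], hf, map_zero]
      rw [hc, h2, zero_add] at h1
      convert h1 using 1
      ring
  have hall : ∀ x : T ⊗[R] A, x - (1 : T) ⊗ₜ[R] diag π x ∈ I := by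
    intro x
    induction x using TensorProduct.induction_on with
    | zero => simp
    | add x y hx hy =>
      have := I.add_mem hx hy
      rw [map_add, TensorProduct.tmul_add]
      convert this using 1
      abel
    | tmul t a =>
      have := I.mul_mem_left ((1 : T) ⊗ₜ[R] a) (hgen t)
      convert this using 1
      simp [diag, mul_sub, mul_comm (π t) a]
  have := hall b
  rw [hb, TensorProduct.tmul_zero, sub_zero] at this
  exact this

/-- A Noetherian local ring whose maximal ideal is generated by a non-nilpotent element is a domain,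
and a principal ideal ring. -/
theorem isDomain_and_pir {S : Type u} [CommRing S] [IsNoetherianRing S] [IsLocalRing S] (τ : S)
    (hm : IsLocalRing.maximalIdeal S = Ideal.span {τ}) (hτ : ¬ IsNilpotent τ) :
    IsDomain S ∧ IsPrincipalIdealRing S := by
  have hform : ∀ x : S, x ≠ 0 → ∃ (n : ℕ) (w : Sˣ), x = w * τ ^ n := by
    intro x hx
    by_contra hne
    simp only [not_exists] at hne
    have hall : ∀ n, x ∈ (IsLocalRing.maximalIdeal S) ^ n := by
      intro n
      rw [hm, Ideal.span_singleton_pow]
      induction n with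
      | zero => simp
      | succ n ih =>
        obtain ⟨c, hc⟩ := Ideal.mem_span_singleton'.1 ih
        have hcm : c ∈ IsLocalRing.maximalIdeal S := fun hu => hne n hu.unit hc.symm
        rw [hm] at hcm
        obtain ⟨d, hd⟩ := Ideal.mem_span_singleton'.1 hcm
        exact Ideal.mem_span_singleton'.2 ⟨d, by rw [← hc, ← hd, pow_succ]; ring⟩
    have := Ideal.iInf_pow_eq_bot_of_isLocalRing _ (IsLocalRing.maximalIdeal.isMaximal S).ne_top
    exact hx (by rw [← Ideal.mem_bot, ← this, Ideal.mem_iInf]; exact hall)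
  haveI : NoZeroDivisors S := by
    refine ⟨fun {a b} hab => ?_⟩
    by_contra h
    rw [not_or] at h
    obtain ⟨n, w, rfl⟩ := hform a h.1
    obtain ⟨m, w', rfl⟩ := hform b h.2
    refine hτ ⟨n + m, ?_⟩
    have h0 : ((w * w' : Sˣ) : S) * τ ^ (n + m) = 0 := by
      rw [← hab, Units.val_mul, pow_add]; ring
    exact (Units.mul_right_eq_zero _).1 h0
  refine ⟨NoZeroDivisors.to_isDomain _, ⟨fun I => ?_⟩⟩
  classical
  by_cases hI : I = ⊥
  · subst hI; exact ⟨⟨0, by simp⟩⟩
  obtain ⟨x, hxI, hx⟩ := Submodule.exists_mem_ne_zero_of_ne_bot hI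
  have hex : ∃ n : ℕ, τ ^ n ∈ I := by
    obtain ⟨n, w, rfl⟩ := hform x hx
    exact ⟨n, by simpa using I.mul_mem_left (↑w⁻¹ : S) hxI⟩
  refine ⟨⟨τ ^ Nat.find hex, le_antisymm (fun y hy => ?_) ?_⟩⟩
  · by_cases hy0 : y = 0
    · simp [hy0]
    obtain ⟨n, w, rfl⟩ := hform y hy0
    have hn : τ ^ n ∈ I := by simpa using I.mul_mem_left (↑w⁻¹ : S) hy
    exact Ideal.mem_span_singleton.2 (dvd_mul_of_dvd_right (pow_dvd_pow τ (Nat.find_min' hex hn)) _)
  · exact (Ideal.span_singleton_le_iff_mem I).2 (Nat.find_spec hex)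

end Groth.L08.Cube.NP
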