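import Groth.Agent.L08.Cube.Field
import Groth.Agent.L08.Cube.ThreeMaps
import Groth.Agent.L08.Cube.NP.CurveModel
import Groth.Agent.L08.Cube.SmoothStalk
import Groth.Agent.L10.RegularUFD
import Groth.Agent.L21.Extend.Split

/-!
# The theorem of the cube for slices of smooth varieties
-/

set_option autoImplicit false
set_option linter.style.haveILetI false
set_option linter.unusedSectionVars false
set_option maxSynthPendingDepth 3
set_option backward.isDefEq.respectTransparency false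

universe u

open CategoryTheory CategoryTheory.Limits MonoidalCategory CartesianMonoidalCategory AlgebraicGeometry

noncomputable section

namespace Groth.L08.Cube.NP

open Groth.Agent.AbDualLib

attribute [local instance] clMonoid

variable {k : Type u} [Field k]

local notation "𝟙k" => (𝟙_ (Over (Spec (CommRingCat.of k))))

/-- The class of the restriction of an invertible module to a slice. -/
abbrev sliceCl {X Y Z : Over (Spec (CommRingCat.of k))} (L : (X ⊗ Y ⊗ Z).left.Modules)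
    {T : Over (Spec (CommRingCat.of k))} (φ : T ⟶ X) (ψ : T ⟶ Y) (χ : T ⟶ Z) : PicF.Cl T.left :=
  PicF.pullCl (lift φ (lift ψ χ)).left (PicF.cl L)

theorem pullCl_sliceCl {X Y Z : Over (Spec (CommRingCat.of k))} (L : (X ⊗ Y ⊗ Z).left.Modules)
    {T T' : Over (Spec (CommRingCat.of k))} (s : T' ⟶ T) (φ : T ⟶ X) (ψ : T ⟶ Y) (χ : T ⟶ Z) :
    PicF.pullCl s.left (sliceCl L φ ψ χ) = sliceCl L (s ≫ φ) (s ≫ ψ) (s ≫ χ) := by
  rw [← PicLoc.pullCl_comp, ← Over.comp_left]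
  simp only [comp_lift]

theorem isInvertibleCl_sliceCl {X Y Z : Over (Spec (CommRingCat.of k))} (L : (X ⊗ Y ⊗ Z).left.Modules)
    (hL : PicF.IsInvertible L) {T : Over (Spec (CommRingCat.of k))} (φ : T ⟶ X) (ψ : T ⟶ Y) (χ : T ⟶ Z) :
    PicF.IsInvertibleCl (sliceCl L φ ψ χ) :=
  PicLoc.isInvertibleCl_pullCl _ ⟨L, rfl, hL⟩

theorem sliceCl_const {X Y Z : Over (Spec (CommRingCat.of k))} (L : (X ⊗ Y ⊗ Z).left.Modules)
    (hL : PicF.IsInvertible L) (T : Over (Spec (CommRingCat.of k))) (a : 𝟙k ⟶ X) (b : 𝟙k ⟶ Y) (c : 𝟙k ⟶ Z) :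
    sliceCl L (toUnit T ≫ a) (toUnit T ≫ b) (toUnit T ≫ c) = 1 := by
  rw [← pullCl_sliceCl]
  haveI : Subsingleton (𝟙k).left := inferInstanceAs (Subsingleton (PrimeSpectrum k))
  rw [show sliceCl L a b c = 1 from eq_oneCl_of_subsingleton (isInvertibleCl_sliceCl L hL _ _ _), pullCl_one]

/-- The cube theorem in terms of coordinate slices, with two complete factors. -/
theorem cube_product (X Y Z : Over (Spec (CommRingCat.of k))) [IsProper X.hom] [GeometricallyIntegral X.hom]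
    [IsProper Y.hom] [GeometricallyIntegral Y.hom] [LocallyOfFiniteType Z.hom] [GeometricallyIntegral Z.hom]
    (L : (X ⊗ Y ⊗ Z).left.Modules) (hL : PicF.IsInvertible L)
    (x₀ : 𝟙k ⟶ X) (y₀ : 𝟙k ⟶ Y) (z₀ : 𝟙k ⟶ Z) (x : 𝟙k ⟶ X) (y : 𝟙k ⟶ Y) :
    sliceCl L (toUnit Z ≫ x₀) (toUnit Z ≫ y₀) (𝟙 Z) * sliceCl L (toUnit Z ≫ x) (toUnit Z ≫ y) (𝟙 Z) =
      sliceCl L (toUnit Z ≫ x₀) (toUnit Z ≫ y) (𝟙 Z) * sliceCl L (toUnit Z ≫ x) (toUnit Z ≫ y₀) (𝟙 Z) := by
  let p : X ⊗ Y ⊗ Z ⟶ X := fst X (Y ⊗ Z)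
  let q : X ⊗ Y ⊗ Z ⟶ Y := snd X (Y ⊗ Z) ≫ fst Y Z
  let r : X ⊗ Y ⊗ Z ⟶ Z := snd X (Y ⊗ Z) ≫ snd Y Z
  let ox := toUnit (X ⊗ Y ⊗ Z) ≫ x₀
  let oy := toUnit (X ⊗ Y ⊗ Z) ≫ y₀
  let oz := toUnit (X ⊗ Y ⊗ Z) ≫ z₀
  let lhs := sliceCl L p q r * sliceCl L ox oy r * sliceCl L ox q oz * sliceCl L p oy oz
  let rhs := sliceCl L ox q r * sliceCl L p oy r * sliceCl L p q oz * sliceCl L ox oy oz
  have hl : PicF.IsInvertibleCl lhs :=
    isInvertibleCl_mulCl (isInvertibleCl_mulCl (isInvertibleCl_mulCl (isInvertibleCl_sliceCl L hL _ _ _)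
      (isInvertibleCl_sliceCl L hL _ _ _)) (isInvertibleCl_sliceCl L hL _ _ _)) (isInvertibleCl_sliceCl L hL _ _ _)
  have hr : PicF.IsInvertibleCl rhs :=
    isInvertibleCl_mulCl (isInvertibleCl_mulCl (isInvertibleCl_mulCl (isInvertibleCl_sliceCl L hL _ _ _)
      (isInvertibleCl_sliceCl L hL _ _ _)) (isInvertibleCl_sliceCl L hL _ _ _)) (isInvertibleCl_sliceCl L hL _ _ _)
  obtain ⟨b, hb, hrb⟩ := exists_inverseCl hr
  obtain ⟨M, hM, hMi⟩ := isInvertibleCl_mulCl hl hb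
  have key : ∀ {T : Over (Spec (CommRingCat.of k))} (s : T ⟶ X ⊗ Y ⊗ Z),
      s ≫ p = toUnit T ≫ x₀ ∨ s ≫ q = toUnit T ≫ y₀ ∨ s ≫ r = toUnit T ≫ z₀ →
      Nonempty ((Scheme.Modules.pullback s.left).obj M ≅ Coh.structureModule T.left) := by
    intro T s hs
    refine (PicGrp.cl_eq_cl_iff _ _).1 (show PicF.pullCl s.left (PicF.cl M) = 1 from ?_)
    rw [hM, ← clMul_def, pullCl_mul]
    have h : PicF.pullCl s.left lhs = PicF.pullCl s.left rhs := by
      simp only [lhs, rhs, pullCl_mul, pullCl_sliceCl, ox, oy, oz]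
      simp only [← Category.assoc, toUnit_unique (s ≫ toUnit (X ⊗ Y ⊗ Z)) (toUnit T)]
      rcases hs with h | h | h <;> simp only [h] <;> ac_rfl
    rw [h, ← pullCl_mul, hrb, pullCl_one]
  obtain ⟨t⟩ := cube_field X Y Z x₀ y₀ z₀ M hMi (key _ (Or.inl (by simp [p])))
    (key _ (Or.inr (Or.inl (by simp [q])))) (key _ (Or.inr (Or.inr (by simp [r]))))
  have h1 : PicF.cl M = 1 := (PicGrp.cl_eq_cl_iff _ _).2 ⟨t⟩
  rw [hM, ← clMul_def] at h1
  have heq : lhs = rhs := by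
    calc lhs = lhs * (b * rhs) := by rw [mul_comm b, hrb, mul_one]
      _ = rhs := by rw [← mul_assoc, h1, one_mul]
  let s : Z ⟶ X ⊗ Y ⊗ Z := lift (toUnit Z ≫ x) (lift (toUnit Z ≫ y) (𝟙 Z))
  have h2 := congrArg (PicF.pullCl s.left) heq
  simp only [lhs, rhs, pullCl_mul, pullCl_sliceCl, ox, oy, oz] at h2
  simp only [← Category.assoc, toUnit_unique (s ≫ toUnit (X ⊗ Y ⊗ Z)) (toUnit Z)] at h2
  simp only [s, p, q, r, lift_fst, lift_snd, lift_snd_assoc] at h2
  rw [sliceCl_const L hL, sliceCl_const L hL, sliceCl_const L hL, sliceCl_const L hL, mul_one, mul_one, mul_one,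
    mul_one] at h2
  rw [mul_comm (sliceCl L _ _ (𝟙 Z))]
  exact h2

variable [IsAlgClosed k]

/-- Two rational points lie on the image of a smooth curve. -/
def CurveLink (U : Over (Spec (CommRingCat.of k))) (a a' : 𝟙k ⟶ U) : Prop :=
  ∃ (X : Over (Spec (CommRingCat.of k))) (_ : IsProper X.hom) (_ : Smooth X.hom) (_ : GeometricallyIntegral X.hom)
    (V : X.left.Opens) (g : Over.mk (V.ι ≫ X.hom) ⟶ U) (c c' : 𝟙k ⟶ Over.mk (V.ι ≫ X.hom)),
    c ≫ g = a ∧ c' ≫ g = a'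

theorem eqvGen_curveLink (U : Over (Spec (CommRingCat.of k))) [LocallyOfFiniteType U.hom]
    [AlgebraicGeometry.IsIntegral U.left] (a a' : 𝟙k ⟶ U) : Relation.EqvGen (CurveLink U) a a' := by
  have key : ∀ (U₀ : U.left.Opens), IsAffineOpen U₀ → ∀ x y : 𝟙k ⟶ U, kpt x ∈ U₀ → kpt y ∈ U₀ →
      Relation.EqvGen (CurveLink U) x y := by
    intro U₀ hU₀ x y hx hy
    haveI : Nonempty U₀ := ⟨⟨_, hx⟩⟩
    haveI : IsDomain Γ(U.left, U₀) := IsIntegral.component_integral U₀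
    let ρ : k →+* Γ(U.left, U₀) :=
      ((Scheme.ΓSpecIso (CommRingCat.of k)).inv ≫ U.hom.appLE ⊤ U₀ le_top).hom
    letI := ρ.toAlgebra
    haveI : Algebra.FiniteType k Γ(U.left, U₀) := by
      refine RingHom.finiteType_algebraMap.mp (RingHom.finiteType_respectsIso.2 _
        (Scheme.ΓSpecIso (CommRingCat.of k)).symm.commRingCatIsoToRingEquiv ?_)
      exact HasRingHomProperty.appLE @LocallyOfFiniteType U.hom inferInstance
        ⟨⊤, isAffineOpen_top _⟩ ⟨U₀, hU₀⟩ le_top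
    have hstr : hU₀.fromSpec ≫ U.hom = Spec.map (CommRingCat.ofHom (algebraMap k Γ(U.left, U₀))) := by
      rw [← IsAffineOpen.SpecMap_appLE_fromSpec U.hom (isAffineOpen_top _) hU₀ le_top, IsAffineOpen.fromSpec_top,
        Scheme.isoSpec_Spec_inv, ← Spec.map_comp]
      rfl
    let toPt : (Γ(U.left, U₀) →ₐ[k] k) → (𝟙k ⟶ U) := fun v =>
      Over.homMk (Spec.map (CommRingCat.ofHom v.toRingHom) ≫ hU₀.fromSpec) (by
        show (_ ≫ hU₀.fromSpec) ≫ U.hom = 𝟙 _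
        rw [Category.assoc, hstr, ← Spec.map_comp, ← CommRingCat.ofHom_comp,
          show v.toRingHom.comp (algebraMap k Γ(U.left, U₀)) = RingHom.id k from RingHom.ext v.commutes]
        exact Spec.map_id _)
    have hex : ∀ z : 𝟙k ⟶ U, kpt z ∈ U₀ → ∃ v, toPt v = z := by
      intro z hz
      haveI : Subsingleton (𝟙k).left := inferInstanceAs (Subsingleton (PrimeSpectrum k))
      have hr : Set.range z.left ⊆ Set.range hU₀.fromSpec := by
        rintro _ ⟨p, rfl⟩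
        rw [hU₀.range_fromSpec, Subsingleton.elim p (IsLocalRing.closedPoint k)]
        exact hz
      obtain ⟨w, hw⟩ := Spec.map_surjective (IsOpenImmersion.lift hU₀.fromSpec z.left hr)
      have hw' : Spec.map w ≫ hU₀.fromSpec = z.left := by rw [hw, IsOpenImmersion.lift_fac]
      have hk : CommRingCat.ofHom (algebraMap k Γ(U.left, U₀)) ≫ w = 𝟙 _ := Spec.map_injective (by
        rw [Spec.map_comp, ← hstr, reassoc_of% hw', Spec.map_id]
        exact Over.w z)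
      exact ⟨{ w.hom with commutes' := fun c => congr(($hk).hom c) }, Over.OverMorphism.ext hw'⟩
    obtain ⟨v, rfl⟩ := hex x hx
    obtain ⟨w, rfl⟩ := hex y hy
    have hl : ∀ v w, Link k Γ(U.left, U₀) v w → CurveLink U (toPt v) (toPt w) := by
      rintro v w ⟨C, _, _, π, hC, hπ, ⟨t, ht, hti⟩, v', w', hv, hw⟩
      haveI := hC
      haveI : Algebra.FiniteType k C := Algebra.FiniteType.of_surjective π hπ
      obtain ⟨X, hX₁, hX₂, hX₃, V, ψ, hψ, hpts⟩ := exists_curve_model C t ht hti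
      let g : Over.mk (V.ι ≫ X.hom) ⟶ U :=
        Over.homMk (ψ ≫ Spec.map (CommRingCat.ofHom π.toRingHom) ≫ hU₀.fromSpec) (by
          show (ψ ≫ _ ≫ hU₀.fromSpec) ≫ U.hom = V.ι ≫ X.hom
          rw [Category.assoc, Category.assoc, hstr, ← Spec.map_comp, ← CommRingCat.ofHom_comp,
            show π.toRingHom.comp (algebraMap k Γ(U.left, U₀)) = algebraMap k C from RingHom.ext π.commutes]
          exact hψ)
      obtain ⟨p, hp, hpv⟩ := hpts v'
      obtain ⟨p', hp', hpw⟩ := hpts w'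
      refine ⟨X, hX₁, hX₂, hX₃, V, g, Over.homMk p hp, Over.homMk p' hp', ?_, ?_⟩
      · refine Over.OverMorphism.ext ?_
        show p ≫ ψ ≫ _ ≫ hU₀.fromSpec = Spec.map _ ≫ hU₀.fromSpec
        rw [reassoc_of% hpv, ← Spec.map_comp_assoc, ← CommRingCat.ofHom_comp, ← hv]
        rfl
      · refine Over.OverMorphism.ext ?_
        show p' ≫ ψ ≫ _ ≫ hU₀.fromSpec = Spec.map _ ≫ hU₀.fromSpec
        rw [reassoc_of% hpw, ← Spec.map_comp_assoc, ← CommRingCat.ofHom_comp, ← hw]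
        rfl
    have := eqvGen_link Γ(U.left, U₀) v w
    clear hx hy
    induction this with
    | rel a b hab => exact Relation.EqvGen.rel _ _ (hl a b hab)
    | refl a => exact Relation.EqvGen.refl _
    | symm a b _ ih => exact Relation.EqvGen.symm _ _ ih
    | trans a b c _ _ ih ih' => exact Relation.EqvGen.trans _ _ _ ih ih'
  obtain ⟨_, ⟨U₁, hU₁, rfl⟩, h₁, -⟩ := U.left.isBasis_affineOpens.exists_subset_of_mem_open
    (Set.mem_univ (kpt a)) isOpen_univ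
  obtain ⟨_, ⟨U₂, hU₂, rfl⟩, h₂, -⟩ := U.left.isBasis_affineOpens.exists_subset_of_mem_open
    (Set.mem_univ (kpt a')) isOpen_univ
  have hne : ((U₁ ⊓ U₂ : U.left.Opens) : Set U.left).Nonempty :=
    nonempty_preirreducible_inter U₁.2 U₂.2 ⟨_, h₁⟩ ⟨_, h₂⟩
  haveI : JacobsonSpace U.left := LocallyOfFiniteType.jacobsonSpace U.hom
  obtain ⟨z, hz, hzc⟩ := nonempty_inter_closedPoints hne (U₁ ⊓ U₂).2.isLocallyClosed
  obtain ⟨c, hc⟩ := exists_kpt z hzc
  exact Relation.EqvGen.trans _ _ _ (key U₁ hU₁ a c h₁ (by rw [hc]; exact hz.1))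
    (key U₂ hU₂ c a' (by rw [hc]; exact hz.2) h₂)

/-- The relation for two curves. -/
theorem slice_relation_curves {X Y : Over (Spec (CommRingCat.of k))} [IsProper X.hom] [Smooth X.hom]
    [GeometricallyIntegral X.hom] [IsProper Y.hom] [Smooth Y.hom] [GeometricallyIntegral Y.hom]
    (VX : X.left.Opens) (VY : Y.left.Opens) (W : Over (Spec (CommRingCat.of k))) [Smooth W.hom]
    [GeometricallyIntegral W.hom] [Nonempty (𝟙k ⟶ W)]
    (L : (Over.mk (VX.ι ≫ X.hom) ⊗ Over.mk (VY.ι ≫ Y.hom) ⊗ W).left.Modules) (hL : PicF.IsInvertible L)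
    (a a' : 𝟙k ⟶ Over.mk (VX.ι ≫ X.hom)) (b b' : 𝟙k ⟶ Over.mk (VY.ι ≫ Y.hom)) :
    sliceCl L (toUnit W ≫ a) (toUnit W ≫ b) (𝟙 W) * sliceCl L (toUnit W ≫ a') (toUnit W ≫ b') (𝟙 W) =
      sliceCl L (toUnit W ≫ a) (toUnit W ≫ b') (𝟙 W) * sliceCl L (toUnit W ≫ a') (toUnit W ≫ b) (𝟙 W) := by
  let jX : Over.mk (VX.ι ≫ X.hom) ⟶ X := Over.homMk VX.ι rfl
  let jY : Over.mk (VY.ι ≫ Y.hom) ⟶ Y := Over.homMk VY.ι rfl
  let j : Over.mk (VX.ι ≫ X.hom) ⊗ Over.mk (VY.ι ≫ Y.hom) ⊗ W ⟶ X ⊗ Y ⊗ W := jX ⊗ₘ (jY ▷ W)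
  haveI : IsOpenImmersion jX.left := inferInstanceAs (IsOpenImmersion VX.ι)
  haveI : IsOpenImmersion jY.left := inferInstanceAs (IsOpenImmersion VY.ι)
  haveI : IsOpenImmersion (jY ▷ W).left := by
    rw [show (jY ▷ W) = jY ⊗ₘ 𝟙 W from (tensorHom_id jY W).symm]
    haveI : IsOpenImmersion (Over.Hom.left (𝟙 W)) := inferInstanceAs (IsOpenImmersion (𝟙 W.left))
    dsimp [Over.tensorHom_left]
    infer_instance
  haveI : IsOpenImmersion j.left := by
    dsimp [j, Over.tensorHom_left]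
    infer_instance
  haveI : Smooth (X ⊗ Y ⊗ W).hom := by
    haveI : Smooth (Y ⊗ W).hom := inferInstanceAs (Smooth (pullback.fst Y.hom W.hom ≫ Y.hom))
    exact inferInstanceAs (Smooth (pullback.fst X.hom (Y ⊗ W).hom ≫ X.hom))
  haveI : IsLocallyNoetherian (X ⊗ Y ⊗ W).left := LocallyOfFiniteType.isLocallyNoetherian (X ⊗ Y ⊗ W).hom
  let O := j.left.opensRange
  let e := j.left.isoOpensRange
  obtain ⟨L', hL', ⟨θ⟩⟩ := Groth.L21.Extend.exists_invertible_extension O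
    ((Scheme.Modules.pullback e.inv).obj L) (PicLoc.isInvertible_pullback e.inv hL) fun x _ => by
      haveI := isRegularLocalRing_of_smooth (X ⊗ Y ⊗ W).hom x
      exact Groth.L10.RegUFD.isUFD _
  have hcl : PicF.pullCl j.left (PicF.cl L') = PicF.cl L := by
    have hj : j.left = e.hom ≫ O.ι := (Scheme.Hom.isoOpensRange_hom_ι _).symm
    rw [hj, PicLoc.pullCl_comp, show PicF.pullCl O.ι (PicF.cl L') = PicF.pullCl e.inv (PicF.cl L) from
      cl_congr (((Scheme.Modules.restrictFunctorIsoPullback O.ι).app L').symm ≪≫ θ), ← PicLoc.pullCl_comp,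
      e.hom_inv_id]
    exact cl_congr ((Scheme.Modules.pullbackId _).app L)
  have hsl : ∀ (c : 𝟙k ⟶ Over.mk (VX.ι ≫ X.hom)) (d : 𝟙k ⟶ Over.mk (VY.ι ≫ Y.hom)),
      sliceCl L (toUnit W ≫ c) (toUnit W ≫ d) (𝟙 W) =
        sliceCl L' (toUnit W ≫ c ≫ jX) (toUnit W ≫ d ≫ jY) (𝟙 W) := by
    intro c d
    show PicF.pullCl _ (PicF.cl L) = _
    rw [← hcl, ← PicLoc.pullCl_comp, ← Over.comp_left]
    simp [j, sliceCl, lift_map, lift_whiskerRight]
  obtain ⟨z₀⟩ := ‹Nonempty (𝟙k ⟶ W)›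
  simp only [hsl]
  exact cube_product X Y W L' hL' (a ≫ jX) (b ≫ jY) z₀ (a' ≫ jX) (b' ≫ jY)

/-- The theorem of the cube for slices, without completeness. -/
theorem slice_relation (U V W : Over (Spec (CommRingCat.of k))) [LocallyOfFiniteType U.hom]
    [AlgebraicGeometry.IsIntegral U.left] [LocallyOfFiniteType V.hom] [AlgebraicGeometry.IsIntegral V.left]
    [Smooth W.hom] [GeometricallyIntegral W.hom]
    (L : (U ⊗ V ⊗ W).left.Modules) (hL : PicF.IsInvertible L) (a a' : 𝟙k ⟶ U) (b b' : 𝟙k ⟶ V) :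
    sliceCl L (toUnit W ≫ a) (toUnit W ≫ b) (𝟙 W) * sliceCl L (toUnit W ≫ a') (toUnit W ≫ b') (𝟙 W) =
      sliceCl L (toUnit W ≫ a) (toUnit W ≫ b') (𝟙 W) * sliceCl L (toUnit W ≫ a') (toUnit W ≫ b) (𝟙 W) := by
  haveI : Nonempty (𝟙k ⟶ W) := by
    haveI : Surjective W.hom := inferInstance
    haveI : JacobsonSpace W.left := LocallyOfFiniteType.jacobsonSpace W.hom
    obtain ⟨w, -⟩ := W.hom.surjective (IsLocalRing.closedPoint k)
    obtain ⟨z, -, hz⟩ := nonempty_inter_closedPoints (Z := (Set.univ : Set W.left)) ⟨w, trivial⟩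
      isOpen_univ.isLocallyClosed
    exact ⟨(exists_kpt z hz).choose⟩
  let S : (𝟙k ⟶ U) → (𝟙k ⟶ V) → (PicF.Cl W.left)ˣ := fun a b =>
    (isUnit_iff_exists_inv.2 (by
      obtain ⟨c, -, hc⟩ := exists_inverseCl (isInvertibleCl_sliceCl L hL (toUnit W ≫ a) (toUnit W ≫ b) (𝟙 W))
      exact ⟨c, hc⟩)).unit
  suffices h : S a b * S a' b' = S a b' * S a' b from congrArg Units.val h
  have base : ∀ a a' b b', CurveLink U a a' → CurveLink V b b' → S a b * S a' b' = S a b' * S a' b := by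
    rintro a a' b b' ⟨X, hX₁, hX₂, hX₃, VX, g, c, c', rfl, rfl⟩ ⟨Y, hY₁, hY₂, hY₃, VY, g', d, d', rfl, rfl⟩
    refine Units.ext ?_
    let φ : Over.mk (VX.ι ≫ X.hom) ⊗ Over.mk (VY.ι ≫ Y.hom) ⊗ W ⟶ U ⊗ V ⊗ W := g ⊗ₘ (g' ▷ W)
    have h := slice_relation_curves VX VY W ((Scheme.Modules.pullback φ.left).obj L)
      (PicLoc.isInvertible_pullback _ hL) c c' d d'
    have hsl : ∀ (x : 𝟙k ⟶ _) (y : 𝟙k ⟶ _),
        sliceCl ((Scheme.Modules.pullback φ.left).obj L) (toUnit W ≫ x) (toUnit W ≫ y) (𝟙 W) =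
          sliceCl L (toUnit W ≫ x ≫ g) (toUnit W ≫ y ≫ g') (𝟙 W) := by
      intro x y
      show PicF.pullCl _ (PicF.pullCl φ.left (PicF.cl L)) = _
      rw [← PicLoc.pullCl_comp, ← Over.comp_left]
      simp [φ, sliceCl, lift_map, lift_whiskerRight]
    simp only [hsl] at h
    exact h
  -- extend along chains in the second variable, then in the first
  have step : ∀ a a', CurveLink U a a' → ∀ b b', S a b * S a' b' = S a b' * S a' b := by
    intro a a' ha b b'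
    have hf : ∀ b b', Relation.EqvGen (CurveLink V) b b' → S a' b / S a b = S a' b' / S a b' := by
      intro b b' hb
      induction hb with
      | rel x y hxy =>
        have := base a a' x y ha hxy
        rw [div_eq_div_iff_mul_eq_mul, mul_comm (S a' x), ← this, mul_comm]
      | refl x => rfl
      | symm x y _ ih => exact ih.symm
      | trans x y z _ _ ih ih' => exact ih.trans ih'
    have := hf b b' (eqvGen_curveLink V b b')
    rw [div_eq_div_iff_mul_eq_mul] at this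
    rw [mul_comm (S a b'), this, mul_comm]
  have hg : ∀ a a', Relation.EqvGen (CurveLink U) a a' → S a b / S a b' = S a' b / S a' b' := by
    intro a a' ha
    induction ha with
    | rel x y hxy =>
      have := step x y hxy b b'
      rw [div_eq_div_iff_mul_eq_mul, this, mul_comm]
    | refl x => rfl
    | symm x y _ ih => exact ih.symm
    | trans x y z _ _ ih ih' => exact ih.trans ih'
  have := hg a a' (eqvGen_curveLink U a a')
  rw [div_eq_div_iff_mul_eq_mul] at this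
  rw [this, mul_comm]

end Groth.L08.Cube.NP
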