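import Groth.Agent.L08.Cube.NP.Pair
import Groth.Agent.L08.Cube.SliceFibre

/-!
# Slices of an invertible module on a triple product of smooth varieties
-/

set_option autoImplicit false
set_option linter.style.haveILetI false
set_option linter.unusedSectionVars false
set_option maxSynthPendingDepth 3
set_option backward.isDefEq.respectTransparency false

universe u

open CategoryTheory CategoryTheory.Limits MonoidalCategory CartesianMonoidalCategory AlgebraicGeometry TopologicalSpace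

noncomputable section

namespace Groth.L08.Cube.NP

open Groth.Agent.AbDualLib

attribute [local instance] clMonoid

variable {k : Type u} [Field k] [IsAlgClosed k]

local notation "𝟙k" => (𝟙_ (Over (Spec (CommRingCat.of k))))

theorem smooth_tensor (X Y : Over (Spec (CommRingCat.of k))) [Smooth X.hom] [Smooth Y.hom] : Smooth (X ⊗ Y).hom :=
  inferInstanceAs (Smooth (pullback.fst X.hom Y.hom ≫ X.hom))

theorem geometricallyIntegral_tensor (X Y : Over (Spec (CommRingCat.of k))) [Smooth X.hom] [GeometricallyIntegral X.hom]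
    [Smooth Y.hom] [GeometricallyIntegral Y.hom] : GeometricallyIntegral (X ⊗ Y).hom := by
  haveI : AlgebraicGeometry.IsIntegral (X ⊗ Y).left := by
    haveI : AlgebraicGeometry.IsIntegral Y.left := GeometricallyIntegral.isIntegral_of_subsingleton Y.hom
    haveI : IsLocallyNoetherian Y.left := LocallyOfFiniteType.isLocallyNoetherian Y.hom
    exact inferInstanceAs (AlgebraicGeometry.IsIntegral (pullback X.hom Y.hom))
  exact geometricallyIntegral_of_isAlgClosed _

/-- Invertible modules extend from open subschemes of smooth schemes. -/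
theorem exists_extension_cl {P Q : Over (Spec (CommRingCat.of k))} (j : P ⟶ Q) [IsOpenImmersion j.left]
    [Smooth Q.hom] [IsSeparated Q.hom] [QuasiCompact Q.hom] (N : P.left.Modules) (hN : PicF.IsInvertible N) :
    ∃ L : Q.left.Modules, PicF.IsInvertible L ∧ PicF.pullCl j.left (PicF.cl L) = PicF.cl N := by
  haveI : IsLocallyNoetherian Q.left := LocallyOfFiniteType.isLocallyNoetherian Q.hom
  let O := j.left.opensRange
  let e := j.left.isoOpensRange
  obtain ⟨L', hL', ⟨θ⟩⟩ := Groth.L21.Extend.exists_invertible_extension O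
    ((Scheme.Modules.pullback e.inv).obj N) (PicLoc.isInvertible_pullback e.inv hN) fun x _ => by
      haveI := isRegularLocalRing_of_smooth Q.hom x
      exact Groth.L10.RegUFD.isUFD _
  refine ⟨L', hL', ?_⟩
  rw [show j.left = e.hom ≫ O.ι from (Scheme.Hom.isoOpensRange_hom_ι _).symm, PicLoc.pullCl_comp,
    show PicF.pullCl O.ι (PicF.cl L') = PicF.pullCl e.inv (PicF.cl N) from
      cl_congr (((Scheme.Modules.restrictFunctorIsoPullback O.ι).app L').symm ≪≫ θ), ← PicLoc.pullCl_comp,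
    e.hom_inv_id]
  exact cl_congr ((Scheme.Modules.pullbackId _).app N)

variable (A B C : Over (Spec (CommRingCat.of k)))

/-- The curve case: an invertible module trivial on three slices is trivial. -/
theorem trivial_curve {X : Over (Spec (CommRingCat.of k))} [IsProper X.hom] [Smooth X.hom]
    [GeometricallyIntegral X.hom] (VX : X.left.Opens) [Smooth B.hom] [GeometricallyIntegral B.hom]
    [IsSeparated B.hom] [QuasiCompact B.hom] [Smooth C.hom] [GeometricallyIntegral C.hom]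
    [IsSeparated C.hom] [QuasiCompact C.hom]
    (N : (Over.mk (VX.ι ≫ X.hom) ⊗ B ⊗ C).left.Modules) (hN : PicF.IsInvertible N)
    (x₀ : 𝟙k ⟶ Over.mk (VX.ι ≫ X.hom)) (b₀ : 𝟙k ⟶ B) (c₀ : 𝟙k ⟶ C)
    (h₁ : sliceCl N (toUnit (B ⊗ C) ≫ x₀) (fst B C) (snd B C) = 1)
    (h₂ : sliceCl N (fst (Over.mk (VX.ι ≫ X.hom)) C) (toUnit _ ≫ b₀) (snd (Over.mk (VX.ι ≫ X.hom)) C) = 1)
    (h₃ : sliceCl N (fst (Over.mk (VX.ι ≫ X.hom)) B) (snd (Over.mk (VX.ι ≫ X.hom)) B) (toUnit _ ≫ c₀) = 1) :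
    PicF.cl N = 1 := by
  let XV := Over.mk (VX.ι ≫ X.hom)
  let jX : XV ⟶ X := Over.homMk VX.ι rfl
  haveI : IsOpenImmersion jX.left := inferInstanceAs (IsOpenImmersion VX.ι)
  let j : XV ⊗ B ⊗ C ⟶ X ⊗ B ⊗ C := jX ▷ (B ⊗ C)
  haveI : IsOpenImmersion j.left := by
    rw [show j = jX ⊗ₘ 𝟙 (B ⊗ C) from (tensorHom_id jX (B ⊗ C)).symm]
    haveI : IsOpenImmersion (Over.Hom.left (𝟙 (B ⊗ C))) := inferInstanceAs (IsOpenImmersion (𝟙 (B ⊗ C).left))
    dsimp [Over.tensorHom_left]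
    infer_instance
  haveI := smooth_tensor B C
  haveI := geometricallyIntegral_tensor B C
  haveI := smooth_tensor X (B ⊗ C)
  haveI : IsSeparated (B ⊗ C).hom := inferInstanceAs (IsSeparated (pullback.fst B.hom C.hom ≫ B.hom))
  haveI : QuasiCompact (B ⊗ C).hom := inferInstanceAs (QuasiCompact (pullback.fst B.hom C.hom ≫ B.hom))
  haveI : IsSeparated (X ⊗ B ⊗ C).hom := inferInstanceAs (IsSeparated (pullback.fst X.hom (B ⊗ C).hom ≫ X.hom))
  haveI : QuasiCompact (X ⊗ B ⊗ C).hom := inferInstanceAs (QuasiCompact (pullback.fst X.hom (B ⊗ C).hom ≫ X.hom))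
  obtain ⟨L, hL, hLN⟩ := exists_extension_cl j N hN
  let p : X ⊗ B ⊗ C ⟶ X := fst X (B ⊗ C)
  let q : X ⊗ B ⊗ C ⟶ B := snd X (B ⊗ C) ≫ fst B C
  let r : X ⊗ B ⊗ C ⟶ C := snd X (B ⊗ C) ≫ snd B C
  let ox := toUnit (X ⊗ B ⊗ C) ≫ x₀ ≫ jX
  let oy := toUnit (X ⊗ B ⊗ C) ≫ b₀
  let oz := toUnit (X ⊗ B ⊗ C) ≫ c₀
  let lhs := sliceCl L p q r * sliceCl L ox oy r * sliceCl L ox q oz * sliceCl L p oy oz
  let rhs := sliceCl L ox q r * sliceCl L p oy r * sliceCl L p q oz * sliceCl L ox oy oz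
  have hl : PicF.IsInvertibleCl lhs :=
    isInvertibleCl_mulCl (isInvertibleCl_mulCl (isInvertibleCl_mulCl (isInvertibleCl_sliceCl L hL _ _ _)
      (isInvertibleCl_sliceCl L hL _ _ _)) (isInvertibleCl_sliceCl L hL _ _ _)) (isInvertibleCl_sliceCl L hL _ _ _)
  have hr : PicF.IsInvertibleCl rhs :=
    isInvertibleCl_mulCl (isInvertibleCl_mulCl (isInvertibleCl_mulCl (isInvertibleCl_sliceCl L hL _ _ _)
      (isInvertibleCl_sliceCl L hL _ _ _)) (isInvertibleCl_sliceCl L hL _ _ _)) (isInvertibleCl_sliceCl L hL _ _ _)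
  obtain ⟨b, hb, hrb⟩ := exists_inverseCl hr
  obtain ⟨M, hM, hMi⟩ := isInvertibleCl_mulCl hl hb
  have hpull : ∀ {T : Over (Spec (CommRingCat.of k))} (s : T ⟶ X ⊗ B ⊗ C),
      PicF.pullCl s.left lhs = PicF.pullCl s.left rhs →
      Nonempty ((Scheme.Modules.pullback s.left).obj M ≅ Coh.structureModule T.left) := by
    intro T s h
    refine (PicGrp.cl_eq_cl_iff _ _).1 (show PicF.pullCl s.left (PicF.cl M) = 1 from ?_)
    rw [hM, ← clMul_def, pullCl_mul, h, ← pullCl_mul, hrb, pullCl_one]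
  let f := (snd X (B ⊗ C)).left
  haveI : IsLocallyNoetherian (B ⊗ C).left := LocallyOfFiniteType.isLocallyNoetherian (B ⊗ C).hom
  haveI : AlgebraicGeometry.IsIntegral (B ⊗ C).left := GeometricallyIntegral.isIntegral_of_subsingleton (B ⊗ C).hom
  haveI := isProper_snd X (B ⊗ C)
  haveI := flat_snd X (B ⊗ C)
  haveI : GeometricallyIntegral f := MorphismProperty.of_isPullback (isPullback_prod X (B ⊗ C)) ‹GeometricallyIntegral X.hom›
  haveI : LocallyOfFinitePresentation X.hom := inferInstance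
  haveI : LocallyOfFinitePresentation f :=
    MorphismProperty.of_isPullback (isPullback_prod X (B ⊗ C)) ‹LocallyOfFinitePresentation X.hom›
  have hpt : ∀ a : 𝟙k ⟶ B ⊗ C,
      Nonempty (CohIII.fiberMod f M (kpt a) ≅ Coh.structureModule (f.fiber (kpt a))) := by
    intro a
    refine (fiber_trivial_iff_slice (C := X) a M).2 (hpull (slice X a) ?_)
    let φ : B ⊗ C ⊗ X ⟶ X ⊗ B ⊗ C :=
      lift (snd B (C ⊗ X) ≫ snd C X) (lift (fst B (C ⊗ X)) (snd B (C ⊗ X) ≫ fst C X))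
    haveI : AlgebraicGeometry.IsIntegral B.left := GeometricallyIntegral.isIntegral_of_subsingleton B.hom
    haveI : AlgebraicGeometry.IsIntegral C.left := GeometricallyIntegral.isIntegral_of_subsingleton C.hom
    have hs := slice_relation B C X ((Scheme.Modules.pullback φ.left).obj L)
      (PicLoc.isInvertible_pullback _ hL) b₀ (a ≫ fst B C) c₀ (a ≫ snd B C)
    have hsl : ∀ (y : 𝟙k ⟶ B) (z : 𝟙k ⟶ C),
        sliceCl ((Scheme.Modules.pullback φ.left).obj L) (toUnit X ≫ y) (toUnit X ≫ z) (𝟙 X) =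
          sliceCl L (𝟙 X) (toUnit X ≫ y) (toUnit X ≫ z) := by
      intro y z
      show PicF.pullCl _ (PicF.pullCl φ.left (PicF.cl L)) = _
      rw [← PicLoc.pullCl_comp, ← Over.comp_left]
      simp [φ, sliceCl]
    simp only [hsl] at hs
    simp only [lhs, rhs, pullCl_mul, pullCl_sliceCl, p, q, r, ox, oy, oz]
    simp only [← Category.assoc, toUnit_unique (slice X a ≫ toUnit (X ⊗ B ⊗ C)) (toUnit X)]
    simp only [slice, lift_fst, lift_snd, Category.assoc]
    rw [sliceCl_const L hL X (x₀ ≫ jX) b₀ (a ≫ snd B C), sliceCl_const L hL X (x₀ ≫ jX) (a ≫ fst B C) c₀,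
      sliceCl_const L hL X (x₀ ≫ jX) (a ≫ fst B C) (a ≫ snd B C), sliceCl_const L hL X (x₀ ≫ jX) b₀ c₀]
    simp only [_root_.one_mul, _root_.mul_one]
    rw [mul_comm (sliceCl L (𝟙 X) (toUnit X ≫ a ≫ fst B C) (toUnit X ≫ a ≫ snd B C)), hs]
  haveI : JacobsonSpace (B ⊗ C).left := LocallyOfFiniteType.jacobsonSpace (B ⊗ C).hom
  have htriv : ∀ w : (B ⊗ C).left, Nonempty ((Scheme.Modules.pullback (f.fiberι w)).obj M ≅ Coh.structureModule (f.fiber w)) :=
    fun w => trivial_on_fibres_of_mem_closure f M hMi (S := closedPoints (B ⊗ C).left) (fun v hv => by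
      obtain ⟨a, rfl⟩ := exists_kpt v (mem_closedPoints_iff.1 hv)
      exact hpt a) w (by rw [closure_closedPoints]; trivial)
  have hsec : Nonempty ((Scheme.Modules.pullback (lift (toUnit (B ⊗ C) ≫ x₀ ≫ jX) (𝟙 (B ⊗ C))).left).obj M ≅
      Coh.structureModule (B ⊗ C).left) := by
    refine hpull _ ?_
    simp only [lhs, rhs, pullCl_mul, pullCl_sliceCl, p, q, r, ox, oy, oz]
    simp only [← Category.assoc,
      toUnit_unique (lift ((toUnit (B ⊗ C) ≫ x₀) ≫ jX) (𝟙 (B ⊗ C)) ≫ toUnit (X ⊗ B ⊗ C)) (toUnit (B ⊗ C))]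
    simp only [lift_fst, lift_snd, Category.id_comp]
  obtain ⟨θ⟩ := hsec
  have h1 : PicF.cl M = 1 := (PicGrp.cl_eq_cl_iff _ _).2 (nonempty_iso_of_trivial_on_fibres f
    (lift (toUnit (B ⊗ C) ≫ x₀ ≫ jX) (𝟙 (B ⊗ C))).left
    (congrArg (fun m : B ⊗ C ⟶ B ⊗ C => m.left)
      (show lift (toUnit (B ⊗ C) ≫ x₀ ≫ jX) (𝟙 _) ≫ snd X (B ⊗ C) = 𝟙 _ by simp)) M hMi htriv θ)
  rw [hM, ← clMul_def] at h1
  have heq : lhs = rhs := by
    calc lhs = lhs * (b * rhs) := by rw [mul_comm b, hrb, mul_one]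
      _ = rhs := by rw [← mul_assoc, h1, one_mul]
  have h2 := congrArg (PicF.pullCl j.left) heq
  simp only [lhs, rhs, pullCl_mul, pullCl_sliceCl, p, q, r, ox, oy, oz] at h2
  have hj : ∀ {T : Over (Spec (CommRingCat.of k))} (φ : T ⟶ XV) (ψ : T ⟶ B) (χ : T ⟶ C),
      sliceCl L (φ ≫ jX) ψ χ = sliceCl N φ ψ χ := by
    intro T φ ψ χ
    show _ = PicF.pullCl _ (PicF.cl N)
    rw [← hLN, ← PicLoc.pullCl_comp, ← Over.comp_left]
    simp only [sliceCl, j, lift_whiskerRight]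
  simp only [← Category.assoc] at h2
  simp only [j, whiskerRight_fst, whiskerRight_snd] at h2
  simp only [toUnit_unique (jX ▷ (B ⊗ C) ≫ toUnit (X ⊗ B ⊗ C)) (toUnit (XV ⊗ B ⊗ C))] at h2
  simp only [hj] at h2
  have e₁ : ∀ {T : Over (Spec (CommRingCat.of k))} (ψ : T ⟶ B) (χ : T ⟶ C),
      sliceCl N (toUnit T ≫ x₀) ψ χ = 1 := by
    intro T ψ χ
    have := congrArg (PicF.pullCl (lift ψ χ).left) h₁
    rw [pullCl_sliceCl, pullCl_one] at this
    simpa [← Category.assoc, toUnit_unique (lift ψ χ ≫ toUnit _) (toUnit T)] using this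
  have e₂ : ∀ {T : Over (Spec (CommRingCat.of k))} (φ : T ⟶ Over.mk (VX.ι ≫ X.hom)) (χ : T ⟶ C),
      sliceCl N φ (toUnit T ≫ b₀) χ = 1 := by
    intro T φ χ
    have := congrArg (PicF.pullCl (lift φ χ).left) h₂
    rw [pullCl_sliceCl, pullCl_one] at this
    simpa [← Category.assoc, toUnit_unique (lift φ χ ≫ toUnit (Over.mk (VX.ι ≫ X.hom) ⊗ C)) (toUnit T)] using this
  have e₃ : ∀ {T : Over (Spec (CommRingCat.of k))} (φ : T ⟶ Over.mk (VX.ι ≫ X.hom)) (ψ : T ⟶ B),
      sliceCl N φ ψ (toUnit T ≫ c₀) = 1 := by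
    intro T φ ψ
    have := congrArg (PicF.pullCl (lift φ ψ).left) h₃
    rw [pullCl_sliceCl, pullCl_one] at this
    simpa [← Category.assoc, toUnit_unique (lift φ ψ ≫ toUnit (Over.mk (VX.ι ≫ X.hom) ⊗ B)) (toUnit T)] using this
  rw [e₁, e₁, e₁, e₁, e₂, e₂, e₃] at h2
  simp only [one_mul, mul_one] at h2
  rw [← h2]
  show PicF.cl N = PicF.pullCl _ (PicF.cl N)
  rw [show lift (fst XV (B ⊗ C)) (lift (snd XV (B ⊗ C) ≫ fst B C) (snd XV (B ⊗ C) ≫ snd B C)) = 𝟙 _ by
    apply CartesianMonoidalCategory.hom_ext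
    · simp
    · apply CartesianMonoidalCategory.hom_ext <;> simp]
  exact (cl_congr ((Scheme.Modules.pullbackId _).app N)).symm

/-- All slices in the first factor are trivial. -/
theorem trivial_slice [LocallyOfFiniteType A.hom] [AlgebraicGeometry.IsIntegral A.left]
    [Smooth B.hom] [GeometricallyIntegral B.hom] [IsSeparated B.hom] [QuasiCompact B.hom]
    [Smooth C.hom] [GeometricallyIntegral C.hom] [IsSeparated C.hom] [QuasiCompact C.hom]
    (N : (A ⊗ B ⊗ C).left.Modules) (hN : PicF.IsInvertible N) (a₀ : 𝟙k ⟶ A) (b₀ : 𝟙k ⟶ B) (c₀ : 𝟙k ⟶ C)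
    (h₁ : sliceCl N (toUnit (B ⊗ C) ≫ a₀) (fst B C) (snd B C) = 1)
    (h₂ : sliceCl N (fst A C) (toUnit _ ≫ b₀) (snd A C) = 1)
    (h₃ : sliceCl N (fst A B) (snd A B) (toUnit _ ≫ c₀) = 1) (a : 𝟙k ⟶ A) :
    sliceCl N (toUnit (B ⊗ C) ≫ a) (fst B C) (snd B C) = 1 := by
  let P : (𝟙k ⟶ A) → Prop := fun a => sliceCl N (toUnit (B ⊗ C) ≫ a) (fst B C) (snd B C) = 1
  have step : ∀ (X : Over (Spec (CommRingCat.of k))) [IsProper X.hom] [Smooth X.hom]
      [GeometricallyIntegral X.hom] (V : X.left.Opens) (g : Over.mk (V.ι ≫ X.hom) ⟶ A)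
      (c c' : 𝟙k ⟶ Over.mk (V.ι ≫ X.hom)), P (c ≫ g) → P (c' ≫ g) := by
    intro X _ _ _ V g c c' hc
    let N' := (Scheme.Modules.pullback (g ▷ (B ⊗ C)).left).obj N
    have hsl : ∀ {T : Over (Spec (CommRingCat.of k))} (φ : T ⟶ Over.mk (V.ι ≫ X.hom)) (ψ : T ⟶ B) (χ : T ⟶ C),
        sliceCl N' φ ψ χ = sliceCl N (φ ≫ g) ψ χ := by
      intro T φ ψ χ
      show PicF.pullCl _ (PicF.pullCl (g ▷ (B ⊗ C)).left (PicF.cl N)) = _
      rw [← PicLoc.pullCl_comp, ← Over.comp_left]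
      simp [sliceCl, lift_whiskerRight]
    have h := trivial_curve B C V N' (PicLoc.isInvertible_pullback _ hN) c b₀ c₀
      (by rw [hsl, Category.assoc]; exact hc)
      (by
        rw [hsl]
        have := congrArg (PicF.pullCl (g ▷ C).left) h₂
        rw [pullCl_sliceCl, pullCl_one] at this
        simpa [← Category.assoc, toUnit_unique (g ▷ C ≫ toUnit _) (toUnit _)] using this)
      (by
        rw [hsl]
        have := congrArg (PicF.pullCl (g ▷ B).left) h₃
        rw [pullCl_sliceCl, pullCl_one] at this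
        simpa [← Category.assoc, toUnit_unique (g ▷ B ≫ toUnit _) (toUnit _)] using this)
    have h' := hsl (toUnit (B ⊗ C) ≫ c') (fst B C) (snd B C)
    rw [Category.assoc, sliceCl, h, pullCl_one] at h'
    exact h'.symm
  have key : ∀ x y, Relation.EqvGen (CurveLink A) x y → (P x ↔ P y) := by
    intro x y hxy
    induction hxy with
    | rel x y h =>
      obtain ⟨X, hX₁, hX₂, hX₃, V, g, c, c', rfl, rfl⟩ := h
      exact ⟨step X V g c c', step X V g c' c⟩
    | refl x => rfl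
    | symm x y _ ih => exact ih.symm
    | trans x y z _ _ ih ih' => exact ih.trans ih'
  exact (key a₀ a (eqvGen_curveLink A a₀ a)).1 h₁

end Groth.L08.Cube.NP
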