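import Groth.Agent.L08.Cube.NP.Glue

/-!
# Trivialisations of a module along a morphism, as families of coefficients of frames
-/

set_option autoImplicit false
set_option linter.style.haveILetI false
set_option linter.unusedSectionVars false
set_option backward.isDefEq.respectTransparency false

universe u

open CategoryTheory CategoryTheory.Limits AlgebraicGeometry TopologicalSpace

noncomputable section

namespace Groth.L08.Cube.NP

open Groth.L18.Frame (rs ro rs_rs rs_self rs_smul ro_ro ro_self ro_mul IsFrame pull pull_rs pull_smul)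

variable {P T T' : Scheme.{u}} {M : P.Modules}

/-- A trivialisation of `M` along `φ`: compatible unit coefficients of all local frames. -/
@[ext]
structure Trn (M : P.Modules) (φ : T ⟶ P) where
  a : ∀ (O : P.Opens) (e : Γ(M, O)), IsFrame M O e → Γ(T, φ ⁻¹ᵁ O)
  isUnit : ∀ O e he, IsUnit (a O e he)
  compat : ∀ (O₁ : P.Opens) (e₁ : Γ(M, O₁)) (he₁ : IsFrame M O₁ e₁) (O₂ : P.Opens) (e₂ : Γ(M, O₂))
    (he₂ : IsFrame M O₂ e₂) (u : Γ(P, O₁ ⊓ O₂)), u • rs M inf_le_right e₂ = rs M inf_le_left e₁ →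
    ∀ (V : T.Opens) (h₁ : V ≤ φ ⁻¹ᵁ O₁) (h₂ : V ≤ φ ⁻¹ᵁ O₂),
      ro h₁ (a O₁ e₁ he₁) =
        (φ.appLE (O₁ ⊓ O₂) V (fun _ hx => ⟨h₁ hx, h₂ hx⟩)).hom u * ro h₂ (a O₂ e₂ he₂)

namespace Trn

variable {φ : T ⟶ P}

theorem nonempty_of_iso (φ : T ⟶ P)
    (h : Nonempty ((Scheme.Modules.pullback φ).obj M ≅ Coh.structureModule T)) : Nonempty (Trn M φ) := by
  obtain ⟨F, hF⟩ := exists_frame_of_iso h
  choose a ha using fun (O : P.Opens) (e : Γ(M, O)) =>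
    hF.exists_coeff (le_top : φ ⁻¹ᵁ O ≤ ⊤) (pull φ M O e)
  refine ⟨⟨fun O e _ => a O e, fun O e he => Groth.L18.Frame.isUnit_of_isFrame (hF.mono le_top)
      (by rw [ha]; exact he.pullback φ M), fun O₁ e₁ _ O₂ e₂ _ u hu V h₁ h₂ => ?_⟩⟩
  exact coeff_pull φ u hu le_rfl le_rfl hF (a O₁ e₁) (a O₂ e₂) (by rw [rs_self]; exact ha O₁ e₁)
    (by rw [rs_self]; exact ha O₂ e₂) h₁ h₂

/-- The trivialisation along a composite. -/
def comap (t : Trn M φ) (ψ : T' ⟶ T) (χ : T' ⟶ P) (h : ψ ≫ φ = χ) : Trn M χ where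
  a O e he := (ψ.appLE (φ ⁻¹ᵁ O) (χ ⁻¹ᵁ O) (by rw [← h]; exact le_rfl)).hom (t.a O e he)
  isUnit O e he := (t.isUnit O e he).map _
  compat O₁ e₁ he₁ O₂ e₂ he₂ u hu V h₁ h₂ := by
    subst h
    have hV : V ≤ ψ ⁻¹ᵁ (φ ⁻¹ᵁ (O₁ ⊓ O₂)) := fun x hx => ⟨h₁ hx, h₂ hx⟩
    rw [ro_appLE, ro_appLE, ← appLE_ro ψ (U' := φ ⁻¹ᵁ (O₁ ⊓ O₂)) (φ.preimage_mono inf_le_left) hV,
      ← appLE_ro ψ (U' := φ ⁻¹ᵁ (O₁ ⊓ O₂)) (φ.preimage_mono inf_le_right) hV,
      t.compat O₁ e₁ he₁ O₂ e₂ he₂ u hu (φ ⁻¹ᵁ (O₁ ⊓ O₂)) (φ.preimage_mono inf_le_left)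
        (φ.preimage_mono inf_le_right), map_mul]
    congr 1
    exact ConcreteCategory.congr_hom (Scheme.Hom.appLE_comp_appLE ψ φ _ _ V le_rfl hV) u

/-- Rescaling a trivialisation by a global unit. -/
def smul (t : Trn M φ) (c : Γ(T, ⊤)) (hc : IsUnit c) : Trn M φ where
  a O e he := ro le_top c * t.a O e he
  isUnit O e he := (hc.map (T.presheaf.map (homOfLE le_top).op).hom).mul (t.isUnit O e he)
  compat O₁ e₁ he₁ O₂ e₂ he₂ u hu V h₁ h₂ := by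
    rw [ro_mul, ro_mul, ro_ro, ro_ro, t.compat O₁ e₁ he₁ O₂ e₂ he₂ u hu V h₁ h₂, mul_left_comm]

theorem comap_comap {T'' : Scheme.{u}} (t : Trn M φ) (ψ : T' ⟶ T) (χ : T' ⟶ P) (h : ψ ≫ φ = χ)
    (ψ' : T'' ⟶ T') (χ' : T'' ⟶ P) (h' : ψ' ≫ χ = χ') :
    (t.comap ψ χ h).comap ψ' χ' h' = t.comap (ψ' ≫ ψ) χ' (by rw [Category.assoc, h, h']) := by
  subst h; subst h'
  ext O e he
  exact ConcreteCategory.congr_hom (Scheme.Hom.appLE_comp_appLE ψ' ψ (φ ⁻¹ᵁ O) ((ψ ≫ φ) ⁻¹ᵁ O)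
    ((ψ' ≫ ψ ≫ φ) ⁻¹ᵁ O) le_rfl le_rfl) (t.a O e he)

theorem comap_congr (t : Trn M φ) {ψ ψ' : T' ⟶ T} (e : ψ = ψ') (χ : T' ⟶ P) (h : ψ ≫ φ = χ) :
    t.comap ψ χ h = t.comap ψ' χ (by rw [← e]; exact h) := by
  subst e; rfl

theorem comap_smul (t : Trn M φ) (c : Γ(T, ⊤)) (hc : IsUnit c) (ψ : T' ⟶ T) (χ : T' ⟶ P) (h : ψ ≫ φ = χ) :
    (t.smul c hc).comap ψ χ h = (t.comap ψ χ h).smul (ψ.appTop.hom c) (hc.map _) := by
  subst h
  ext O e he
  show (ψ.appLE _ _ _).hom (ro le_top c * t.a O e he) = ro le_top (ψ.appTop.hom c) * _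
  rw [map_mul]
  congr 1
  rw [appLE_ro ψ le_top _ c, Scheme.Hom.appTop, Scheme.Hom.app_eq_appLE]
  exact (ro_appLE ψ _ _ c).symm

theorem smul_smul (t : Trn M φ) (c d : Γ(T, ⊤)) (hc : IsUnit c) (hd : IsUnit d) :
    (t.smul c hc).smul d hd = t.smul (d * c) (hd.mul hc) := by
  ext O e he
  show ro le_top d * (ro le_top c * t.a O e he) = ro le_top (d * c) * t.a O e he
  rw [ro_mul, mul_assoc]

theorem smul_one (t : Trn M φ) : t.smul 1 isUnit_one = t := by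
  ext O e he
  show ro le_top 1 * t.a O e he = t.a O e he
  rw [show ro (le_top : φ ⁻¹ᵁ O ≤ ⊤) (1 : Γ(T, ⊤)) = 1 from map_one _, one_mul]

theorem smul_congr (t : Trn M φ) {c d : Γ(T, ⊤)} (h : c = d) (hc : IsUnit c) :
    t.smul c hc = t.smul d (h ▸ hc) := by
  subst h; rfl

variable (hM : PicF.IsInvertible M)
include hM

/-- The frames cover. -/
theorem exists_mem (φ : T ⟶ P) (x : T) :
    ∃ i : (O : P.Opens) × {e : Γ(M, O) // IsFrame M O e}, x ∈ φ ⁻¹ᵁ i.1 := by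
  obtain ⟨O, e, hx, he⟩ := Groth.L18.Frame.exists_frame hM (φ x)
  exact ⟨⟨O, e, he⟩, hx⟩

/-- The unit by which a trivialisation is rescaled is determined. -/
theorem smul_cancel (t : Trn M φ) {c d : Γ(T, ⊤)} {hc : IsUnit c} {hd : IsUnit d}
    (h : t.smul c hc = t.smul d hd) : c = d := by
  choose i hi using exists_mem hM φ
  refine T.sheaf.eq_of_locally_eq' (fun x => φ ⁻¹ᵁ (i x).1) ⊤ (fun _ => homOfLE le_top)
    (fun x _ => Opens.mem_iSup.2 ⟨x, hi x⟩) c d fun x => ?_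
  exact (t.isUnit (i x).1 (i x).2.1 (i x).2.2).mul_right_cancel
    (congrFun (congrFun (congrFun (congrArg Trn.a h) (i x).1) (i x).2.1) (i x).2.2)

/-- Two trivialisations differ by a global unit. -/
theorem exists_smul_eq (t t' : Trn M φ) : ∃ (c : Γ(T, ⊤)) (hc : IsUnit c), t.smul c hc = t' := by
  let ι := (O : P.Opens) × {e : Γ(M, O) // IsFrame M O e}
  let U : ι → T.Opens := fun i => φ ⁻¹ᵁ i.1
  let r : ∀ i : ι, Γ(T, U i) := fun i =>
    t'.a i.1 i.2.1 i.2.2 * (↑((t.isUnit i.1 i.2.1 i.2.2).unit⁻¹) : Γ(T, U i))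
  have hr : ∀ i, r i * t.a i.1 i.2.1 i.2.2 = t'.a i.1 i.2.1 i.2.2 := fun i => by
    show _ * _ * t.a i.1 i.2.1 i.2.2 = _
    rw [mul_assoc, IsUnit.val_inv_mul, mul_one]
  obtain ⟨c, hc, -⟩ := T.sheaf.existsUnique_gluing' U ⊤ (fun _ => homOfLE le_top)
    (fun x _ => Opens.mem_iSup.2 (exists_mem hM φ x)) r fun i j => by
      show ro (inf_le_left : U i ⊓ U j ≤ U i) (r i) = ro (inf_le_right : U i ⊓ U j ≤ U j) (r j)
      obtain ⟨u, hu⟩ := (i.2.2.mono (inf_le_left : i.1 ⊓ j.1 ≤ i.1)).exists_coeff le_rfl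
        (rs M inf_le_right j.2.1)
      rw [rs_self] at hu
      obtain ⟨u, hu⟩ := (j.2.2.mono (inf_le_right : i.1 ⊓ j.1 ≤ j.1)).exists_coeff le_rfl
        (rs M inf_le_left i.2.1)
      rw [rs_self] at hu
      have huu : IsUnit u := Groth.L18.Frame.isUnit_of_isFrame (j.2.2.mono inf_le_right)
        (by rw [hu]; exact i.2.2.mono inf_le_left)
      have e1 := t.compat i.1 i.2.1 i.2.2 j.1 j.2.1 j.2.2 u hu (U i ⊓ U j) inf_le_left inf_le_right
      have e2 := t'.compat i.1 i.2.1 i.2.2 j.1 j.2.1 j.2.2 u hu (U i ⊓ U j) inf_le_left inf_le_right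
      refine ((t.isUnit i.1 i.2.1 i.2.2).map
        (T.presheaf.map (homOfLE (inf_le_left : U i ⊓ U j ≤ U i)).op).hom).mul_right_cancel ?_
      show ro inf_le_left (r i) * ro inf_le_left (t.a i.1 i.2.1 i.2.2) =
        ro inf_le_right (r j) * ro inf_le_left (t.a i.1 i.2.1 i.2.2)
      rw [← ro_mul, hr, e2, e1, mul_left_comm, ← ro_mul, hr]
  have hc' : ∀ i : ι, ro (le_top : U i ≤ ⊤) c = r i := hc
  have hcu : IsUnit c := by
    refine T.toRingedSpace.isUnit_of_isUnit_germ ⊤ c fun x _ => ?_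
    obtain ⟨i, hi⟩ := exists_mem hM φ x
    have hri : IsUnit (r i) := (t'.isUnit _ _ _).mul (Units.isUnit _)
    rw [show T.toRingedSpace.presheaf.germ ⊤ x trivial c = T.presheaf.germ (U i) x hi (ro le_top c) from
      (TopCat.Presheaf.germ_res_apply T.presheaf (homOfLE le_top) x hi c).symm, hc' i]
    exact hri.map _
  refine ⟨c, hcu, ?_⟩
  ext O e he
  show ro le_top c * t.a O e he = t'.a O e he
  rw [hc' ⟨O, e, he⟩]
  exact hr ⟨O, e, he⟩

/-- A trivialisation along the identity is a trivialisation. -/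
theorem nonempty_iso (t : Trn M (𝟙 P)) : Nonempty (M ≅ Coh.structureModule P) := by
  choose i hi using exists_mem hM (𝟙 P)
  obtain ⟨F, hF⟩ := exists_frame_top (fun x => (i x).1) (fun x => ⟨x, hi x⟩) (fun x => (i x).2.1)
    (fun x => (i x).2.2) (fun x => t.a (i x).1 (i x).2.1 (i x).2.2) (fun x => t.isUnit _ _ _) fun x y => by
    obtain ⟨u, hu⟩ := ((i y).2.2.mono (inf_le_right : (i x).1 ⊓ (i y).1 ≤ (i y).1)).exists_coeff le_rfl
      (rs M inf_le_left (i x).2.1)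
    rw [rs_self] at hu
    have h := t.compat _ _ (i x).2.2 _ _ (i y).2.2 u hu ((i x).1 ⊓ (i y).1) inf_le_left inf_le_right
    have hid : ((𝟙 P : P ⟶ P).appLE ((i x).1 ⊓ (i y).1) ((i x).1 ⊓ (i y).1) le_rfl).hom u = u := by
      simp [Scheme.Hom.appLE]; exact ConcreteCategory.congr_hom (P.presheaf.map_id _) u
    rw [hid] at h
    refine Eq.trans (congrArg (_ • ·) hu.symm) ((_root_.smul_smul _ u _).trans ?_)
    exact congrArg (· • _) ((mul_comm _ u).trans h.symm)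
  exact nonempty_iso_of_frame_top hF

end Trn

end Groth.L08.Cube.NP
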