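import Groth.Agent.L08.Cube.NP.Descend

/-!
# Units on the base change of a variety to a field are constant up to constants
-/

set_option autoImplicit false
set_option linter.style.haveILetI false
set_option linter.unusedSectionVars false
set_option maxSynthPendingDepth 3
set_option backward.isDefEq.respectTransparency false

universe u

open CategoryTheory CategoryTheory.Limits MonoidalCategory CartesianMonoidalCategory AlgebraicGeometry TopologicalSpace

noncomputable section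

namespace Groth.L08.Cube.NP

open scoped TensorProduct
open Groth.Agent.AbDualLib
open Groth.L18.Frame (ro ro_mul ro_ro ro_self)

variable {k : Type u} [Field k] [IsAlgClosed k]

local notation "𝟙k" => (𝟙_ (Over (Spec (CommRingCat.of k))))

variable (E C : Over (Spec (CommRingCat.of k))) [LocallyOfFiniteType C.hom]
  [AlgebraicGeometry.IsIntegral C.left] [AlgebraicGeometry.IsIntegral E.left] [IsAffine E.left]
  [Subsingleton E.left]

/-- The ratio of the values of a unit at two points of an affine open is a constant. -/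
theorem exists_const_ratio_of_affine (V : C.left.Opens) (hV : IsAffineOpen V)
    (u : Γ((E ⊗ C).left, ⊤)) (hu : IsUnit u) (c c' : 𝟙k ⟶ C) (hc : kpt c ∈ V) (hc' : kpt c' ∈ V) :
    ∃ l : k, (sec2 E c).left.appTop.hom u = strMap E ⊤ l * (sec2 E c').left.appTop.hom u := by
  classical
  haveI : Nonempty V := ⟨⟨_, hc⟩⟩
  haveI : IsDomain Γ(C.left, V) := IsIntegral.component_integral V
  haveI : Nonempty (⊤ : E.left.Opens) := ⟨⟨Classical.arbitrary _, trivial⟩⟩
  haveI : IsDomain Γ(E.left, ⊤) := IsIntegral.component_integral ⊤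
  letI := (strMap E ⊤).toAlgebra
  letI := (strMap C V).toAlgebra
  haveI : Algebra.FiniteType k Γ(C.left, V) := by
    refine RingHom.finiteType_algebraMap.mp (RingHom.finiteType_respectsIso.2 _
      (Scheme.ΓSpecIso (CommRingCat.of k)).symm.commRingCatIsoToRingEquiv ?_)
    exact HasRingHomProperty.appLE @LocallyOfFiniteType C.hom inferInstance
      ⟨⊤, isAffineOpen_top _⟩ ⟨V, hV⟩ le_top
  let OE := prodOpen E C ⊤ V
  obtain ⟨N, a, ε, -, hG⟩ := exists_expansion E C ⊤ V (isAffineOpen_top _) hV (ro (le_top : OE ≤ ⊤) u)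
  obtain ⟨N', a', ε', -, hG'⟩ := exists_expansion E C ⊤ V (isAffineOpen_top _) hV
    (ro (le_top : OE ≤ ⊤) (↑hu.unit⁻¹))
  let R := Algebra.adjoin k (Set.range a ∪ Set.range a' : Set Γ(E.left, ⊤))
  haveI : Algebra.FiniteType k R := (Subalgebra.fg_iff_finiteType _).1
    (Subalgebra.fg_def.2 ⟨_, (Set.finite_range a).union (Set.finite_range a'), rfl⟩)
  let g : R ⊗[k] Γ(C.left, V) := ∑ i, (⟨a i, Algebra.subset_adjoin (Or.inl ⟨i, rfl⟩)⟩ : R) ⊗ₜ[k] ε i
  let g' : R ⊗[k] Γ(C.left, V) := ∑ i, (⟨a' i, Algebra.subset_adjoin (Or.inr ⟨i, rfl⟩)⟩ : R) ⊗ₜ[k] ε' i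
  let kv : ∀ (w : 𝟙k ⟶ C), kpt w ∈ V → (Γ(C.left, V) →ₐ[k] k) := fun w hw =>
    { kval V w hw with commutes' := fun l => kval_strMap w hw l }
  -- evaluation at a point of the second factor
  let ev : ∀ (w : 𝟙k ⟶ C), kpt w ∈ V → (R ⊗[k] Γ(C.left, V) →ₐ[k] R) := fun w hw =>
    Algebra.TensorProduct.lift (AlgHom.id k R) ((Algebra.ofId k R).comp (kv w hw)) fun _ _ => Commute.all _ _
  have hev : ∀ (w : 𝟙k ⟶ C) (hw : kpt w ∈ V) (hT : (⊤ : E.left.Opens) ≤ (sec2 E w).left ⁻¹ᵁ OE) {n : ℕ}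
      (b : Fin n → Γ(E.left, ⊤)) (hb : ∀ i, b i ∈ R) (δ : Fin n → Γ(C.left, V)),
      ((ev w hw (∑ i, (⟨b i, hb i⟩ : R) ⊗ₜ[k] δ i) : R) : Γ(E.left, ⊤)) =
        ((sec2 E w).left.appLE OE ⊤ hT).hom (∑ i, mulFun E C ⊤ V (b i) (δ i)) := by
    intro w hw hT n b hb δ
    rw [map_sum, map_sum, AddSubmonoidClass.coe_finset_sum]
    refine Finset.sum_congr rfl fun i _ => ?_
    simp only [ev, Algebra.TensorProduct.lift_tmul, AlgHom.coe_id, id_eq, AlgHom.comp_apply, MulMemClass.coe_mul]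
    show b i * strMap E ⊤ (kval V w hw (δ i)) =
      (sec2 E w).left.appLE OE ⊤ hT ((fst E C).left.appLE ⊤ OE _ (b i) * (snd E C).left.appLE V OE _ (δ i))
    rw [map_mul, ← CommRingCat.comp_apply, Scheme.Hom.appLE_comp_appLE, ← CommRingCat.comp_apply,
      Scheme.Hom.appLE_comp_appLE]
    refine congrArg₂ (· * ·) ?_ ?_
    · rw [appLE_eq_of_eq (show (sec2 E w).left ≫ (fst E C).left = 𝟙 E.left by
        rw [← Over.comp_left, show sec2 E w ≫ fst E C = 𝟙 E from lift_fst _ _]; rfl)]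
      simp [Scheme.Hom.appLE]
    · rw [appLE_eq_of_eq (show (sec2 E w).left ≫ (snd E C).left = (toUnit E ≫ w).left by
        rw [← Over.comp_left, show sec2 E w ≫ snd E C = toUnit E ≫ w from lift_snd _ _])]
      exact (appLE_const w hw _ _).symm
  have hsec : ∀ (w : 𝟙k ⟶ C), kpt w ∈ V → (⊤ : E.left.Opens) ≤ (sec2 E w).left ⁻¹ᵁ OE := by
    intro w hw y _
    refine ⟨trivial, ?_⟩
    show (snd E C).left ((sec2 E w).left y) ∈ V
    rw [← Scheme.Hom.comp_apply, ← Over.comp_left, show sec2 E w ≫ snd E C = toUnit E ≫ w from lift_snd _ _,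
      Over.comp_left, Scheme.Hom.comp_apply, Subsingleton.elim (α := PrimeSpectrum k) ((toUnit E).left y)
        (IsLocalRing.closedPoint k)]
    exact hw
  have hval : ∀ (w : 𝟙k ⟶ C) (hw : kpt w ∈ V) (z : Γ((E ⊗ C).left, ⊤)) ,
      ((sec2 E w).left.appLE OE ⊤ (hsec w hw)).hom (ro le_top z) = (sec2 E w).left.appTop.hom z := fun w hw z => by
    rw [appLE_ro, Scheme.Hom.appTop, Scheme.Hom.app_eq_appLE]
    rfl
  have hgval : ∀ w (hw : kpt w ∈ V), ((ev w hw g : R) : Γ(E.left, ⊤)) = (sec2 E w).left.appTop.hom u := fun w hw => by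
    rw [hev w hw (hsec w hw) a (fun i => Algebra.subset_adjoin (Or.inl ⟨i, rfl⟩)) ε,
      ← hG, hval w hw]
  have hg'val : ∀ w (hw : kpt w ∈ V), ((ev w hw g' : R) : Γ(E.left, ⊤)) = (sec2 E w).left.appTop.hom (↑hu.unit⁻¹) := fun w hw => by
    rw [hev w hw (hsec w hw) a' (fun i => Algebra.subset_adjoin (Or.inr ⟨i, rfl⟩)) ε', ← hG', hval w hw]
  have hgu : IsUnit g := by
    refine IsUnit.of_mul_eq_one g' (sub_eq_zero.1 ?_)
    have hz : ∀ w (hw : kpt w ∈ V), ev w hw (g * g' - 1) = 0 := fun w hw => Subtype.ext (by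
      rw [map_sub, map_mul, map_one]
      show ((ev w hw g : R) : Γ(E.left, ⊤)) * (ev w hw g' : R) - 1 = 0
      rw [hgval, hg'val, ← map_mul, IsUnit.mul_val_inv, map_one, sub_self])
    let b := Module.Free.chooseBasis k Γ(C.left, V)
    let φ := TensorProduct.equivFinsuppOfBasisRight (M := R) b (g * g' - 1)
    have hx : g * g' - 1 = φ.sum fun i m => m ⊗ₜ[k] b i := by
      rw [← TensorProduct.equivFinsuppOfBasisRight_symm_apply, LinearEquiv.symm_apply_apply]
    rw [hx]
    refine Finset.sum_eq_zero fun i hi => ?_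
    suffices φ i = 0 by simp [this]
    refine (Module.forall_dual_apply_eq_zero_iff k _).1 fun ψ => ?_
    have h0 : ∑ j ∈ φ.support, ψ (φ j) • b j = 0 := by
      refine eq_of_kval fun w hw => ?_
      rw [map_sum, map_zero]
      have := congrArg ψ (hz w hw)
      rw [hx, Finsupp.sum, map_sum, map_sum, map_zero] at this
      refine Eq.trans (Finset.sum_congr rfl fun j _ => ?_) this
      show kv w hw (ψ (φ j) • b j) = ψ (ev w hw (φ j ⊗ₜ[k] b j))
      simp only [ev, Algebra.TensorProduct.lift_tmul, AlgHom.coe_id, id_eq, AlgHom.comp_apply, map_smul]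
      rw [Algebra.ofId_apply, ← Algebra.commutes, ← Algebra.smul_def, map_smul, smul_eq_mul, smul_eq_mul, mul_comm]
    exact linearIndependent_iff'.1 b.linearIndependent _ _ h0 i hi
  obtain ⟨v₀⟩ : Nonempty (R →ₐ[k] k) := by
    haveI : Nontrivial R := inferInstance
    obtain ⟨m, hm⟩ := Ideal.exists_maximal R
    haveI : Algebra.IsIntegral k (R ⧸ m) :=
      letI := Ideal.Quotient.field m
      haveI : Module.Finite k (R ⧸ m) := finite_of_finite_type_of_isJacobsonRing k (R ⧸ m)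
      Algebra.IsIntegral.of_finite k _
    letI := Ideal.Quotient.field m
    exact ⟨(AlgEquiv.ofBijective (Algebra.ofId k (R ⧸ m))
      (IsAlgClosed.algebraMap_bijective_of_isIntegral)).symm.toAlgHom.comp (Ideal.Quotient.mkₐ k m)⟩
  have hpair : ∀ (v : R →ₐ[k] k) w (hw : kpt w ∈ V), v (ev w hw g) = pairVal v (kv w hw) g := fun v w hw => by
    have : v.comp (ev w hw) = pairVal v (kv w hw) :=
      Algebra.TensorProduct.ext' fun r s => by simp [ev, pairVal]
    exact DFunLike.congr_fun this g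
  obtain ⟨q', hq'⟩ := hgu.map (ev c' hc')
  let q : R := ev c hc g * ↑q'⁻¹
  let l := v₀ q
  refine ⟨l, ?_⟩
  have hq : q = algebraMap k R l := by
    rw [← sub_eq_zero]
    refine eq_zero_of_forall_point (k := k) fun v => ?_
    rw [map_sub, AlgHom.commutes, Algebra.algebraMap_self, RingHom.id_apply, sub_eq_zero]
    have hne : ∀ v : R →ₐ[k] k, v (ev c' hc' g) ≠ 0 := fun v => ((hgu.map (ev c' hc')).map v).ne_zero
    have hq0 : ∀ v : R →ₐ[k] k, v q = v (ev c hc g) / v (ev c' hc' g) := fun v => by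
      rw [eq_div_iff (hne v), ← map_mul]
      show v (ev c hc g * ↑q'⁻¹ * ev c' hc' g) = _
      rw [mul_assoc, ← hq', Units.inv_mul, mul_one]
    show v q = v₀ q
    rw [hq0, hq0, div_eq_div_iff (hne v) (hne v₀), hpair, hpair, hpair, hpair, mul_comm (pairVal v₀ (kv c hc) g)]
    exact unit_split g hgu v v₀ (kv c hc) (kv c' hc')
  have hfin : ev c hc g = algebraMap k R l * ev c' hc' g := by
    rw [← hq]
    show _ = ev c hc g * ↑q'⁻¹ * ev c' hc' g
    rw [mul_assoc, ← hq', Units.inv_mul, mul_one]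
  have := congrArg (fun z : R => (z : Γ(E.left, ⊤))) hfin
  simp only [MulMemClass.coe_mul] at this
  rw [hgval, hgval] at this
  exact this

/-- A unit which is one at a point has constant values. -/
theorem exists_const_of_eq_one (u : Γ((E ⊗ C).left, ⊤)) (hu : IsUnit u) (c₀ c : 𝟙k ⟶ C)
    (h₀ : (sec2 E c₀).left.appTop.hom u = 1) : ∃ l : k, (sec2 E c).left.appTop.hom u = strMap E ⊤ l := by
  haveI : JacobsonSpace C.left := LocallyOfFiniteType.jacobsonSpace C.hom
  obtain ⟨_, ⟨V₁, hV₁, rfl⟩, h₁, -⟩ := C.left.isBasis_affineOpens.exists_subset_of_mem_open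
    (Set.mem_univ (kpt c)) isOpen_univ
  obtain ⟨_, ⟨V₂, hV₂, rfl⟩, h₂, -⟩ := C.left.isBasis_affineOpens.exists_subset_of_mem_open
    (Set.mem_univ (kpt c₀)) isOpen_univ
  obtain ⟨z, hz, hzc⟩ := nonempty_inter_closedPoints
    (nonempty_preirreducible_inter V₁.2 V₂.2 ⟨_, h₁⟩ ⟨_, h₂⟩) (V₁ ⊓ V₂).2.isLocallyClosed
  obtain ⟨m, rfl⟩ := exists_kpt z hzc
  obtain ⟨l, hl⟩ := exists_const_ratio_of_affine E C V₁ hV₁ u hu c m h₁ hz.1
  obtain ⟨l', hl'⟩ := exists_const_ratio_of_affine E C V₂ hV₂ u hu m c₀ hz.2 h₂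
  exact ⟨l * l', by rw [hl, hl', h₀, mul_one, map_mul]⟩

end Groth.L08.Cube.NP
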