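import Groth.Agent.L08.Cube.NP.BaseChange
import Groth.Agent.L08.Cube.NP.UnitConst

/-!
# An invertible module on a triple product of smooth varieties trivial on three slices is trivial
-/

set_option autoImplicit false
set_option linter.style.haveILetI false
set_option linter.unusedSectionVars false
set_option maxSynthPendingDepth 3
set_option backward.isDefEq.respectTransparency false

universe u

open CategoryTheory CategoryTheory.Limits MonoidalCategory CartesianMonoidalCategory AlgebraicGeometry TopologicalSpace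

noncomputable section

namespace Groth.L08.Cube.NP

open Groth.Agent.AbDualLib

attribute [local instance] clMonoid

variable {k : Type u} [Field k] [IsAlgClosed k]

local notation "𝟙k" => (𝟙_ (Over (Spec (CommRingCat.of k))))

namespace Trn

variable {P T T' T'' : Scheme.{u}} {M : P.Modules} {φ : T ⟶ P}

theorem comap_comap' (t : Trn M φ) (ψ : T' ⟶ T) (χ : T' ⟶ P) (h : ψ ≫ φ = χ) (ψ' : T'' ⟶ T') (χ' : T'' ⟶ P)
    (h' : ψ' ≫ χ = χ') {ψ'' : T'' ⟶ T} (e : ψ' ≫ ψ = ψ'') :
    (t.comap ψ χ h).comap ψ' χ' h' = t.comap ψ'' χ' (by rw [← e, Category.assoc, h, h']) := by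
  subst e
  exact t.comap_comap ψ χ h ψ' χ' h'

theorem of_pullCl_eq_one (φ : T ⟶ P) (h : PicF.pullCl φ (PicF.cl M) = 1) : Nonempty (Trn M φ) :=
  Trn.nonempty_of_iso φ ((PicGrp.cl_eq_cl_iff _ _).1 h)

end Trn

theorem comp_sec2' {W X Y : Over (Spec (CommRingCat.of k))} (f : X ⟶ Y) (w : 𝟙k ⟶ W) :
    sec2 X w ≫ (f ▷ W) = f ≫ sec2 Y w := by
  apply CartesianMonoidalCategory.hom_ext
  · simp
  · simp only [Category.assoc, whiskerRight_snd, lift_snd]
    rw [← Category.assoc, toUnit_unique (f ≫ toUnit Y) (toUnit X)]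

/-- **An invertible module on a product of three smooth varieties which is trivial on three
coordinate slices is trivial.** -/
theorem trivial_triple (A B C : Over (Spec (CommRingCat.of k)))
    [Smooth A.hom] [GeometricallyIntegral A.hom] [IsSeparated A.hom] [QuasiCompact A.hom]
    [Smooth B.hom] [GeometricallyIntegral B.hom] [IsSeparated B.hom] [QuasiCompact B.hom]
    [Smooth C.hom] [GeometricallyIntegral C.hom] [IsSeparated C.hom] [QuasiCompact C.hom]
    (N : (A ⊗ B ⊗ C).left.Modules) (hN : PicF.IsInvertible N) (a₀ : 𝟙k ⟶ A) (b₀ : 𝟙k ⟶ B) (c₀ : 𝟙k ⟶ C)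
    (h₁ : sliceCl N (toUnit (B ⊗ C) ≫ a₀) (fst B C) (snd B C) = 1)
    (h₂ : sliceCl N (fst A C) (toUnit _ ≫ b₀) (snd A C) = 1)
    (h₃ : sliceCl N (fst A B) (snd A B) (toUnit _ ≫ c₀) = 1) : PicF.cl N = 1 := by
  haveI : AlgebraicGeometry.IsIntegral A.left := GeometricallyIntegral.isIntegral_of_subsingleton A.hom
  haveI : AlgebraicGeometry.IsIntegral B.left := GeometricallyIntegral.isIntegral_of_subsingleton B.hom
  haveI : AlgebraicGeometry.IsIntegral C.left := GeometricallyIntegral.isIntegral_of_subsingleton C.hom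
  haveI := smooth_tensor B C
  haveI := geometricallyIntegral_tensor B C
  haveI := smooth_tensor A (B ⊗ C)
  haveI := geometricallyIntegral_tensor A (B ⊗ C)
  haveI : AlgebraicGeometry.IsIntegral (B ⊗ C).left := GeometricallyIntegral.isIntegral_of_subsingleton (B ⊗ C).hom
  haveI : AlgebraicGeometry.IsIntegral (A ⊗ B ⊗ C).left :=
    GeometricallyIntegral.isIntegral_of_subsingleton (A ⊗ B ⊗ C).hom
  -- slices in the second factor
  have hb : ∀ b : 𝟙k ⟶ B, sliceCl N (fst A C) (toUnit _ ≫ b) (snd A C) = 1 := by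
    intro b
    let φ : B ⊗ A ⊗ C ⟶ A ⊗ B ⊗ C := lift (snd B (A ⊗ C) ≫ fst A C) (lift (fst B (A ⊗ C)) (snd B (A ⊗ C) ≫ snd A C))
    have hsl : ∀ {T : Over (Spec (CommRingCat.of k))} (x : T ⟶ A) (y : T ⟶ B) (z : T ⟶ C),
        sliceCl ((Scheme.Modules.pullback φ.left).obj N) y x z = sliceCl N x y z := by
      intro T x y z
      show PicF.pullCl _ (PicF.pullCl φ.left (PicF.cl N)) = _
      rw [← PicLoc.pullCl_comp, ← Over.comp_left]
      simp [φ, sliceCl]
    have h3' : sliceCl N (snd B A) (fst B A) (toUnit (B ⊗ A) ≫ c₀) = 1 := by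
      have := congrArg (PicF.pullCl (lift (snd B A) (fst B A)).left) h₃
      rw [pullCl_sliceCl, pullCl_one] at this
      simpa [← Category.assoc, toUnit_unique (lift (snd B A) (fst B A) ≫ toUnit (A ⊗ B)) (toUnit _)] using this
    have h := trivial_slice B A C ((Scheme.Modules.pullback φ.left).obj N) (PicLoc.isInvertible_pullback _ hN)
      b₀ a₀ c₀ (by rw [hsl]; exact h₂) (by rw [hsl]; exact h₁) (by rw [hsl]; exact h3') b
    rwa [hsl] at h
  -- the geometric generic point of the first factor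
  let L := AlgebraicClosure A.left.functionField
  let g : Spec (CommRingCat.of L) ⟶ A.left :=
    Spec.map (CommRingCat.ofHom (algebraMap A.left.functionField L)) ≫ A.left.fromSpecStalk (genericPoint A.left)
  let E : Over (Spec (CommRingCat.of k)) := Over.mk (g ≫ A.hom)
  let η : E ⟶ A := Over.homMk g rfl
  haveI : IsAffine E.left := inferInstanceAs (IsAffine (Spec (CommRingCat.of L)))
  haveI : Subsingleton E.left := inferInstanceAs (Subsingleton (PrimeSpectrum L))
  haveI : AlgebraicGeometry.IsIntegral E.left := inferInstanceAs (AlgebraicGeometry.IsIntegral (Spec (CommRingCat.of L)))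
  haveI : IsDominant η.left := by
    refine ⟨?_⟩
    have hgen : ∀ y : E.left, η.left y = genericPoint A.left := fun y => by
      show g y = _
      rw [Scheme.Hom.comp_apply, show (Spec.map (CommRingCat.ofHom (algebraMap A.left.functionField L))) y =
        IsLocalRing.closedPoint A.left.functionField from
          @Subsingleton.elim (PrimeSpectrum A.left.functionField) _ _ _]
      exact Scheme.fromSpecStalk_closedPoint
    intro x
    refine closure_mono (show ({genericPoint A.left} : Set A.left) ⊆ Set.range η.left from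
      Set.singleton_subset_iff.2 ⟨Classical.arbitrary _, hgen _⟩) ?_
    rw [(genericPoint_spec A.left).def]
    trivial
  let θ := (η ▷ (B ⊗ C)).left
  obtain ⟨F₀⟩ := Trn.of_pullCl_eq_one θ
    (trivial_at_field_point (g ≫ A.hom) A B C N hN a₀ b₀ c₀ h₁ h₂ h₃ η)
  -- normalise along the slice at `c₀`
  let σ₀ : A ⊗ B ⟶ A ⊗ B ⊗ C := lift (fst A B) (lift (snd A B) (toUnit _ ≫ c₀))
  obtain ⟨t₀⟩ := Trn.of_pullCl_eq_one σ₀.left h₃
  let ρ : E ⊗ B ⟶ E ⊗ B ⊗ C := lift (fst E B) (lift (snd E B) (toUnit _ ≫ c₀))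
  let π : E ⊗ B ⊗ C ⟶ E ⊗ B := lift (fst E (B ⊗ C)) (snd E (B ⊗ C) ≫ fst B C)
  let θ₀ : (E ⊗ B).left ⟶ (A ⊗ B ⊗ C).left := ((η ▷ B) ≫ σ₀).left
  have hρ : ρ ≫ (η ▷ (B ⊗ C)) = (η ▷ B) ≫ σ₀ := by
    apply CartesianMonoidalCategory.hom_ext
    · simp [ρ, σ₀]
    · apply CartesianMonoidalCategory.hom_ext
      · simp [ρ, σ₀]
      · simp only [ρ, σ₀, Category.assoc, whiskerRight_snd_assoc, lift_snd_assoc, lift_snd, whiskerRight_snd]
        rw [← Category.assoc, toUnit_unique ((η ▷ B) ≫ toUnit (A ⊗ B)) (toUnit (E ⊗ B))]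
  have hρl : ρ.left ≫ θ = θ₀ := by rw [← Over.comp_left, hρ]
  have hσl : (η ▷ B).left ≫ σ₀.left = θ₀ := by
    show _ = ((η ▷ B) ≫ σ₀).left
    rw [Over.comp_left]
  obtain ⟨μ, hμ, hμe⟩ := Trn.exists_smul_eq hN (F₀.comap ρ.left θ₀ hρl) (t₀.comap (η ▷ B).left θ₀ hσl)
  let F := F₀.smul (π.left.appTop.hom μ) (hμ.map _)
  have hFρ : F.comap ρ.left θ₀ hρl = t₀.comap (η ▷ B).left θ₀ hσl := by
    rw [Trn.comap_smul, ← hμe]
    refine Trn.smul_congr _ ?_ _
    rw [← CommRingCat.comp_apply, ← Scheme.Hom.comp_appTop, ← Over.comp_left,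
      show ρ ≫ π = 𝟙 _ by apply CartesianMonoidalCategory.hom_ext <;> simp [ρ, π]]
    simp
  refine (PicGrp.cl_eq_cl_iff _ _).2 (nonempty_iso_of_slices η N hN F fun w => ?_)
  let b := w ≫ fst B C
  let c := w ≫ snd B C
  -- a trivialisation on the slice at `b`
  let σb : A ⊗ C ⟶ A ⊗ B ⊗ C := lift (fst A C) (lift (toUnit _ ≫ b) (snd A C))
  obtain ⟨T₀⟩ := Trn.of_pullCl_eq_one σb.left (hb b)
  let χ₀ : A ⟶ A ⊗ B ⊗ C := sec2 A (lift b c₀)
  have hw : ∀ (X : Over (Spec (CommRingCat.of k))) (b : 𝟙k ⟶ B) (c : 𝟙k ⟶ C),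
      sec2 X c ≫ lift (fst X C) (lift (toUnit _ ≫ b) (snd X C)) = sec2 X (lift b c) := by
    intro X b c
    simp only [comp_lift, lift_fst, lift_snd]
    rw [← Category.assoc, toUnit_unique (sec2 X c ≫ toUnit (X ⊗ C)) (toUnit X)]
    simp only [sec2, comp_lift]
  have hw' : ∀ (X : Over (Spec (CommRingCat.of k))) (b : 𝟙k ⟶ B) (c : 𝟙k ⟶ C),
      sec2 X b ≫ lift (fst X B) (lift (snd X B) (toUnit _ ≫ c)) = sec2 X (lift b c) := by
    intro X b c
    simp only [comp_lift, lift_fst, lift_snd]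
    rw [← Category.assoc, toUnit_unique (sec2 X b ≫ toUnit (X ⊗ B)) (toUnit X)]
    simp only [sec2, comp_lift]
  have hl1 : (sec2 A c₀).left ≫ σb.left = χ₀.left := by rw [← Over.comp_left, hw]
  have hl2 : (sec2 A b).left ≫ σ₀.left = χ₀.left := by rw [← Over.comp_left, hw']
  obtain ⟨ν, hν, hνe⟩ := Trn.exists_smul_eq hN (T₀.comap (sec2 A c₀).left χ₀.left hl1)
    (t₀.comap (sec2 A b).left χ₀.left hl2)
  let T := T₀.smul ((fst A C).left.appTop.hom ν) (hν.map _)
  have hT : T.comap (sec2 A c₀).left χ₀.left hl1 = t₀.comap (sec2 A b).left χ₀.left hl2 := by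
    rw [Trn.comap_smul, ← hνe]
    refine Trn.smul_congr _ ?_ _
    rw [← CommRingCat.comp_apply, ← Scheme.Hom.comp_appTop, ← Over.comp_left,
      show sec2 A c₀ ≫ fst A C = 𝟙 _ from lift_fst _ _]
    simp
  -- compare over the geometric generic point
  let ρb : E ⊗ C ⟶ E ⊗ B ⊗ C := lift (fst E C) (lift (toUnit _ ≫ b) (snd E C))
  let θb : (E ⊗ C).left ⟶ (A ⊗ B ⊗ C).left := ((η ▷ C) ≫ σb).left
  have hρb : ρb ≫ (η ▷ (B ⊗ C)) = (η ▷ C) ≫ σb := by
    apply CartesianMonoidalCategory.hom_ext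
    · simp [ρb, σb]
    · apply CartesianMonoidalCategory.hom_ext
      · simp only [ρb, σb, Category.assoc, whiskerRight_snd_assoc, lift_snd_assoc, lift_fst, lift_snd,
          whiskerRight_snd]
        exact (congrArg (· ≫ b) (toUnit_unique _ _)).trans (Category.assoc _ _ _)
      · simp [ρb, σb]
  have hρbl : ρb.left ≫ θ = θb := by rw [← Over.comp_left, hρb]
  have hσbl : (η ▷ C).left ≫ σb.left = θb := by
    show _ = ((η ▷ C) ≫ σb).left
    rw [Over.comp_left]
  obtain ⟨v, hv, hve⟩ := Trn.exists_smul_eq hN (T.comap (η ▷ C).left θb hσbl) (F.comap ρb.left θb hρbl)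
  let χE : E.left ⟶ (A ⊗ B ⊗ C).left := (η ≫ χ₀).left
  have hcomp : ∀ {X Y Z : Over (Spec (CommRingCat.of k))} {f : X ⟶ Y} {g : Y ⟶ Z} {m : X ⟶ Z},
      f ≫ g = m → f.left ≫ g.left = m.left := fun h => by rw [← h, Over.comp_left]
  have hv0 : (sec2 E c₀).left.appTop.hom v = 1 := by
    have he1 : (sec2 E c₀).left ≫ θb = χE := by
      refine hcomp (g := (η ▷ C) ≫ σb) ?_
      rw [← Category.assoc, comp_sec2', Category.assoc, hw]
    have key := congrArg (fun t => Trn.comap t (sec2 E c₀).left χE he1) hve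
    simp only [Trn.comap_smul] at key
    rw [T.comap_comap' _ _ _ _ _ _ (hcomp (comp_sec2' η c₀)),
      ← T.comap_comap' (sec2 A c₀).left χ₀.left hl1 η.left χE (hcomp rfl) (hcomp rfl), hT,
      t₀.comap_comap' _ _ _ _ _ _ (hcomp (comp_sec2' η b).symm),
      F.comap_comap' _ _ _ _ _ _ (hcomp (show sec2 E c₀ ≫ ρb = sec2 E b ≫ ρ by rw [hw, hw'])),
      ← F.comap_comap' ρ.left θ₀ hρl (sec2 E b).left χE (by
        refine hcomp (g := (η ▷ B) ≫ σ₀) ?_
        rw [← Category.assoc, comp_sec2', Category.assoc, hw']) (hcomp rfl), hFρ,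
      t₀.comap_comap' _ _ _ _ _ _ (hcomp rfl)] at key
    exact Trn.smul_cancel hN _ (key.trans (Trn.smul_one _).symm)
  obtain ⟨l, hl⟩ := exists_const_of_eq_one E C v hv c₀ c hv0
  have hlu : IsUnit (strMap A ⊤ l) := by
    refine IsUnit.map _ (Ne.isUnit fun h0 => ?_)
    haveI : Nonempty (⊤ : E.left.Opens) := ⟨⟨Classical.arbitrary _, trivial⟩⟩
    exact (hv.map (sec2 E c).left.appTop.hom).ne_zero (by rw [hl, h0, map_zero])
  have hwc : sec2 A c ≫ σb = sec2 A w := by
    rw [hw, show lift b c = w by apply CartesianMonoidalCategory.hom_ext <;> simp [b, c]]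
  refine ⟨(T.comap (sec2 A c).left (sec2 A w).left (hcomp hwc)).smul (strMap A ⊤ l) hlu, ?_⟩
  have he2 : (sec2 E c).left ≫ θb = (η ≫ sec2 A w).left := by
    refine hcomp (g := (η ▷ C) ≫ σb) ?_
    rw [← Category.assoc, comp_sec2', Category.assoc, hwc]
  have key := congrArg (fun t => Trn.comap t (sec2 E c).left (η ≫ sec2 A w).left he2) hve
  simp only [Trn.comap_smul] at key
  have hρc : sec2 E c ≫ ρb = sec2 E w := by
    rw [hw, show lift b c = w by apply CartesianMonoidalCategory.hom_ext <;> simp [b, c]]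
  rw [Trn.comap_smul, T.comap_comap' _ _ _ _ _ _ (hcomp (comp_sec2' η c).symm)]
  rw [T.comap_comap' _ _ _ _ _ _ (hcomp rfl), F.comap_comap' _ _ _ _ _ _ (hcomp hρc)] at key
  refine Eq.trans (Trn.smul_congr _ ?_ _) key
  rw [hl]
  show η.left.appTop (A.hom.appLE ⊤ ⊤ le_top ((Scheme.ΓSpecIso (CommRingCat.of k)).inv l)) =
    E.hom.appLE ⊤ ⊤ le_top ((Scheme.ΓSpecIso (CommRingCat.of k)).inv l)
  rw [Scheme.Hom.appTop, Scheme.Hom.app_eq_appLE, ← CommRingCat.comp_apply (A.hom.appLE _ _ _),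
    Scheme.Hom.appLE_comp_appLE, appLE_eq_of_eq (Over.w η)]
  rfl

end Groth.L08.Cube.NP
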